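import Mathlib

/-!
Pairs of involutions in a group `2^{1+4}.A5` whose product powers to the central involution.
-/

set_option autoImplicit false

namespace Cfsg.Agent.H73.JankoPairs

open Subgroup

theorem a5_card_invol :
    Fintype.card {k : alternatingGroup (Fin 5) // k * k = 1 ∧ k ≠ 1} = 15 := by decide +kernel

theorem a5_fixed : ∀ k : alternatingGroup (Fin 5), k * k = 1 → k ≠ 1 →
    ∃ i : Fin 5, (k : Equiv.Perm (Fin 5)) i = i ∧ ∀ j : Fin 5, (k : Equiv.Perm (Fin 5)) j = j → j = i := by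
  decide +kernel

theorem a5_three : ∀ k : alternatingGroup (Fin 5), k * k = 1 → ∀ i : Fin 5,
    (k : Equiv.Perm (Fin 5)) i = i → ∃ a : alternatingGroup (Fin 5),
      a ^ 3 = 1 ∧ (a : Equiv.Perm (Fin 5)) i = i ∧ (a⁻¹ * k) ^ 3 = 1 := by
  decide +kernel

/-- `C = Q K`, `Q` of order 32 with centre and derived group `{1,z}`, `K ≅ A5` acting faithfully. -/
structure Setting (C : Type*) [Group C] where
  z : C
  Q : Subgroup C
  K : Subgroup C
  normal : Q.Normal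
  hz1 : z ≠ 1
  hzz : z * z = 1
  hzQ : z ∈ Q
  zc : ∀ c : C, c * z = z * c
  card : Nat.card Q = 32
  comm : ∀ a ∈ Q, ∀ b ∈ Q, a * b = b * a ∨ a * b = z * (b * a)
  sq : ∀ a ∈ Q, a * a = 1 ∨ a * a = z
  noncentral : ∀ a ∈ Q, a ≠ 1 → a ≠ z → ∃ b ∈ Q, a * b ≠ b * a
  cent : ∀ c : C, (∀ a ∈ Q, c * a = a * c) → c ∈ Q
  e : K ≃* alternatingGroup (Fin 5)
  disj : Q ⊓ K = ⊥
  sup : Q ⊔ K = ⊤

variable {C : Type*} [Group C] [Finite C] (S : Setting C)

/-- The noncentral involutions of `Q`. -/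
def Setting.J : Set C := {a | a ∈ S.Q ∧ a * a = 1 ∧ a ≠ 1 ∧ a ≠ S.z}

namespace Setting

theorem mul_mul_of_comm {a b : C} (h : a * b = b * a) : a * b * (a * b) = a * a * (b * b) := by
  calc a * b * (a * b) = a * (b * a) * b := by group
    _ = a * (a * b) * b := by rw [h]
    _ = a * a * (b * b) := by group

theorem mul_mul_of_not_comm {a b : C} (ha : a ∈ S.Q) (hb : b ∈ S.Q) (h : a * b ≠ b * a) :
    a * b * (a * b) = S.z * (a * a * (b * b)) := by
  have h1 : b * a = S.z * (a * b) := (S.comm b hb a ha).resolve_left (Ne.symm h)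
  calc a * b * (a * b) = a * (b * a) * b := by group
    _ = a * S.z * (a * b) * b := by rw [h1]; group
    _ = S.z * (a * a * (b * b)) := by rw [S.zc a]; group

theorem not_comm_mul_iff {w a b : C} (hw : w ∈ S.Q) (ha : a ∈ S.Q) (hb : b ∈ S.Q) :
    (w * (a * b) = a * b * w) ↔ ((w * a = a * w) ↔ (w * b = b * w)) := by
  rcases S.comm w hw a ha with h1 | h1 <;> rcases S.comm w hw b hb with h2 | h2
  · simp only [h1, h2, iff_self, iff_true]
    rw [← mul_assoc, h1, mul_assoc, h2, mul_assoc]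
  · have e : w * (a * b) = S.z * (a * b * w) := by
      rw [← mul_assoc, h1, mul_assoc, h2, ← mul_assoc a, S.zc a]; group
    simp only [h1, h2, mul_eq_right, S.hz1, iff_false, e, not_true_eq_false]
  · have e : w * (a * b) = S.z * (a * b * w) := by
      rw [← mul_assoc, h1, mul_assoc S.z, mul_assoc a, h2]; group
    simp only [h1, h2, mul_eq_right, S.hz1, e, iff_true]
  · have e : w * (a * b) = a * b * w := by
      calc w * (a * b) = S.z * (a * (w * b)) := by rw [← mul_assoc, h1]; group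
        _ = S.z * (a * S.z) * (b * w) := by rw [h2]; group
        _ = (S.z * S.z) * (a * (b * w)) := by rw [S.zc a]; group
        _ = a * b * w := by rw [S.hzz, one_mul, mul_assoc]
    simp only [h1, h2, mul_eq_right, S.hz1, e, iff_true]

theorem ncard_Q : (S.Q : Set C).ncard = 32 := by
  rw [← Nat.card_coe_set_eq]; exact S.card

/-- A flipping translation halves a set. -/
theorem ncard_half {T : Set C} {p : C → Prop} (a : C) (ha : ∀ w ∈ T, a * w ∈ T)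
    (ha' : ∀ w ∈ T, a⁻¹ * w ∈ T) (hflip : ∀ w ∈ T, (p (a * w) ↔ ¬ p w)) :
    2 * {w | w ∈ T ∧ p w}.ncard = T.ncard := by
  have h1 : {w | w ∈ T ∧ ¬ p w}.ncard = {w | w ∈ T ∧ p w}.ncard := by
    refine Set.ncard_congr (fun w _ => a * w) (fun w hw => ⟨ha w hw.1, (hflip w hw.1).mpr hw.2⟩)
      (fun w v _ _ h => mul_left_cancel h) fun w hw => ⟨a⁻¹ * w, ⟨ha' w hw.1, fun h => ?_⟩, by simp⟩
    have := (hflip _ (ha' w hw.1))
    rw [mul_inv_cancel_left] at this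
    exact this.mp hw.2 h
  have h2 : T = {w | w ∈ T ∧ p w} ∪ {w | w ∈ T ∧ ¬ p w} := by
    ext w; by_cases h : p w <;> simp [h]
  conv_rhs => rw [h2]
  rw [Set.ncard_union_eq (Set.disjoint_left.mpr fun w h h' => h'.2 h.2) (Set.toFinite _)
    (Set.toFinite _), h1, two_mul]

/-- The elements of `Q` commuting with `a`. -/
def CQ (a : C) : Set C := {w | w ∈ S.Q ∧ w * a = a * w}

theorem flip {a b w : C} (ha : a ∈ S.Q) (hb : b ∈ S.Q) (hw : w ∈ S.Q) (hab : b * a ≠ a * b) :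
    ((b * w) * a = a * (b * w)) ↔ ¬ (w * a = a * w) := by
  have h := S.not_comm_mul_iff ha hb hw
  constructor
  · intro h1 h2
    exact hab ((h.mp h1.symm).mpr h2.symm).symm
  · intro h1
    exact (h.mpr ⟨fun h3 => absurd h3.symm hab, fun h3 => absurd h3.symm h1⟩).symm

theorem ncard_CQ {a : C} (ha : a ∈ S.Q) (h1 : a ≠ 1) (hz : a ≠ S.z) : (S.CQ a).ncard = 16 := by
  obtain ⟨b, hb, hab⟩ := S.noncentral a ha h1 hz
  have := ncard_half (T := (S.Q : Set C)) (p := fun w => w * a = a * w) b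
    (fun w hw => S.Q.mul_mem hb hw) (fun w hw => S.Q.mul_mem (S.Q.inv_mem hb) hw)
    (fun w hw => S.flip ha hb hw (Ne.symm hab))
  rw [S.ncard_Q] at this
  unfold CQ
  simp only [SetLike.mem_coe] at this
  omega

theorem exists_flip {x y : C} (hx : x ∈ S.Q) (hy : y ∈ S.Q) (hx1 : x ≠ 1) (hxz : x ≠ S.z)
    (hy1 : y ≠ 1) (hyz : y ≠ S.z) (hxy : x * y ≠ 1) (hxyz : x * y ≠ S.z) :
    ∃ a ∈ S.Q, a * x ≠ x * a ∧ a * y = y * a := by
  by_contra hcon
  push Not at hcon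
  have hsub : S.CQ y ⊆ S.CQ x := fun w hw => ⟨hw.1, by
    by_contra h; exact hcon w hw.1 h hw.2⟩
  have heq : S.CQ y = S.CQ x := Set.eq_of_subset_of_ncard_le hsub
    (by rw [S.ncard_CQ hx hx1 hxz, S.ncard_CQ hy hy1 hyz]) (Set.toFinite _)
  obtain ⟨b, hb, hne⟩ := S.noncentral (x * y) (S.Q.mul_mem hx hy) hxy hxyz
  refine hne ((S.not_comm_mul_iff hb hx hy).mpr ?_).symm
  have := Set.ext_iff.mp heq b
  exact ⟨fun h => (this.mpr ⟨hb, h⟩).2, fun h => (this.mp ⟨hb, h⟩).2⟩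

theorem ncard_CQ_inter {x y : C} (hx : x ∈ S.Q) (hy : y ∈ S.Q) (hx1 : x ≠ 1) (hxz : x ≠ S.z)
    (hy1 : y ≠ 1) (hyz : y ≠ S.z) (hxy : x * y ≠ 1) (hxyz : x * y ≠ S.z) :
    {w | w ∈ S.CQ y ∧ w * x = x * w}.ncard = 8 := by
  obtain ⟨a, ha, hax, hay⟩ := S.exists_flip hx hy hx1 hxz hy1 hyz hxy hxyz
  have hmem : ∀ b ∈ S.Q, b * y = y * b → ∀ w ∈ S.CQ y, b * w ∈ S.CQ y := fun b hb hby w hw =>
    ⟨S.Q.mul_mem hb hw.1, by rw [mul_assoc, hw.2, ← mul_assoc, hby, mul_assoc]⟩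
  have := ncard_half (T := S.CQ y) (p := fun w => w * x = x * w) a
    (hmem a ha hay) (hmem a⁻¹ (S.Q.inv_mem ha)
      ((Commute.inv_left (show Commute a y from hay)).eq))
    (fun w hw => S.flip hx ha hw.1 hax)
  rw [S.ncard_CQ hy hy1 hyz] at this
  omega

/-- An element of order five. -/
theorem exists_five : ∃ g ∈ S.K, orderOf g = 5 := by
  haveI : Fact (Nat.Prime 5) := ⟨Nat.prime_five⟩
  have : 5 ∣ Nat.card S.K := by
    rw [Nat.card_congr S.e.toEquiv, nat_card_alternatingGroup, Nat.card_fin]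
    decide
  obtain ⟨g, hg⟩ := exists_prime_orderOf_dvd_card' 5 this
  exact ⟨g, g.2, by rw [Subgroup.orderOf_coe, hg]⟩

theorem five_dvd {g : C} (hg : orderOf g = 5) {T : Set C} (hT : ∀ w ∈ T, g * w * g⁻¹ ∈ T)
    (hfix : ∀ w ∈ T, g * w * g⁻¹ ≠ w) : 5 ∣ T.ncard := by
  haveI : Fact (Nat.Prime 5) := ⟨Nat.prime_five⟩
  let f : T → T := fun w => ⟨g * w * g⁻¹, hT w w.2⟩
  have hinj : Function.Injective f := fun a b h => Subtype.ext (by
    simpa [f] using congrArg Subtype.val h)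
  let σ : Equiv.Perm T := Equiv.ofBijective f (Finite.injective_iff_bijective.mp hinj)
  have hpow : ∀ (i : ℕ) (w : T), ((σ ^ i) w : C) = g ^ i * w * (g ^ i)⁻¹ := by
    intro i
    induction i with
    | zero => simp
    | succ i ih =>
      intro w
      rw [pow_succ', Equiv.Perm.mul_apply]
      show g * ((σ ^ i) w : C) * g⁻¹ = _
      rw [ih, pow_succ']; group
  have h5 : σ ^ 5 ^ 1 = 1 := Equiv.ext fun w => Subtype.ext (by
    rw [pow_one, hpow, ← hg, pow_orderOf_eq_one]; simp)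
  classical
  haveI := Fintype.ofFinite T
  rw [← Nat.card_coe_set_eq, Nat.card_eq_fintype_card, Nat.dvd_iff_mod_eq_zero,
    show Fintype.card T % 5 = σ.supportᶜ.card % 5 from
      (Equiv.Perm.card_compl_support_modEq h5).symm]
  have : σ.supportᶜ = ∅ := Finset.eq_empty_of_forall_notMem fun w hw => by
    rw [Finset.mem_compl, Equiv.Perm.notMem_support] at hw
    exact hfix w w.2 (congrArg Subtype.val hw)
  rw [this]; rfl

theorem fixed_five {g : C} (hg : orderOf g = 5) {w : C} (hw : w ∈ S.Q)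
    (h : g * w * g⁻¹ = w) : w = 1 ∨ w = S.z := by
  haveI := S.normal
  set F : Subgroup C := S.Q ⊓ centralizer {g} with hF
  have hmem : ∀ w, w ∈ F ↔ w ∈ S.Q ∧ g * w * g⁻¹ = w := fun w => by
    rw [hF, Subgroup.mem_inf, mem_centralizer_singleton_iff, mul_inv_eq_iff_eq_mul]
    exact and_congr_right fun _ => eq_comm
  have hd := five_dvd hg (T := (S.Q : Set C) \ (F : Set C))
    (fun w hw => ⟨S.normal.conj_mem w hw.1 g, fun hc => hw.2 ((hmem w).mpr ⟨hw.1, by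
      have := ((hmem _).mp hc).2
      exact mul_left_cancel (mul_right_cancel this)⟩)⟩)
    (fun w hw hc => hw.2 ((hmem w).mpr ⟨hw.1, hc⟩))
  rw [Set.ncard_sdiff (fun x hx => ((hmem x).mp hx).1) (Set.toFinite _), S.ncard_Q,
    ← Nat.card_coe_set_eq] at hd
  have hdvd : Nat.card F ∣ 2 ^ 5 := by
    have := Subgroup.card_dvd_of_le (show F ≤ S.Q from inf_le_left)
    rwa [S.card] at this
  obtain ⟨i, hi, hFi⟩ := (Nat.dvd_prime_pow Nat.prime_two).mp hdvd
  have hF2 : 1 < Nat.card F := by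
    rw [one_lt_card_iff_ne_bot, Ne, eq_bot_iff]
    intro hb
    have hz : S.z ∈ F := (hmem _).mpr ⟨S.hzQ, by rw [S.zc g, mul_inv_cancel_right]⟩
    exact S.hz1 (mem_bot.mp (hb hz))
  have hd' : 5 ∣ 32 - 2 ^ i := by rw [← hFi]; exact hd
  have hi' : i = 1 ∨ i = 5 := by
    interval_cases i <;> first | omega | (norm_num at hd')
  rcases hi' with rfl | rfl
  · have hwF : w ∈ (F : Set C) := (hmem w).mpr ⟨hw, h⟩
    have hsub : ({1, S.z} : Set C) ⊆ (F : Set C) := by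
      rintro x (rfl | rfl)
      · exact one_mem _
      · exact (hmem _).mpr ⟨S.hzQ, by rw [S.zc g, mul_inv_cancel_right]⟩
    have : ({1, S.z} : Set C) = (F : Set C) := Set.eq_of_subset_of_ncard_le hsub (by
      rw [Set.ncard_pair (Ne.symm S.hz1), ← Nat.card_coe_set_eq]
      exact le_of_eq hFi) (Set.toFinite _)
    rw [← this] at hwF
    exact hwF
  · exfalso
    have hgQ : g ∈ S.Q := S.cent g fun a ha => by
      have hle : F = S.Q := Subgroup.eq_of_le_of_card_ge inf_le_left (by rw [S.card]; exact ge_of_eq hFi)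
      have := ((hmem a).mp (hle ▸ ha)).2
      rwa [mul_inv_eq_iff_eq_mul] at this
    have := S.card ▸ orderOf_dvd_natCard (⟨g, hgQ⟩ : S.Q)
    rw [← Subgroup.orderOf_coe, hg] at this
    norm_num at this

theorem J_mul_z {a : C} (h : a ∈ S.J) : a * S.z ∈ S.J := by
  obtain ⟨hQ, hsq, h1, hz⟩ := h
  refine ⟨S.Q.mul_mem hQ S.hzQ, ?_, fun h => hz ?_, fun h => h1 ?_⟩
  · rw [mul_mul_of_comm (S.zc a), hsq, S.hzz, one_mul]
  · rw [← mul_one a, ← S.hzz, ← mul_assoc, h, one_mul]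
  · exact mul_right_cancel (h.trans (one_mul _).symm)

theorem J_conj {a : C} (h : a ∈ S.J) (c : C) : c * a * c⁻¹ ∈ S.J := by
  obtain ⟨hQ, hsq, h1, hz⟩ := h
  refine ⟨S.normal.conj_mem a hQ c, ?_, fun h => h1 ?_, fun h => hz ?_⟩
  · calc c * a * c⁻¹ * (c * a * c⁻¹) = c * (a * a) * c⁻¹ := by group
      _ = 1 := by rw [hsq]; group
  · calc a = c⁻¹ * (c * a * c⁻¹) * c := by group
      _ = 1 := by rw [h]; group
  · calc a = c⁻¹ * (c * a * c⁻¹) * c := by group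
      _ = S.z := by rw [h, S.zc, mul_assoc, inv_mul_cancel, mul_one]

theorem five_dvd_J : 5 ∣ S.J.ncard := by
  obtain ⟨g, -, hg⟩ := S.exists_five
  refine five_dvd hg (fun w hw => S.J_conj hw g) fun w hw h => ?_
  rcases S.fixed_five hg hw.1 h with h' | h'
  · exact hw.2.2.1 h'
  · exact hw.2.2.2 h'

theorem ncard_outside {x : C} (hx : x ∈ S.J) :
    {w | w ∈ S.J ∧ w * x ≠ x * w}.ncard = 8 := by
  obtain ⟨hQ, hsq, h1, hz⟩ := hx
  set T : Set C := (S.Q : Set C) \ S.CQ x with hT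
  have hTc : T.ncard = 16 := by
    rw [hT, Set.ncard_sdiff (fun w hw => hw.1) (Set.toFinite _), S.ncard_Q, S.ncard_CQ hQ h1 hz]
  have hxinv : x⁻¹ = x := inv_eq_of_mul_eq_one_right hsq
  have hmv : ∀ w ∈ T, x * w ∈ T := fun w hw => ⟨S.Q.mul_mem hQ hw.1, fun hc => hw.2 ⟨hw.1, by
    have := hc.2
    rw [mul_assoc] at this
    exact mul_left_cancel this⟩⟩
  have := ncard_half (T := T) (p := fun w => w * w = 1) x hmv (by rw [hxinv]; exact hmv)
    (fun w hw => by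
      rw [S.mul_mul_of_not_comm hQ hw.1 fun h => hw.2 ⟨hw.1, h.symm⟩, hsq, one_mul]
      rcases S.sq w hw.1 with h | h
      · rw [h, mul_one]; exact iff_of_false S.hz1 (not_not.mpr rfl)
      · rw [h, S.hzz]; exact iff_of_true rfl S.hz1)
  rw [hTc] at this
  have heq : {w | w ∈ S.J ∧ w * x ≠ x * w} = {w | w ∈ T ∧ w * w = 1} := by
    ext w
    constructor
    · rintro ⟨⟨hwQ, hw2, -, -⟩, hne⟩
      exact ⟨⟨hwQ, fun h => hne h.2⟩, hw2⟩
    · rintro ⟨⟨hwQ, hn⟩, hw2⟩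
      refine ⟨⟨hwQ, hw2, fun h => hn ⟨hwQ, ?_⟩, fun h => hn ⟨hwQ, ?_⟩⟩, fun h => hn ⟨hwQ, h⟩⟩
      · rw [h, one_mul, mul_one]
      · rw [h, S.zc x]
  rw [heq]; omega

/-- Commuting noncentral involutions of `Q` are equal modulo `z`. -/
theorem eq_of_commute {x y : C} (hx : x ∈ S.J) (hy : y ∈ S.J) (hc : x * y = y * x) :
    y = x ∨ y = x * S.z := by
  by_contra hne
  push Not at hne
  have hxy1 : x * y ≠ 1 := fun h => hne.1 (mul_left_cancel (h.trans hx.2.1.symm))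
  have hxyz : x * y ≠ S.z := fun h => hne.2 (by rw [← h, ← mul_assoc, hx.2.1, one_mul])
  obtain ⟨hxQ, hx2, hx1, hxz⟩ := id hx
  obtain ⟨hyQ, hy2, hy1, hyz⟩ := id hy
  set W : Set C := {w | w ∈ S.CQ x ∧ w * y = y * w} with hW
  have hWc : W.ncard = 8 := S.ncard_CQ_inter hyQ hxQ hy1 hyz hx1 hxz (hc ▸ hxy1) (hc ▸ hxyz)
  set E : Subgroup C := closure {S.z, x, y} with hE
  -- every element of `E` is an involution of `W`
  have hgen : ∀ w ∈ E, (w ∈ W ∧ w * w = 1) ∧ ∀ v ∈ ({S.z, x, y} : Set C), w * v = v * w := by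
    intro w hw
    refine closure_induction (p := fun w _ => (w ∈ W ∧ w * w = 1) ∧
      ∀ v ∈ ({S.z, x, y} : Set C), w * v = v * w) ?_ ?_ ?_ ?_ hw
    · rintro v (rfl | rfl | rfl)
      · exact ⟨⟨⟨⟨S.hzQ, (S.zc x).symm⟩, (S.zc y).symm⟩, S.hzz⟩, fun v _ => (S.zc v).symm⟩
      · exact ⟨⟨⟨⟨hxQ, rfl⟩, hc⟩, hx2⟩, by
          rintro v (rfl | rfl | rfl)
          · exact S.zc _
          · rfl
          · exact hc⟩
      · exact ⟨⟨⟨⟨hyQ, hc.symm⟩, rfl⟩, hy2⟩, by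
          rintro v (rfl | rfl | rfl)
          · exact S.zc _
          · exact hc.symm
          · rfl⟩
    · exact ⟨⟨⟨⟨S.Q.one_mem, by simp⟩, by simp⟩, by simp⟩, fun v _ => by simp⟩
    · rintro a b _ _ ⟨⟨⟨⟨haQ, -⟩, -⟩, ha2⟩, hca⟩ ⟨⟨⟨⟨hbQ, -⟩, -⟩, hb2⟩, hcb⟩
      have hmul : ∀ v ∈ ({S.z, x, y} : Set C), a * b * v = v * (a * b) := fun v hv => by
        rw [mul_assoc, hcb v hv, ← mul_assoc, hca v hv, mul_assoc]
      refine ⟨⟨⟨⟨S.Q.mul_mem haQ hbQ, hmul x (by simp)⟩, hmul y (by simp)⟩, ?_⟩, hmul⟩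
      have hab : a * b = b * a := by
        rename_i ha' hb'
        refine closure_induction (p := fun v _ => a * v = v * a) (fun v hv => hca v hv) (by simp)
          (fun u v _ _ hu hv => by rw [← mul_assoc, hu, mul_assoc, hv, ← mul_assoc])
          (fun u _ hu => ((show Commute a u from hu).inv_right).eq) hb'
      rw [mul_mul_of_comm hab, ha2, hb2, one_mul]
    · rintro a _ ⟨⟨⟨⟨haQ, h1⟩, h2⟩, ha2⟩, hca⟩
      have : a⁻¹ = a := inv_eq_of_mul_eq_one_right ha2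
      rw [this]
      exact ⟨⟨⟨⟨haQ, h1⟩, h2⟩, ha2⟩, hca⟩
  have hEW : (E : Set C) ⊆ W := fun w hw => (hgen w hw).1.1
  have hzE : S.z ∈ E := subset_closure (by simp)
  have hxE : x ∈ E := subset_closure (by simp)
  have hyE : y ∈ E := subset_closure (by simp)
  have h5 : ({1, S.z, x, x * S.z, y} : Set C) ⊆ (E : Set C) := by
    rintro w (rfl | rfl | rfl | rfl | rfl)
    exacts [E.one_mem, hzE, hxE, E.mul_mem hxE hzE, hyE]
  have h5c : ({1, S.z, x, x * S.z, y} : Set C).ncard = 5 := by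
    have hxz' := S.J_mul_z hx
    rw [Set.ncard_insert_of_notMem, Set.ncard_insert_of_notMem, Set.ncard_insert_of_notMem,
      Set.ncard_pair]
    · exact Ne.symm hne.2
    · rintro (h | h)
      · exact S.hz1 (mul_left_cancel (a := x) (b := S.z) (c := 1) (by rw [mul_one]; exact h.symm))
      · exact hne.1 (Eq.symm h)
    · rintro (h | h | h)
      · exact hxz h.symm
      · exact hxz'.2.2.2 h.symm
      · exact hyz (Eq.symm h)
    · rintro (h | h | h | h)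
      · exact S.hz1 h.symm
      · exact hx1 h.symm
      · exact hxz'.2.2.1 h.symm
      · exact hy1 (Eq.symm h)
  have hEcard : Nat.card E = 8 := by
    have hle : (E : Set C).ncard ≤ 8 := hWc ▸ Set.ncard_le_ncard hEW (Set.toFinite _)
    have hge : 5 ≤ (E : Set C).ncard := h5c ▸ Set.ncard_le_ncard h5 (Set.toFinite _)
    have hdvd : Nat.card E ∣ 2 ^ 5 := by
      have := Subgroup.card_dvd_of_le (show E ≤ S.Q from fun w hw => ((hgen w hw).1.1).1.1)
      rwa [S.card] at this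
    obtain ⟨i, hi, hEi⟩ := (Nat.dvd_prime_pow Nat.prime_two).mp hdvd
    rw [← Nat.card_coe_set_eq] at hle hge
    change Nat.card E ≤ 8 at hle
    change 5 ≤ Nat.card E at hge
    rw [hEi] at hle hge ⊢
    interval_cases i <;> omega
  have hWE : (E : Set C) = W := Set.eq_of_subset_of_ncard_le hEW (by
    rw [hWc, ← Nat.card_coe_set_eq]; exact ge_of_eq hEcard) (Set.toFinite _)
  -- the three parts of `J`
  set T1 : Set C := S.CQ x \ W with hT1
  have hT1c : T1.ncard = 8 := by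
    rw [hT1, Set.ncard_sdiff (fun w hw => hw.1) (Set.toFinite _), S.ncard_CQ hxQ hx1 hxz, hWc]
  have hyinv : y⁻¹ = y := inv_eq_of_mul_eq_one_right hy2
  have hmv : ∀ w ∈ T1, y * w ∈ T1 := fun w hw =>
    ⟨⟨S.Q.mul_mem hyQ hw.1.1, by rw [mul_assoc, hw.1.2, ← mul_assoc, hc.symm, mul_assoc]⟩,
      fun h => hw.2 ⟨hw.1, by have := h.2; rw [mul_assoc] at this; exact mul_left_cancel this⟩⟩
  have h4 := ncard_half (T := T1) (p := fun w => w * w = 1) y hmv (by rw [hyinv]; exact hmv)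
    (fun w hw => by
      rw [S.mul_mul_of_not_comm hyQ hw.1.1 fun h => hw.2 ⟨hw.1, h.symm⟩, hy2, one_mul]
      rcases S.sq w hw.1.1 with h | h
      · rw [h, mul_one]; exact iff_of_false S.hz1 (not_not.mpr rfl)
      · rw [h, S.hzz]; exact iff_of_true rfl S.hz1)
  have hJ : S.J = (W \ {1, S.z}) ∪ ({w | w ∈ T1 ∧ w * w = 1} ∪ {w | w ∈ S.J ∧ w * x ≠ x * w}) := by
    ext w
    constructor
    · intro hw
      by_cases h1 : w * x = x * w
      · by_cases h2 : w * y = y * w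
        · refine Or.inl ⟨⟨⟨hw.1, h1⟩, h2⟩, ?_⟩
          rintro (h | h)
          · exact hw.2.2.1 h
          · exact hw.2.2.2 h
        · exact Or.inr (Or.inl ⟨⟨⟨hw.1, h1⟩, fun h => h2 h.2⟩, hw.2.1⟩)
      · exact Or.inr (Or.inr ⟨hw, h1⟩)
    · rintro (⟨hw, hne'⟩ | ⟨⟨hw, hn⟩, hw2⟩ | ⟨hw, -⟩)
      · have hwE : w ∈ (E : Set C) := hWE ▸ hw
        exact ⟨hw.1.1, (hgen w hwE).1.2, fun h => hne' (Or.inl h), fun h => hne' (Or.inr h)⟩
      · refine ⟨hw.1, hw2, fun h => hn ⟨hw, ?_⟩, fun h => hn ⟨hw, ?_⟩⟩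
        · rw [h, one_mul, mul_one]
        · rw [h, S.zc y]
      · exact hw
  have h5J := S.five_dvd_J
  rw [hJ, Set.ncard_union_eq ?_ (Set.toFinite _) (Set.toFinite _),
    Set.ncard_union_eq ?_ (Set.toFinite _) (Set.toFinite _), S.ncard_outside hx,
    Set.ncard_sdiff ?_ (Set.toFinite _), Set.ncard_pair (Ne.symm S.hz1), hWc] at h5J
  · omega
  · rw [← hWE]
    rintro w (rfl | rfl)
    exacts [E.one_mem, hzE]
  · exact Set.disjoint_left.mpr fun w hw hw' => hw'.2 hw.1.1.2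
  · refine Set.disjoint_left.mpr fun w hw hw' => ?_
    rcases hw' with hw' | hw'
    · exact hw'.1.2 hw.1
    · exact hw'.2 hw.1.1.2

theorem exists_mem_J : ∃ x, x ∈ S.J := by
  obtain ⟨a, haQ, ha1, haz⟩ : ∃ a ∈ S.Q, a ≠ 1 ∧ a ≠ S.z := by
    by_contra h
    push Not at h
    have : (S.Q : Set C).ncard ≤ ({1, S.z} : Set C).ncard := Set.ncard_le_ncard (fun w hw => by
      by_cases h1 : w = 1
      · exact Or.inl h1
      · exact Or.inr (h w hw h1)) (Set.toFinite _)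
    rw [S.ncard_Q, Set.ncard_pair (Ne.symm S.hz1)] at this
    omega
  by_cases ha2 : a * a = 1
  · exact ⟨a, haQ, ha2, ha1, haz⟩
  have ha2' := (S.sq a haQ).resolve_left ha2
  obtain ⟨b, hb, hab⟩ := S.noncentral a haQ ha1 haz
  have hb1 : b ≠ 1 := fun h => hab (by rw [h, one_mul, mul_one])
  have hbz : b ≠ S.z := fun h => hab (by rw [h, S.zc])
  by_cases hb2 : b * b = 1
  · exact ⟨b, hb, hb2, hb1, hbz⟩
  have h8 := S.ncard_CQ_inter haQ hb ha1 haz hb1 hbz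
    (fun h => hab (by rw [eq_inv_of_mul_eq_one_left h]; group))
    (fun h => hab (by
      have hba : b = a⁻¹ * S.z := by rw [← h]; group
      rw [hba, ← mul_assoc, mul_inv_cancel, one_mul, mul_assoc, ← S.zc a, ← mul_assoc,
        inv_mul_cancel, one_mul]))
  obtain ⟨w, hw, hw'⟩ : ∃ w, w ∈ {w | w ∈ S.CQ b ∧ w * a = a * w} ∧ w ∉ ({1, S.z} : Set C) :=
    Set.exists_mem_notMem_of_ncard_lt_ncard
      (by rw [h8, Set.ncard_pair (Ne.symm S.hz1)]; norm_num) (Set.toFinite _)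
  by_cases hw2 : w * w = 1
  · exact ⟨w, hw.1.1, hw2, fun h => hw' (Or.inl h), fun h => hw' (Or.inr h)⟩
  refine ⟨a * w, S.Q.mul_mem haQ hw.1.1, ?_, ?_, ?_⟩
  · rw [mul_mul_of_comm hw.2.symm, ha2', (S.sq w hw.1.1).resolve_left hw2, S.hzz]
  · intro h
    have : a = w⁻¹ := eq_inv_of_mul_eq_one_left h
    exact hab (by rw [this]; exact (Commute.inv_left (show Commute w b from hw.1.2)).eq)
  · intro h
    have : a = S.z * w⁻¹ := by rw [← h]; group
    refine hab ?_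
    rw [this, mul_assoc, (Commute.inv_left (show Commute w b from hw.1.2)).eq, ← mul_assoc,
      ← S.zc b, mul_assoc]

theorem ncard_J : S.J.ncard = 10 := by
  obtain ⟨x, hx⟩ := S.exists_mem_J
  have hJ : S.J = {x, x * S.z} ∪ {w | w ∈ S.J ∧ w * x ≠ x * w} := by
    ext w
    constructor
    · intro hw
      by_cases h : w * x = x * w
      · exact Or.inl (S.eq_of_commute hx hw h.symm)
      · exact Or.inr ⟨hw, h⟩
    · rintro ((rfl | rfl) | ⟨hw, -⟩)
      exacts [hx, S.J_mul_z hx, hw]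
  rw [hJ, Set.ncard_union_eq ?_ (Set.toFinite _) (Set.toFinite _), S.ncard_outside hx,
    Set.ncard_pair]
  · exact fun h => S.hz1 (mul_left_cancel (h.symm.trans (mul_one x).symm))
  · refine Set.disjoint_left.mpr fun w hw hw' => hw'.2 ?_
    rcases hw with rfl | rfl
    · rfl
    · rw [mul_assoc, ← S.zc x]

/-- `z` as a subgroup. -/
def Z : Subgroup C where
  carrier := {1, S.z}
  one_mem' := Or.inl rfl
  mul_mem' := by
    rintro a b (rfl | rfl) (rfl | rfl)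
    exacts [Or.inl (one_mul _), Or.inr (one_mul _), Or.inr (mul_one _), Or.inl S.hzz]
  inv_mem' := by
    rintro a (rfl | rfl)
    exacts [Or.inl inv_one, Or.inr (inv_eq_of_mul_eq_one_right S.hzz)]

theorem mem_Z {a : C} : a ∈ S.Z ↔ a = 1 ∨ a = S.z := Iff.rfl

instance Z_normal : S.Z.Normal := ⟨fun a ha c => by
  rcases ha with rfl | rfl
  · simp [mem_Z]
  · rw [S.zc c, mul_inv_cancel_right]; exact Or.inr rfl⟩

theorem mk_eq_iff {a b : C} : (a : C ⧸ S.Z) = b ↔ b = a ∨ b = a * S.z := by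
  rw [QuotientGroup.eq, mem_Z, inv_mul_eq_iff_eq_mul, mul_one, inv_mul_eq_iff_eq_mul]

/-- The five pairs `{a, az}`. -/
def P5 : Set (C ⧸ S.Z) := QuotientGroup.mk '' S.J

theorem ncard_P5 : Nat.card S.P5 = 5 := by
  have hpre : (QuotientGroup.mk (s := S.Z)) ⁻¹' S.P5 = S.J := by
    ext a
    constructor
    · rintro ⟨b, hb, hba⟩
      rcases (S.mk_eq_iff).mp hba with rfl | rfl
      exacts [hb, S.J_mul_z hb]
    · exact fun h => ⟨a, h, rfl⟩
  have h := Nat.card_congr (QuotientGroup.preimageMkEquivSubgroupProdSet S.Z S.P5)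
  rw [hpre, Nat.card_prod, Nat.card_coe_set_eq, S.ncard_J,
    show Nat.card S.Z = 2 from (Nat.card_coe_set_eq _).trans (Set.ncard_pair (Ne.symm S.hz1))] at h
  omega

theorem conj_P5 (c : C) (p : C ⧸ S.Z) :
    (MulAut.conj (c : C ⧸ S.Z)).toEquiv p ∈ S.P5 ↔ p ∈ S.P5 := by
  have key : ∀ c : C, ∀ p ∈ S.P5, (c : C ⧸ S.Z) * p * (c : C ⧸ S.Z)⁻¹ ∈ S.P5 := by
    rintro c _ ⟨a, ha, rfl⟩
    exact ⟨c * a * c⁻¹, S.J_conj ha c, by simp⟩
  refine ⟨fun h => ?_, key c p⟩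
  have := key c⁻¹ _ h
  simpa [mul_assoc] using this

/-- The action on the five pairs. -/
def act : C →* Equiv.Perm S.P5 where
  toFun c := Equiv.Perm.subtypePerm (MulAut.conj (c : C ⧸ S.Z)).toEquiv (S.conj_P5 c)
  map_one' := Equiv.ext fun p => Subtype.ext (by simp)
  map_mul' a b := Equiv.ext fun p => Subtype.ext (by
    show ((a * b : C) : C ⧸ S.Z) * p * ((a * b : C) : C ⧸ S.Z)⁻¹ =
      (a : C ⧸ S.Z) * ((b : C ⧸ S.Z) * p * (b : C ⧸ S.Z)⁻¹) * (a : C ⧸ S.Z)⁻¹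
    rw [QuotientGroup.mk_mul]; group)

theorem act_apply {a : C} (ha : a ∈ S.J) (c : C) :
    ((S.act c ⟨(a : C ⧸ S.Z), a, ha, rfl⟩ : S.P5) : C ⧸ S.Z) = (↑(c * a * c⁻¹) : C ⧸ S.Z) := by
  simp [act]

/-- `A5` on the five pairs. -/
noncomputable def pts : S.P5 ≃ Fin 5 :=
  (Finite.equivFin S.P5).trans (finCongr S.ncard_P5)

/-- The induced permutations of five points. -/
noncomputable def hom5 : S.K →* Equiv.Perm (Fin 5) :=
  (Equiv.permCongrHom S.pts).toMonoidHom.comp (S.act.comp S.K.subtype)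

theorem hom5_injective : Function.Injective S.hom5 := by
  set ψ := S.hom5.comp S.e.symm.toMonoidHom with hψ
  haveI : IsSimpleGroup (alternatingGroup (Fin 5)) := alternatingGroup.isSimpleGroup_five
  rcases (inferInstance : ψ.ker.Normal).eq_bot_or_eq_top with h | h
  · intro a b hab
    have := (ψ.ker_eq_bot_iff).mp h (a₁ := S.e a) (a₂ := S.e b) (by simpa [hψ] using hab)
    exact S.e.injective this
  exfalso
  obtain ⟨g, hgK, hg⟩ := S.exists_five
  have hone : S.act g = 1 := by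
    have h1 : ψ (S.e ⟨g, hgK⟩) = 1 := MonoidHom.mem_ker.mp (h ▸ Subgroup.mem_top _)
    have h2 : (Equiv.permCongrHom S.pts) (S.act g) = 1 := by simpa [hψ, hom5] using h1
    exact (MulEquiv.map_eq_one_iff _).mp h2
  obtain ⟨x, hx⟩ := S.exists_mem_J
  have h3 := S.act_apply hx g
  rw [hone] at h3
  have hfix2 : (g * g) * x * (g * g)⁻¹ = x := by
    rcases (S.mk_eq_iff).mp h3 with h4 | h4
    · calc (g * g) * x * (g * g)⁻¹ = g * (g * x * g⁻¹) * g⁻¹ := by group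
        _ = x := by rw [h4, h4]
    · calc (g * g) * x * (g * g)⁻¹ = g * (g * x * g⁻¹) * g⁻¹ := by group
        _ = g * (x * S.z) * g⁻¹ := by rw [h4]
        _ = g * x * g⁻¹ * S.z := by rw [← mul_assoc, mul_assoc (g * x) S.z, ← S.zc g⁻¹]; group
        _ = x := by rw [h4, mul_assoc, S.hzz, mul_one]
  have hgg : orderOf (g * g) = 5 := by rw [← pow_two, orderOf_pow' _ two_ne_zero, hg]; rfl
  rcases S.fixed_five hgg hx.1 hfix2 with h' | h'
  · exact hx.2.2.1 h'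
  · exact hx.2.2.2 h'

theorem hom5_range : S.hom5.range = alternatingGroup (Fin 5) := by
  refine Equiv.Perm.eq_alternatingGroup_of_index_eq_two ?_
  have h := S.hom5.range.card_mul_index
  rw [show Nat.card S.hom5.range = Nat.card S.K from
      (Nat.card_congr (MonoidHom.ofInjective S.hom5_injective).toEquiv).symm,
    Nat.card_congr S.e.toEquiv, nat_card_alternatingGroup, Nat.card_fin, Nat.card_perm,
    Nat.card_fin] at h
  norm_num [Nat.factorial] at h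
  omega

/-- `x` is fixed by `k`, and every other pair moves. -/
theorem k_facts {k : C} (hk : k ∈ S.K) (hk2 : k * k = 1) (hk1 : k ≠ 1) :
    ∃ x ∈ S.J, k * x * k⁻¹ = x ∧
      ∀ y ∈ S.J, (k * y * k⁻¹ = y ∨ k * y * k⁻¹ = y * S.z) → y = x ∨ y = x * S.z := by
  have hmem : ∀ a : S.K, S.hom5 a ∈ alternatingGroup (Fin 5) := fun a => S.hom5_range ▸ ⟨a, rfl⟩
  set K' : alternatingGroup (Fin 5) := ⟨_, hmem ⟨k, hk⟩⟩ with hK'
  have hK2 : K' * K' = 1 := Subtype.ext (by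
    show S.hom5 ⟨k, hk⟩ * S.hom5 ⟨k, hk⟩ = 1
    rw [← map_mul, show (⟨k, hk⟩ : S.K) * ⟨k, hk⟩ = 1 from Subtype.ext hk2, map_one])
  have hK1 : K' ≠ 1 := fun h => hk1 (by
    have h1 : S.hom5 ⟨k, hk⟩ = S.hom5 1 := by rw [map_one]; exact congrArg Subtype.val h
    exact congrArg Subtype.val (S.hom5_injective h1))
  obtain ⟨i, hi, huniq⟩ := a5_fixed K' hK2 hK1
  obtain ⟨x, hx, hxi⟩ := (S.pts.symm i).2
  have hpt : S.pts ⟨(x : C ⧸ S.Z), x, hx, rfl⟩ = i := by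
    have : (⟨(x : C ⧸ S.Z), x, hx, rfl⟩ : S.P5) = S.pts.symm i := Subtype.ext hxi
    rw [this, Equiv.apply_symm_apply]
  have happ : ∀ (a : S.K) (y : C) (hy : y ∈ S.J), S.hom5 a (S.pts ⟨(y : C ⧸ S.Z), y, hy, rfl⟩) =
      S.pts (S.act a ⟨(y : C ⧸ S.Z), y, hy, rfl⟩) := fun a y hy => by
    simp [hom5, Equiv.permCongrHom, Equiv.permCongr_apply]
  have hiff : ∀ (a : S.K) (y : C) (hy : y ∈ S.J),
      S.hom5 a (S.pts ⟨(y : C ⧸ S.Z), y, hy, rfl⟩) = S.pts ⟨(y : C ⧸ S.Z), y, hy, rfl⟩ ↔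
        ((a : C) * y * (a : C)⁻¹ = y ∨ (a : C) * y * (a : C)⁻¹ = y * S.z) := fun a y hy => by
    rw [happ, S.pts.injective.eq_iff, Subtype.ext_iff, S.act_apply hy, eq_comm, S.mk_eq_iff]
    all_goals exact hy
  -- elements of order three fixing the pair fix `x`
  have hthree : ∀ a : S.K, (S.hom5 a) ^ 3 = 1 → S.hom5 a i = i → (a : C) * x * (a : C)⁻¹ = x := by
    intro a ha hai
    rw [← hpt] at hai
    refine ((hiff a x hx).mp hai).resolve_right fun h => ?_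
    have h3 : (a : C) ^ 3 = 1 := by
      have : S.hom5 (a ^ 3) = S.hom5 1 := by rw [map_pow, ha, map_one]
      exact congrArg Subtype.val (S.hom5_injective this)
    have : (a : C) ^ 3 * x * ((a : C) ^ 3)⁻¹ = x * S.z := by
      calc (a : C) ^ 3 * x * ((a : C) ^ 3)⁻¹
          = (a : C) * ((a : C) * ((a : C) * x * (a : C)⁻¹) * (a : C)⁻¹) * (a : C)⁻¹ := by
            simp [pow_succ, mul_assoc]
        _ = (a : C) * ((a : C) * (x * S.z) * (a : C)⁻¹) * (a : C)⁻¹ := by rw [h]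
        _ = (a : C) * (((a : C) * x * (a : C)⁻¹) * S.z) * (a : C)⁻¹ := by
          rw [show (a : C) * (x * S.z) * (a : C)⁻¹ = (a : C) * x * (a : C)⁻¹ * S.z by
            rw [← mul_assoc (a : C) x, mul_assoc ((a : C) * x) S.z, ← S.zc (a : C)⁻¹, ← mul_assoc]]
        _ = (a : C) * (x * S.z * S.z) * (a : C)⁻¹ := by rw [h]
        _ = (a : C) * x * (a : C)⁻¹ := by rw [mul_assoc x, S.hzz, mul_one]
        _ = x * S.z := h
    rw [h3, one_mul, inv_one, mul_one] at this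
    exact S.hz1 (mul_left_cancel (this.symm.trans (mul_one x).symm))
  refine ⟨x, hx, ?_, fun y hy h => ?_⟩
  · obtain ⟨b, hb, hbi, hbk⟩ := a5_three K' hK2 i hi
    obtain ⟨a, ha⟩ : (b : Equiv.Perm (Fin 5)) ∈ S.hom5.range := by rw [S.hom5_range]; exact b.2
    have hb' : (S.hom5 a) ^ 3 = 1 := by rw [ha]; exact congrArg Subtype.val hb
    have hbk' : (S.hom5 (a⁻¹ * ⟨k, hk⟩)) ^ 3 = 1 := by
      rw [map_mul, map_inv, ha]; exact congrArg Subtype.val hbk
    have hfi : S.hom5 (a⁻¹ * ⟨k, hk⟩) i = i := by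
      rw [map_mul, map_inv, ha, Equiv.Perm.mul_apply, Equiv.Perm.inv_eq_iff_eq, hbi]
      exact hi
    have e1 := hthree a hb' (by rw [ha]; exact hbi)
    have e2 := hthree _ hbk' hfi
    simp only [Subgroup.coe_mul, Subgroup.coe_inv] at e2
    calc k * x * k⁻¹ = (a : C) * ((a : C)⁻¹ * k * x * ((a : C)⁻¹ * k)⁻¹) * (a : C)⁻¹ := by group
      _ = x := by rw [e2, e1]
  · have h1 := (hiff ⟨k, hk⟩ y hy).mpr h
    have h2 := huniq _ h1
    rw [← hpt, S.pts.injective.eq_iff, Subtype.ext_iff] at h2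
    exact (S.mk_eq_iff).mp h2.symm

theorem mul_comm_mk {a b : C} (ha : a ∈ S.Q) (hb : b ∈ S.Q) :
    (a : C ⧸ S.Z) * b = (b : C ⧸ S.Z) * a := by
  rw [← QuotientGroup.mk_mul, ← QuotientGroup.mk_mul, S.mk_eq_iff]
  rcases S.comm b hb a ha with h | h
  · exact Or.inl h
  · exact Or.inr (by rw [h, S.zc])

/-- The commutator with `k` modulo `z`. -/
def diff (k : C) : S.Q →* C ⧸ S.Z where
  toFun q := (↑((q : C)⁻¹ * (k * q * k⁻¹)) : C ⧸ S.Z)
  map_one' := by simp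
  map_mul' a b := by
    have hb' := S.normal.conj_mem (b : C) b.2 k
    have ha' : (a : C)⁻¹ * (k * a * k⁻¹) ∈ S.Q :=
      S.Q.mul_mem (S.Q.inv_mem a.2) (S.normal.conj_mem (a : C) a.2 k)
    have h := S.mul_comm_mk (S.Q.inv_mem b.2) ha'
    calc (↑(((a * b : S.Q) : C)⁻¹ * (k * ((a * b : S.Q) : C) * k⁻¹)) : C ⧸ S.Z)
        = ((b : C)⁻¹ : C) * (↑((a : C)⁻¹ * (k * a * k⁻¹)) : C ⧸ S.Z) *
            ((k * b * k⁻¹ : C) : C ⧸ S.Z) := by
          rw [← QuotientGroup.mk_mul, ← QuotientGroup.mk_mul]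
          congr 1
          simp only [Subgroup.coe_mul]
          group
      _ = (↑((a : C)⁻¹ * (k * a * k⁻¹)) : C ⧸ S.Z) * (↑((b : C)⁻¹ * (k * b * k⁻¹)) : C ⧸ S.Z) := by
          rw [h, mul_assoc, ← QuotientGroup.mk_mul (S.Z) (b : C)⁻¹]

set_option maxHeartbeats 800000 in
theorem fibre {k : C} (hk : k ∈ S.K) (hk2 : k * k = 1) (hk1 : k ≠ 1) :
    {q | q ∈ S.Q ∧ q * k * (q * k) = 1}.ncard = 8 ∧
      ∀ q ∈ S.Q, q * k * (q * k) = 1 →
        {u | u ∈ S.J ∧ u * (q * k) ≠ q * k * u}.ncard = 8 ∧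
          ∀ u ∈ S.J, u * (q * k) ≠ q * k * u →
            q * k * u * (q * k)⁻¹ ≠ u ∧ q * k * u * (q * k)⁻¹ ≠ u * S.z := by
  obtain ⟨x, hx, hxk, huniq⟩ := S.k_facts hk hk2 hk1
  have hkinv : k⁻¹ = k := inv_eq_of_mul_eq_one_right hk2
  have hmoved : ∀ y ∈ S.J, y * x ≠ x * y → k * y * k⁻¹ ∈ S.J ∧ k * y * k⁻¹ ≠ y ∧
      k * y * k⁻¹ ≠ y * S.z := by
    intro y hy hne
    have hn : ¬ (y = x ∨ y = x * S.z) := by
      rintro (rfl | rfl)
      · exact hne rfl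
      · exact hne (by rw [mul_assoc, ← S.zc x])
    exact ⟨S.J_conj hy k, fun h => hn (huniq y hy (Or.inl h)), fun h => hn (huniq y hy (Or.inr h))⟩
  have hnc : ∀ {a b : C}, a ∈ S.J → b ∈ S.J → b ≠ a → b ≠ a * S.z → a * b ≠ b * a :=
    fun ha hb h1 h2 h => (S.eq_of_commute ha hb h).elim h1 h2
  have htwo : ∀ {w a b : C}, w ∈ S.Q → a ∈ S.Q → b ∈ S.Q → w * a ≠ a * w → w * b ≠ b * w →
      w * (a * b) = a * b * w := fun hw ha hb h1 h2 =>
    (S.not_comm_mul_iff hw ha hb).mpr (iff_of_false h1 h2)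
  -- two moved pairs
  obtain ⟨y1, hy1, hy1x⟩ : ∃ y, y ∈ S.J ∧ y * x ≠ x * y := by
    obtain ⟨y, hy⟩ : {w | w ∈ S.J ∧ w * x ≠ x * w}.Nonempty :=
      Set.nonempty_of_ncard_ne_zero (by rw [S.ncard_outside hx]; norm_num)
    exact ⟨y, hy⟩
  set y2 := k * y1 * k⁻¹ with hy2def
  obtain ⟨hy2, h21, h21z⟩ := hmoved y1 hy1 hy1x
  obtain ⟨y3, ⟨hy3, hy3x⟩, hy3n⟩ : ∃ y, y ∈ {w | w ∈ S.J ∧ w * x ≠ x * w} ∧
      y ∉ ({y1, y1 * S.z, y2, y2 * S.z} : Set C) := by
    refine Set.exists_mem_notMem_of_ncard_lt_ncard ?_ (Set.toFinite _)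
    rw [S.ncard_outside hx]
    refine lt_of_le_of_lt ((Set.ncard_insert_le _ _).trans (Nat.succ_le_succ
      ((Set.ncard_insert_le _ _).trans (Nat.succ_le_succ (Set.ncard_insert_le _ _))))) ?_
    rw [Set.ncard_singleton]; norm_num
  simp only [Set.mem_insert_iff, Set.mem_singleton_iff, not_or] at hy3n
  set y4 := k * y3 * k⁻¹ with hy4def
  obtain ⟨hy4, h43, h43z⟩ := hmoved y3 hy3 hy3x
  have hcx : ∀ y, y ∈ S.J → y * x ≠ x * y → (k * y * k⁻¹) * x ≠ x * (k * y * k⁻¹) := by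
    intro y _ hyx h
    refine hyx (mul_left_cancel (a := k) (mul_right_cancel (b := k⁻¹) ?_))
    calc k * (y * x) * k⁻¹ = k * y * k⁻¹ * (k * x * k⁻¹) := by group
      _ = (k * x * k⁻¹) * (k * y * k⁻¹) := by rw [hxk, h]
      _ = k * (x * y) * k⁻¹ := by group
  set a := y1 * y2 with ha
  set b := y3 * y4 with hb
  have haQ : a ∈ S.Q := S.Q.mul_mem hy1.1 hy2.1
  have hbQ : b ∈ S.Q := S.Q.mul_mem hy3.1 hy4.1
  have hax : x * a = a * x := htwo hx.1 hy1.1 hy2.1 (Ne.symm hy1x) (Ne.symm (hcx y1 hy1 hy1x))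
  have hbx : x * b = b * x := htwo hx.1 hy3.1 hy4.1 (Ne.symm hy3x) (Ne.symm (hcx y3 hy3 hy3x))
  have hsqz : ∀ {u v : C}, u ∈ S.J → v ∈ S.J → v ≠ u → v ≠ u * S.z → u * v * (u * v) = S.z :=
    fun hu hv h1 h2 => by
      rw [S.mul_mul_of_not_comm hu.1 hv.1 (hnc hu hv h1 h2), hu.2.1, hv.2.1, mul_one, mul_one]
  have ha2 : a * a = S.z := hsqz hy1 hy2 h21 h21z
  have hb2 : b * b = S.z := hsqz hy3 hy4 h43 h43z
  have hy1a : y1 * a ≠ a * y1 := by
    intro h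
    refine hnc hy1 hy2 h21 h21z (mul_left_cancel (a := y1) ?_)
    rw [← ha, h, ha, mul_assoc]
  have hy1b : y1 * b = b * y1 := by
    refine htwo hy1.1 hy3.1 hy4.1 (hnc hy1 hy3 hy3n.1 hy3n.2.1) (hnc hy1 hy4 ?_ ?_)
    · intro h
      apply hy3n.2.2.1
      rw [hy2def, ← h, hy4def, hkinv]
      calc y3 = (k * k) * y3 * (k * k) := by rw [hk2]; simp
        _ = k * (k * y3 * k) * k := by group
    · intro h
      apply hy3n.2.2.2
      rw [hy2def, hkinv]
      calc y3 = (k * k) * y3 * (k * k) := by rw [hk2]; simp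
        _ = k * (k * y3 * k⁻¹) * k := by rw [hkinv]; group
        _ = k * (y1 * S.z) * k := by rw [← hy4def, h]
        _ = k * y1 * k * S.z := by rw [← mul_assoc k y1, mul_assoc (k * y1) S.z, ← S.zc k]; group
  -- classes
  have hclass : (a : C ⧸ S.Z) ≠ 1 ∧ (b : C ⧸ S.Z) ≠ 1 ∧ (a : C ⧸ S.Z) ≠ b := by
    refine ⟨fun h => ?_, fun h => ?_, fun h => ?_⟩
    · rcases (QuotientGroup.eq_one_iff a).mp h with h' | h'
      · rw [h', one_mul] at ha2; exact S.hz1 ha2.symm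
      · rw [h', S.hzz] at ha2; exact S.hz1 ha2.symm
    · rcases (QuotientGroup.eq_one_iff b).mp h with h' | h'
      · rw [h', one_mul] at hb2; exact S.hz1 hb2.symm
      · rw [h', S.hzz] at hb2; exact S.hz1 hb2.symm
    · rcases (S.mk_eq_iff).mp h with h' | h'
      · exact hy1a (h' ▸ hy1b)
      · refine hy1a (mul_right_cancel (b := S.z) ?_)
        rw [h'] at hy1b
        rw [mul_assoc y1 a S.z, hy1b, mul_assoc a S.z, ← S.zc y1, ← mul_assoc]
  set f := S.diff k with hf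
  have hfy : ∀ y : C, ∀ hy : y ∈ S.J, f ⟨y, hy.1⟩ = (↑(y * (k * y * k⁻¹)) : C ⧸ S.Z) := fun y hy => by
    simp only [hf, diff, MonoidHom.coe_mk, OneHom.coe_mk]
    rw [inv_eq_of_mul_eq_one_right hy.2.1]
  have hker : Nat.card f.ker ≤ 8 := by
    have hsub : ({1, (a : C ⧸ S.Z), (b : C ⧸ S.Z)} : Set (C ⧸ S.Z)) ⊆ (f.range : Set (C ⧸ S.Z)) := by
      rintro w (rfl | rfl | rfl)
      · exact one_mem _
      · exact ⟨_, hfy y1 hy1⟩
      · exact ⟨_, hfy y3 hy3⟩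
    have h3 : 3 ≤ Nat.card f.range := by
      have := Set.ncard_le_ncard hsub (Set.toFinite _)
      rw [Set.ncard_insert_of_notMem (by
        rintro (h | h)
        · exact hclass.1 h.symm
        · exact hclass.2.1 h.symm), Set.ncard_pair hclass.2.2, ← Nat.card_coe_set_eq] at this
      exact this
    have hmul := f.ker.card_mul_index
    rw [Subgroup.index_ker, S.card] at hmul
    obtain ⟨i, -, hi⟩ := (Nat.dvd_prime_pow Nat.prime_two).mp
      (show Nat.card f.range ∣ 2 ^ 5 from ⟨_, by rw [mul_comm]; exact hmul.symm⟩)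
    have h4 : 4 ≤ Nat.card f.range := by
      rw [hi] at h3 ⊢
      rcases Nat.lt_or_ge i 2 with h | h
      · interval_cases i <;> norm_num at h3
      · exact le_trans (by norm_num) (Nat.pow_le_pow_right two_pos h)
    have hle := Nat.mul_le_mul_left (Nat.card f.ker) h4
    omega
  -- the set and its explicit elements
  set D : Set C := {q | q ∈ S.Q ∧ q * k * (q * k) = 1} with hD
  have hDiff : ∀ q : C, q * k * (q * k) = 1 ↔ k * q * k⁻¹ = q⁻¹ := fun q => by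
    rw [hkinv, mul_assoc q k, ← mul_assoc k q k, mul_eq_one_iff_eq_inv', mul_assoc]
  set E8 : Set C := {1, S.z, x, x * S.z, a, a * S.z, b, b * S.z} with hE8
  have hz' : ∀ q : C, k * q * k⁻¹ = q⁻¹ → k * (q * S.z) * k⁻¹ = (q * S.z)⁻¹ := fun q h => by
    rw [mul_inv_rev, inv_eq_of_mul_eq_one_right S.hzz, ← S.zc q⁻¹]
    calc k * (q * S.z) * k⁻¹ = k * q * (S.z * k⁻¹) := by group
      _ = k * q * k⁻¹ * S.z := by rw [← S.zc k⁻¹]; group
      _ = q⁻¹ * S.z := by rw [h]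
  have hprod : ∀ y : C, y ∈ S.J → k * (y * (k * y * k⁻¹)) * k⁻¹ = (y * (k * y * k⁻¹))⁻¹ := fun y hy => by
    have hkk : k * (k * y * k⁻¹) * k⁻¹ = y := by
      rw [hkinv]
      calc k * (k * y * k) * k = (k * k) * y * (k * k) := by group
        _ = y := by rw [hk2]; simp
    rw [mul_inv_rev, inv_eq_of_mul_eq_one_right (S.J_conj hy k).2.1,
      inv_eq_of_mul_eq_one_right hy.2.1]
    calc k * (y * (k * y * k⁻¹)) * k⁻¹ = k * y * k⁻¹ * (k * (k * y * k⁻¹) * k⁻¹) := by group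
      _ = k * y * k⁻¹ * y := by rw [hkk]
  have hED : E8 ⊆ D := by
    have h1 : k * (1 : C) * k⁻¹ = (1 : C)⁻¹ := by simp
    have hxx : k * x * k⁻¹ = x⁻¹ := by rw [hxk, inv_eq_of_mul_eq_one_right hx.2.1]
    rintro q (rfl | rfl | rfl | rfl | rfl | rfl | rfl | rfl) <;> refine ⟨?_, (hDiff _).mpr ?_⟩
    exacts [S.Q.one_mem, h1, S.hzQ, by simpa using hz' 1 h1, hx.1, hxx,
      S.Q.mul_mem hx.1 S.hzQ, hz' x hxx, haQ, hprod y1 hy1, S.Q.mul_mem haQ S.hzQ,
      hz' a (hprod y1 hy1), hbQ, hprod y3 hy3, S.Q.mul_mem hbQ S.hzQ, hz' b (hprod y3 hy3)]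
  have hE8c : E8.ncard = 8 := by
    have hxcl : (x : C ⧸ S.Z) ≠ 1 := fun h => by
      rcases (QuotientGroup.eq_one_iff x).mp h with h' | h'
      exacts [hx.2.2.1 h', hx.2.2.2 h']
    have hxa : (x : C ⧸ S.Z) ≠ a := fun h => by
      rcases (S.mk_eq_iff).mp h with h' | h'
      · rw [h', hx.2.1] at ha2; exact S.hz1 ha2.symm
      · rw [h', (S.J_mul_z hx).2.1] at ha2; exact S.hz1 ha2.symm
    have hxb : (x : C ⧸ S.Z) ≠ b := fun h => by
      rcases (S.mk_eq_iff).mp h with h' | h'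
      · rw [h', hx.2.1] at hb2; exact S.hz1 hb2.symm
      · rw [h', (S.J_mul_z hx).2.1] at hb2; exact S.hz1 hb2.symm
    have hEpre : E8 = (QuotientGroup.mk (s := S.Z)) ⁻¹'
        ({1, (x : C ⧸ S.Z), (a : C ⧸ S.Z), (b : C ⧸ S.Z)} : Set (C ⧸ S.Z)) := by
      ext q
      have key : ∀ v : C, (q : C ⧸ S.Z) = v ↔ (q = v ∨ q = v * S.z) := fun v => by
        rw [eq_comm, S.mk_eq_iff]
      simp only [hE8, Set.mem_preimage, Set.mem_insert_iff, Set.mem_singleton_iff, key,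
        show ((q : C ⧸ S.Z) = 1) ↔ (q = 1 ∨ q = S.z) from QuotientGroup.eq_one_iff q]
      tauto
    rw [hEpre, ← Nat.card_coe_set_eq,
      Nat.card_congr (QuotientGroup.preimageMkEquivSubgroupProdSet S.Z _), Nat.card_prod,
      show Nat.card S.Z = 2 from (Nat.card_coe_set_eq _).trans (Set.ncard_pair (Ne.symm S.hz1)),
      Nat.card_coe_set_eq, Set.ncard_insert_of_notMem, Set.ncard_insert_of_notMem,
      Set.ncard_pair hclass.2.2]
    · rintro (h | h)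
      exacts [hxa h, hxb h]
    · rintro (h | h | h)
      exacts [hxcl h.symm, hclass.1 h.symm, hclass.2.1 h.symm]
  have hDle : D.ncard ≤ 8 := by
    refine le_trans ?_ hker
    rw [← Nat.card_coe_set_eq]
    refine Nat.card_le_card_of_injective (fun q : D => (⟨⟨q, q.2.1⟩, ?_⟩ : f.ker))
      fun q r h => Subtype.ext (congrArg (fun w : f.ker => ((w : S.Q) : C)) h)
    rw [MonoidHom.mem_ker]
    simp only [hf, diff, MonoidHom.coe_mk, OneHom.coe_mk]
    rw [(hDiff _).mp q.2.2, QuotientGroup.eq_one_iff, mem_Z, ← mul_inv_rev]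
    rcases S.sq q q.2.1 with h | h
    · exact Or.inl (by rw [h, inv_one])
    · exact Or.inr (by rw [h, inv_eq_of_mul_eq_one_right S.hzz])
  have hEq : E8 = D := Set.eq_of_subset_of_ncard_le hED (hE8c ▸ hDle) (Set.toFinite _)
  refine ⟨by show D.ncard = 8; rw [← hEq, hE8c], fun q hqQ hq2 => ?_⟩
  have hqx : q * x = x * q := by
    have hq : q ∈ E8 := hEq ▸ (show q ∈ D from ⟨hqQ, hq2⟩)
    rcases hq with rfl | rfl | rfl | rfl | rfl | rfl | rfl | rfl
    · simp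
    · exact (S.zc x).symm
    · rfl
    · rw [mul_assoc, ← S.zc x]
    · exact hax.symm
    · rw [mul_assoc, ← S.zc x, ← mul_assoc, ← hax, mul_assoc]
    · exact hbx.symm
    · rw [mul_assoc, ← S.zc x, ← mul_assoc, ← hbx, mul_assoc]
  have hvx : q * k * x = x * (q * k) := by
    rw [mul_assoc, show k * x = x * k from mul_inv_eq_iff_eq_mul.mp hxk, ← mul_assoc, hqx, mul_assoc]
  have hset : {u | u ∈ S.J ∧ u * (q * k) ≠ q * k * u} = {w | w ∈ S.J ∧ w * x ≠ x * w} := by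
    ext u
    constructor
    · rintro ⟨hu, hne⟩
      refine ⟨hu, fun h => hne ?_⟩
      rcases S.eq_of_commute hx hu h.symm with rfl | rfl
      · exact hvx.symm
      · rw [← mul_assoc (q * k), hvx, mul_assoc, ← S.zc, ← mul_assoc]
    · rintro ⟨hu, hne⟩
      refine ⟨hu, fun h => ?_⟩
      obtain ⟨hk', h1, h2⟩ := hmoved u hu hne
      have e : q * (k * u * k⁻¹) * q⁻¹ = u := by
        calc q * (k * u * k⁻¹) * q⁻¹ = q * k * u * (q * k)⁻¹ := by group
          _ = u * (q * k) * (q * k)⁻¹ := by rw [h]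
          _ = u := by group
      rcases S.comm q hqQ _ hk'.1 with h3 | h3
      · rw [h3, mul_inv_cancel_right] at e; exact h1 e
      · rw [h3] at e
        refine h2 ?_
        have e' : S.z * (k * u * k⁻¹) = u := by simpa [mul_assoc] using e
        calc k * u * k⁻¹ = S.z * (S.z * (k * u * k⁻¹)) := by rw [← mul_assoc, S.hzz, one_mul]
          _ = u * S.z := by rw [e', S.zc]
  refine ⟨hset ▸ S.ncard_outside hx, fun u hu hne => ?_⟩
  obtain ⟨hu', h1, h2⟩ := hmoved u hu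
    ((Set.ext_iff.mp hset u).mp ⟨hu, hne⟩).2
  have e : q * k * u * (q * k)⁻¹ = q * (k * u * k⁻¹) * q⁻¹ := by group
  rcases S.comm q hqQ _ hu'.1 with h3 | h3
  · rw [e, h3, mul_inv_cancel_right]; exact ⟨h1, h2⟩
  · have e2 : q * k * u * (q * k)⁻¹ = k * u * k⁻¹ * S.z := by rw [e, h3, S.zc]; group
    rw [e2]
    refine ⟨fun h => h2 ?_, fun h => h1 (mul_right_cancel h)⟩
    conv_rhs => rw [← h]
    rw [mul_assoc (k * u * k⁻¹), S.hzz, mul_one]

/-- The product of a moved pair with the moving involution powers to `z`. -/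
theorem mem_zpowers_iff' {u v : C} (hu2 : u ∈ S.Q ∧ u * u = 1 ∧ u ≠ 1) (hv : v * v = 1)
    (hvQ : v ∉ S.Q)
    (hmove : u * v ≠ v * u → v * u * v⁻¹ ≠ u ∧ v * u * v⁻¹ ≠ u * S.z) :
    S.z ∈ zpowers (u * v) ↔ u * v ≠ v * u := by
  constructor
  · intro hmem hc
    obtain ⟨n, hn⟩ := hmem
    have h1 : (u * v) ^ (2 : ℤ) = 1 := by
      rw [zpow_two, mul_mul_of_comm hc, hu2.2.1, hv, one_mul]
    rcases Int.even_or_odd n with ⟨m, rfl⟩ | ⟨m, rfl⟩
    · refine S.hz1 ?_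
      rw [← hn]
      show (u * v) ^ (m + m) = 1
      rw [← two_mul, zpow_mul, h1, one_zpow]
    · refine hvQ ?_
      have h2 : u * v = S.z := by
        rw [← hn]
        show u * v = (u * v) ^ (2 * m + 1)
        rw [zpow_add, zpow_mul, h1, one_zpow, one_mul, zpow_one]
      rw [show v = u⁻¹ * S.z by rw [← h2]; group]
      exact S.Q.mul_mem (S.Q.inv_mem hu2.1) S.hzQ
  · intro hne
    obtain ⟨h1, h2⟩ := hmove hne
    have hvi : v⁻¹ = v := inv_eq_of_mul_eq_one_right hv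
    have huJ : u ∈ S.J := ⟨hu2.1, hu2.2.1, hu2.2.2, fun h => hne (by rw [h, ← S.zc v])⟩
    have hu' := S.J_conj huJ v
    have hnc : u * (v * u * v⁻¹) ≠ v * u * v⁻¹ * u := fun h =>
      (S.eq_of_commute huJ hu' h).elim h1 h2
    refine ⟨4, ?_⟩
    show (u * v) ^ (4 : ℤ) = S.z
    calc (u * v) ^ (4 : ℤ) = (u * (v * u * v)) * (u * (v * u * v)) := by
          rw [show (4 : ℤ) = ((4 : ℕ) : ℤ) from rfl, zpow_natCast]
          simp only [pow_succ, pow_zero, one_mul, mul_assoc]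
      _ = (u * (v * u * v⁻¹)) * (u * (v * u * v⁻¹)) := by rw [hvi]
      _ = S.z := by
        rw [S.mul_mul_of_not_comm hu2.1 hu'.1 hnc, hu2.2.1, hu'.2.1, mul_one, mul_one]

theorem decomp (c : C) : ∃ q ∈ S.Q, ∃ k ∈ S.K, q * k = c := by
  haveI := S.normal
  have h : c ∈ S.Q ⊔ S.K := S.sup ▸ Subgroup.mem_top c
  rw [← SetLike.mem_coe, Subgroup.normal_mul, Set.mem_mul] at h
  obtain ⟨q, hq, k, hk, rfl⟩ := h
  exact ⟨q, hq, k, hk, rfl⟩

theorem decomp_unique {q q' k k' : C} (hq : q ∈ S.Q) (hq' : q' ∈ S.Q) (hk : k ∈ S.K) (hk' : k' ∈ S.K)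
    (h : q * k = q' * k') : q = q' ∧ k = k' := by
  have h1 : q'⁻¹ * q = k' * k⁻¹ := by
    calc q'⁻¹ * q = q'⁻¹ * (q * k) * k⁻¹ := by group
      _ = k' * k⁻¹ := by rw [h]; group
  have h2 : q'⁻¹ * q ∈ S.Q ⊓ S.K :=
    ⟨S.Q.mul_mem (S.Q.inv_mem hq') hq, h1 ▸ S.K.mul_mem hk' (S.K.inv_mem hk)⟩
  rw [S.disj, Subgroup.mem_bot] at h2
  exact ⟨(inv_mul_eq_one.mp h2).symm, (mul_inv_eq_one.mp (h1 ▸ h2)).symm⟩

/-- There are 960 pairs. -/
theorem card_pairs : Nat.card {p : C × C // (p.1 ∈ S.Q ∧ p.1 * p.1 = 1 ∧ p.1 ≠ 1) ∧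
    (p.2 * p.2 = 1 ∧ p.2 ∉ S.Q) ∧ S.z ∈ zpowers (p.1 * p.2)} = 960 := by
  classical
  haveI := Fintype.ofFinite C
  have hsplit : ∀ v : C, v * v = 1 → v ∉ S.Q → ∃ q ∈ S.Q, ∃ k ∈ S.K, k * k = 1 ∧ k ≠ 1 ∧
      q * k = v := by
    intro v hv hvQ
    obtain ⟨q, hq, k, hk, rfl⟩ := S.decomp v
    refine ⟨q, hq, k, hk, ?_, fun h => hvQ (by rw [h, mul_one]; exact hq), rfl⟩
    haveI := S.normal
    have h1 : q * (k * q * k⁻¹) * (k * k) = 1 * 1 := by rw [one_mul, ← hv]; group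
    exact (S.decomp_unique (S.Q.mul_mem hq (S.normal.conj_mem q hq k)) S.Q.one_mem
      (S.K.mul_mem hk hk) S.K.one_mem h1).2
  have hfib : ∀ v : C, v * v = 1 → v ∉ S.Q →
      {u | (u ∈ S.Q ∧ u * u = 1 ∧ u ≠ 1) ∧ S.z ∈ zpowers (u * v)}.ncard = 8 := by
    intro v hv hvQ
    obtain ⟨q, hq, k, hk, hk2, hk1, rfl⟩ := hsplit v hv hvQ
    obtain ⟨-, h8⟩ := S.fibre hk hk2 hk1
    obtain ⟨h8c, hmove⟩ := h8 q hq hv
    rw [← h8c]
    congr 1
    ext u
    constructor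
    · rintro ⟨hu, hmem⟩
      have hm : u * (q * k) ≠ q * k * u →
          q * k * u * (q * k)⁻¹ ≠ u ∧ q * k * u * (q * k)⁻¹ ≠ u * S.z := fun hne =>
        hmove u ⟨hu.1, hu.2.1, hu.2.2, fun h => hne (by rw [h, ← S.zc])⟩ hne
      have hne := (S.mem_zpowers_iff' hu hv hvQ hm).mp hmem
      exact ⟨⟨hu.1, hu.2.1, hu.2.2, fun h => hne (by rw [h, ← S.zc])⟩, hne⟩
    · rintro ⟨hu, hne⟩
      exact ⟨⟨hu.1, hu.2.1, hu.2.2.1⟩,
        (S.mem_zpowers_iff' ⟨hu.1, hu.2.1, hu.2.2.1⟩ hv hvQ (fun h => hmove u hu h)).mpr hne⟩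
  have hv120 : Nat.card {v : C // v * v = 1 ∧ v ∉ S.Q} = 120 := by
    let T := {k : S.K // k * k = 1 ∧ k ≠ 1}
    have hT : Nat.card T = 15 := by
      rw [← a5_card_invol, ← Nat.card_eq_fintype_card]
      refine Nat.card_congr (Equiv.subtypeEquiv S.e.toEquiv fun k => ?_)
      rw [MulEquiv.toEquiv_eq_coe, MulEquiv.coe_toEquiv, ← map_mul, MulEquiv.map_eq_one_iff, Ne,
        Ne, MulEquiv.map_eq_one_iff]
    have hk : ∀ t : T, ((t.1 : C) * t.1 = 1 ∧ (t.1 : C) ≠ 1) := fun t =>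
      ⟨congrArg Subtype.val t.2.1, fun h => t.2.2 (Subtype.ext h)⟩
    have e : (Σ t : T, {q : C // q ∈ S.Q ∧ q * t.1 * (q * t.1) = 1}) ≃
        {v : C // v * v = 1 ∧ v ∉ S.Q} :=
      Equiv.ofBijective (fun s => ⟨s.2.1 * s.1.1, s.2.2.2, fun h => (hk s.1).2 (by
        have : (s.1.1 : C) ∈ S.Q ⊓ S.K :=
          ⟨(S.Q.mul_mem_cancel_left s.2.2.1).mp h, s.1.1.2⟩
        rwa [S.disj, Subgroup.mem_bot] at this)⟩) (by
        constructor
        · rintro ⟨t, q⟩ ⟨t', q'⟩ h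
          obtain ⟨h1, h2⟩ := S.decomp_unique q.2.1 q'.2.1 t.1.2 t'.1.2 (congrArg Subtype.val h)
          obtain rfl : t = t' := Subtype.ext (Subtype.ext h2)
          obtain rfl : q = q' := Subtype.ext h1
          rfl
        · rintro ⟨v, hv, hvQ⟩
          obtain ⟨q, hq, k, hk, hk2, hk1, rfl⟩ := hsplit v hv hvQ
          exact ⟨⟨⟨⟨k, hk⟩, Subtype.ext hk2, fun h => hk1 (congrArg Subtype.val h)⟩,
            ⟨q, hq, hv⟩⟩, rfl⟩)
    haveI : Fintype T := Fintype.ofFinite _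
    rw [← Nat.card_congr e, Nat.card_sigma, Finset.sum_eq_card_nsmul (b := 8) fun t _ => ?_,
      Finset.card_univ, ← Nat.card_eq_fintype_card, hT]
    · rfl
    · exact (Nat.card_coe_set_eq _).trans (S.fibre t.1.2 (hk t).1 (hk t).2).1
  have e2 : {p : C × C // (p.1 ∈ S.Q ∧ p.1 * p.1 = 1 ∧ p.1 ≠ 1) ∧
      (p.2 * p.2 = 1 ∧ p.2 ∉ S.Q) ∧ S.z ∈ zpowers (p.1 * p.2)} ≃
      Σ v : {v : C // v * v = 1 ∧ v ∉ S.Q},
        {u : C // (u ∈ S.Q ∧ u * u = 1 ∧ u ≠ 1) ∧ S.z ∈ zpowers (u * v.1)} :=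
    { toFun := fun p => ⟨⟨p.1.2, p.2.2.1⟩, ⟨p.1.1, p.2.1, p.2.2.2⟩⟩
      invFun := fun s => ⟨(s.2.1, s.1.1), s.2.2.1, s.1.2, s.2.2.2⟩
      left_inv := fun _ => rfl
      right_inv := fun _ => rfl }
  haveI : Fintype {v : C // v * v = 1 ∧ v ∉ S.Q} := Fintype.ofFinite _
  rw [Nat.card_congr e2, Nat.card_sigma, Finset.sum_eq_card_nsmul (b := 8) fun v _ => ?_,
    Finset.card_univ, ← Nat.card_eq_fintype_card, hv120]
  · rfl
  · exact (Nat.card_coe_set_eq _).trans (hfib v.1 v.2.1 v.2.2)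

end Setting

end Cfsg.Agent.H73.JankoPairs
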