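import Cfsg.Prelude.Def_Transfer
import Cfsg.Prelude.Def_TwoFusion
import Cfsg.Agent.H73.JankoPairs
import Cfsg.Agent.S0213
import Cfsg.Agent.Components.Basic
import Cfsg.Agent.Cores.PCore
import Cfsg.Agent.PGroups.Basic

/-!
The order of a simple group with the involution pattern of the Hall–Janko group.
-/

set_option autoImplicit false
set_option linter.style.haveILetI false

namespace Cfsg.Agent.H73.Janko

open Subgroup Cfsg
open scoped commutatorElement

theorem a5_pow_fifteen : ∀ g : alternatingGroup (Fin 5),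
    g ^ 15 = 1 ↔ (g * g * g = 1 ∨ (g * g) * (g * g) * g = 1) := by decide +kernel

theorem a5_count : Fintype.card {p : alternatingGroup (Fin 5) × alternatingGroup (Fin 5) //
    (p.1 * p.1 = 1 ∧ p.1 ≠ 1) ∧ p.2 * p.2 = 1 ∧ (p.1 * p.2) ^ 15 = 1} = 195 := by
  have h : (((Finset.univ : Finset (alternatingGroup (Fin 5))).filter fun a => a * a = 1 ∧ a ≠ 1) ×ˢ
      ((Finset.univ : Finset (alternatingGroup (Fin 5))).filter fun a => a * a = 1)).filter
        (fun p => (p.1 * p.2) * (p.1 * p.2) * (p.1 * p.2) = 1 ∨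
          ((p.1 * p.2) * (p.1 * p.2)) * ((p.1 * p.2) * (p.1 * p.2)) * (p.1 * p.2) = 1) =
      Finset.univ.filter fun p : alternatingGroup (Fin 5) × alternatingGroup (Fin 5) =>
        (p.1 * p.1 = 1 ∧ p.1 ≠ 1) ∧ p.2 * p.2 = 1 ∧ (p.1 * p.2) ^ 15 = 1 := by
    ext p
    simp [a5_pow_fifteen, and_assoc]
  rw [Fintype.card_subtype, ← h]
  decide +kernel

theorem a5_even_or : ∀ g : alternatingGroup (Fin 5), g ^ 15 ≠ 1 → g * g = 1 := by
  simp only [Ne, a5_pow_fifteen]
  decide +kernel

variable {G : Type*} [Group G] [Finite G]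

omit [Finite G] in
/-- Two involutions centralise an involution lying among the powers of their product. -/
theorem mem_centralizer_of_mem_zpowers {u v w : G} (hu : u * u = 1) (hv : v * v = 1) (hw : w * w = 1)
    (h : w ∈ zpowers (u * v)) :
    u ∈ centralizer ({w} : Set G) ∧ v ∈ centralizer ({w} : Set G) := by
  obtain ⟨n, hn⟩ := h
  have h1 : u * w * u = w := by
    rw [← hn]
    show u * (u * v) ^ n * u = (u * v) ^ n
    rw [H26.conj_zpow_mul hu hv, zpow_neg]
    refine inv_eq_of_mul_eq_one_right ?_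
    have : (u * v) ^ n = w := hn
    rw [this, hw]
  have hu' : u * w = w * u := by
    calc u * w = (u * w * u) * u := by rw [mul_assoc _ u u, hu, mul_one]
      _ = w * u := by rw [h1]
  refine ⟨mem_centralizer_singleton_iff.mpr hu', mem_centralizer_singleton_iff.mpr ?_⟩
  have h2 : (u * v) * w = w * (u * v) := by
    rw [← hn]
    exact (Commute.self_zpow (u * v) n).eq
  calc v * w = u * (u * v * w) := by rw [← mul_assoc, ← mul_assoc, hu, one_mul]
    _ = u * w * (u * v) := by rw [h2, ← mul_assoc]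
    _ = w * u * (u * v) := by rw [hu']
    _ = w * v := by rw [mul_assoc, ← mul_assoc u u, hu, one_mul]

theorem card_eq (z t : G) (hz : orderOf z = 2) (ht : orderOf t = 2)
    (hzt : ¬ IsConj z t) (hcl : ∀ x : G, orderOf x = 2 → IsConj x z ∨ IsConj x t)
    (hex : Cfsg.IsExtraspecial 2 ↥(Cfsg.generalizedFittingSubgroup ↥(Subgroup.centralizer ({z} : Set G))))
    (hQ : Nat.card ↥(Cfsg.pCore 2 ↥(Subgroup.centralizer ({z} : Set G))) = 32)
    (K : Subgroup G) (hK : Nonempty (↥K ≃* alternatingGroup (Fin 5)))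
    (hKC : K ⊔ (Cfsg.pCore 2 ↥(Subgroup.centralizer ({z} : Set G))).map (Subgroup.centralizer ({z} : Set G)).subtype = Subgroup.centralizer ({z} : Set G))
    (hKQ : K ⊓ (Cfsg.pCore 2 ↥(Subgroup.centralizer ({z} : Set G))).map (Subgroup.centralizer ({z} : Set G)).subtype = ⊥)
    (hQz : ∀ x ∈ (Cfsg.pCore 2 ↥(Subgroup.centralizer ({z} : Set G))).map (Subgroup.centralizer ({z} : Set G)).subtype, orderOf x = 2 → IsConj x z)
    (hCz : ∀ x ∈ Subgroup.centralizer ({z} : Set G), orderOf x = 2 →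
      x ∉ (Cfsg.pCore 2 ↥(Subgroup.centralizer ({z} : Set G))).map (Subgroup.centralizer ({z} : Set G)).subtype → IsConj x t)
    (V B : Subgroup G) (hVB : Cfsg.IsInternalDirectProduct V B (Subgroup.centralizer ({t} : Set G)))
    (hV : Nat.card ↥V = 4) (hV2 : ∀ v ∈ V, v ^ 2 = 1) (htV : t ∈ V) (hB : Nonempty (↥B ≃* alternatingGroup (Fin 5)))
    (hBz : ∀ x ∈ B, orderOf x = 2 → IsConj x z)
    (hCt : ∀ x ∈ Subgroup.centralizer ({t} : Set G), orderOf x = 2 → x ∉ B → IsConj x t) :
    Nat.card G = 604800 := by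
  classical
  haveI : Fact (Nat.Prime 2) := ⟨Nat.prime_two⟩
  set Cz := centralizer ({z} : Set G) with hCzdef
  set Ct := centralizer ({t} : Set G) with hCtdef
  set Q := Cfsg.pCore 2 Cz with hQdef
  have hzz : z * z = 1 := H26.mul_self_of_orderOf_two hz
  have htt : t * t = 1 := H26.mul_self_of_orderOf_two ht
  -- the generalised Fitting subgroup is `Q`
  obtain ⟨⟨hFp, hfr, hcm⟩, hZ2⟩ := hex
  have hFQ : Cfsg.generalizedFittingSubgroup Cz = Q :=
    le_antisymm (Cores.le_pCore hFp)
      ((Components.pCore_le_fitting 2).trans Components.fitting_le_genFitting)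
  set F := Cfsg.generalizedFittingSubgroup Cz with hFdef
  have hzC : z ∈ Cz := mem_centralizer_singleton_iff.mpr rfl
  set z' : Cz := ⟨z, hzC⟩ with hz'
  have hzc : ∀ c : Cz, c * z' = z' * c := fun c =>
    Subtype.ext (mem_centralizer_singleton_iff.mp c.2)
  have hzF : z' ∈ F := Components.centralizer_genFitting_le
    (mem_centralizer_iff.mpr fun a _ => hzc a)
  have hz'1 : z' ≠ 1 := fun h => H26.ne_one_of_orderOf_two hz (congrArg Subtype.val h)
  have hcen : ∀ a : F, a ∈ center F ↔ (a = 1 ∨ a = ⟨z', hzF⟩) := by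
    have hsub : ({1, (⟨z', hzF⟩ : F)} : Set F) ⊆ (center F : Set F) := by
      rintro a (rfl | rfl)
      · exact one_mem _
      · exact mem_center_iff.mpr fun b => Subtype.ext (hzc b)
    have heq : ({1, (⟨z', hzF⟩ : F)} : Set F) = (center F : Set F) :=
      Set.eq_of_subset_of_ncard_le hsub (by
        rw [Set.ncard_pair (fun h => hz'1 (congrArg Subtype.val h).symm), ← Nat.card_coe_set_eq]
        exact le_of_eq hZ2) (Set.toFinite _)
    intro a
    rw [← SetLike.mem_coe, ← heq]
    rfl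
  have hFmem : ∀ a : Cz, a ∈ Q ↔ a ∈ F := fun a => by rw [hFQ]
  have hKle : K ≤ Cz := le_sup_left.trans hKC.le
  have hQmap : ∀ a : Cz, (a : G) ∈ Q.map Cz.subtype ↔ a ∈ Q := fun a =>
    Subgroup.mem_map_iff_mem Cz.subtype_injective
  obtain ⟨eK⟩ := hK
  let S : JankoPairs.Setting Cz :=
    { z := z'
      Q := Q
      K := K.subgroupOf Cz
      normal := inferInstance
      hz1 := hz'1
      hzz := Subtype.ext hzz
      hzQ := (hFmem _).mpr hzF
      zc := hzc
      card := hQ
      comm := fun a ha b hb => by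
        have hmem : ⁅(⟨a, (hFmem a).mp ha⟩ : F), (⟨b, (hFmem b).mp hb⟩ : F)⁆ ∈ center F :=
          hcm ▸ commutator_mem_commutator (mem_top _) (mem_top _)
        rcases (hcen _).mp hmem with h | h
        · left
          have h' : a * b * a⁻¹ * b⁻¹ = 1 := congrArg Subtype.val h
          rwa [mul_inv_eq_one, mul_inv_eq_iff_eq_mul] at h'
        · right
          have h' : a * b * a⁻¹ * b⁻¹ = z' := congrArg Subtype.val h
          rw [← h']; group
      sq := fun a ha => by
        have hmem : (⟨a, (hFmem a).mp ha⟩ : F) ^ 2 ∈ center F :=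
          hfr ▸ PGroups.pow_mem_frattini hFp _
        rcases (hcen _).mp hmem with h | h
        · left; simpa [pow_two] using congrArg Subtype.val h
        · right; simpa [pow_two] using congrArg Subtype.val h
      noncentral := fun a ha h1 hz1 => by
        by_contra hcon
        push Not at hcon
        rcases (hcen ⟨a, (hFmem a).mp ha⟩).mp (mem_center_iff.mpr fun b =>
          Subtype.ext (hcon b ((hFmem _).mpr b.2)).symm) with h | h
        · exact h1 (congrArg Subtype.val h)
        · exact hz1 (congrArg Subtype.val h)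
      cent := fun c hc => (hFmem c).mpr (Components.centralizer_genFitting_le
        (mem_centralizer_iff.mpr fun a ha => (hc a ((hFmem a).mpr ha)).symm))
      e := (subgroupOfEquivOfLe hKle).trans eK
      disj := by
        rw [eq_bot_iff]
        rintro a ⟨haQ, haK⟩
        have : (a : G) ∈ K ⊓ Q.map Cz.subtype := ⟨haK, (hQmap a).mpr haQ⟩
        rw [hKQ, mem_bot] at this
        exact mem_bot.mpr (Subtype.ext this)
      sup := by
        apply map_injective Cz.subtype_injective
        rw [Subgroup.map_sup, subgroupOf_map_subtype, inf_of_le_left hKle, sup_comm, hKC,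
          ← MonoidHom.range_eq_map, range_subtype] }
  have hSQ : S.Q = Q := rfl
  -- the pairs over `z`
  have hnz : Nat.card {p : G × G // IsConj z p.1 ∧ IsConj t p.2 ∧ z ∈ zpowers (p.1 * p.2)} = 960 := by
    have hfwd : ∀ a b : Cz, (a ∈ Q ∧ a * a = 1 ∧ a ≠ 1) → (b * b = 1 ∧ b ∉ Q) →
        z' ∈ zpowers (a * b) →
        IsConj z (a : G) ∧ IsConj t (b : G) ∧ z ∈ zpowers ((a : G) * (b : G)) := by
      rintro a b ⟨hu, hu2, hu1⟩ ⟨hv2, hvQ⟩ ⟨n, hn⟩
      have hou : orderOf (a : G) = 2 := H26.orderOf_two_of_mul_self (congrArg Subtype.val hu2)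
        fun h => hu1 (Subtype.ext h)
      have hov : orderOf (b : G) = 2 := H26.orderOf_two_of_mul_self (congrArg Subtype.val hv2)
        fun h => hvQ (by rw [show b = 1 from Subtype.ext h]; exact one_mem _)
      refine ⟨(hQz _ ((hQmap _).mpr hu) hou).symm,
        (hCz _ b.2 hov fun h => hvQ ((hQmap _).mp h)).symm, ?_⟩
      exact ⟨n, by simpa using congrArg Subtype.val hn⟩
    rw [← S.card_pairs]
    refine (Nat.card_congr (Equiv.ofBijective (fun p => ⟨((p.1.1 : G), (p.1.2 : G)),
      hfwd p.1.1 p.1.2 p.2.1 p.2.2.1 p.2.2.2⟩) ⟨?_, ?_⟩)).symm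
    · rintro ⟨⟨a, b⟩, _⟩ ⟨⟨a', b'⟩, _⟩ h
      simp only [Subtype.mk.injEq, Prod.mk.injEq] at h
      exact Subtype.ext (Prod.ext (Subtype.ext h.1) (Subtype.ext h.2))
    · rintro ⟨⟨u, v⟩, hu, hv, hmem⟩
      have hou : orderOf u = 2 := (H26.isConj_orderOf hu).symm.trans hz
      have hov : orderOf v = 2 := (H26.isConj_orderOf hv).symm.trans ht
      have hu2 := H26.mul_self_of_orderOf_two hou
      have hv2 := H26.mul_self_of_orderOf_two hov
      obtain ⟨huC, hvC⟩ := mem_centralizer_of_mem_zpowers hu2 hv2 hzz hmem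
      have huQ : (⟨u, huC⟩ : Cz) ∈ Q := by
        by_contra h
        exact hzt (hu.trans (hCz u huC hou fun h' => h ((hQmap ⟨u, huC⟩).mp h')))
      have hvQ : (⟨v, hvC⟩ : Cz) ∉ Q := fun h =>
        hzt ((hQz v ((hQmap ⟨v, hvC⟩).mpr h) hov).symm.trans hv.symm)
      refine ⟨⟨(⟨u, huC⟩, ⟨v, hvC⟩), ⟨huQ, Subtype.ext hu2,
        fun h => H26.ne_one_of_orderOf_two hou (congrArg Subtype.val h)⟩,
        ⟨Subtype.ext hv2, hvQ⟩, ?_⟩, rfl⟩
      obtain ⟨n, hn⟩ := hmem
      exact ⟨n, Subtype.ext (by simpa using hn)⟩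
  -- the centraliser of `t`
  obtain ⟨hVle, hBle, hcomm, hint, hsup⟩ := hVB
  obtain ⟨eB⟩ := hB
  have hc' : ∀ (a : V) (b : B), Commute (V.subtype a) (B.subtype b) := fun a b => hcomm a a.2 b b.2
  let f : V × B →* G := V.subtype.noncommCoprod B.subtype hc'
  have hf : ∀ a : V × B, f a = (a.1 : G) * a.2 := fun a => rfl
  have hfinj : Function.Injective f := by
    rw [← f.ker_eq_bot_iff, eq_bot_iff]
    intro a ha
    rw [MonoidHom.mem_ker, hf] at ha
    have h1 : (a.1 : G) = (a.2 : G)⁻¹ := eq_inv_of_mul_eq_one_left ha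
    have h2 : (a.1 : G) ∈ V ⊓ B := ⟨a.1.2, h1 ▸ B.inv_mem a.2.2⟩
    rw [hint, mem_bot] at h2
    rw [h2, one_mul] at ha
    exact mem_bot.mpr (Prod.ext (Subtype.ext h2) (Subtype.ext ha))
  have hfrange : f.range = Ct := by
    show (V.subtype.noncommCoprod B.subtype hc').range = _
    rw [MonoidHom.noncommCoprod_range, range_subtype, range_subtype, hsup]
  have hB60 : Nat.card B = 60 := by
    rw [Nat.card_congr eB.toEquiv, nat_card_alternatingGroup, Nat.card_fin]; rfl
  have hCt240 : Nat.card Ct = 240 := by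
    rw [← hfrange, ← Nat.card_congr (MonoidHom.ofInjective hfinj).toEquiv, Nat.card_prod, hV, hB60]
  have hV2' : ∀ v : V, v * v = 1 := fun v => Subtype.ext (by
    simpa [pow_two] using hV2 v v.2)
  set t' : V := ⟨t, htV⟩ with ht'
  have ht'1 : t' ≠ 1 := fun h => H26.ne_one_of_orderOf_two ht (congrArg Subtype.val h)
  have hnt : Nat.card {p : G × G // IsConj z p.1 ∧ IsConj t p.2 ∧ t ∈ zpowers (p.1 * p.2)} = 195 := by
    have hfwd : ∀ a b : alternatingGroup (Fin 5), (a * a = 1 ∧ a ≠ 1) → b * b = 1 → (a * b) ^ 15 = 1 →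
        IsConj z (f (1, eB.symm a)) ∧ IsConj t (f (t', eB.symm b)) ∧
          t ∈ zpowers (f (1, eB.symm a) * f (t', eB.symm b)) := by
      rintro a b ⟨hu2, hu1⟩ hb2 h15
      have hmu : f (1, eB.symm a) * f (1, eB.symm a) = 1 := by
        rw [← map_mul, Prod.mk_mul_mk, one_mul, ← map_mul, hu2, map_one, Prod.mk_one_one, map_one]
      have hou : orderOf (f (1, eB.symm a)) = 2 := H26.orderOf_two_of_mul_self hmu (by
        rw [Ne, map_eq_one_iff f hfinj, Prod.mk_eq_one]
        exact fun h => hu1 (by simpa using congrArg eB h.2))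
      have hmv : f (t', eB.symm b) * f (t', eB.symm b) = 1 := by
        rw [← map_mul, Prod.mk_mul_mk, hV2', ← map_mul, hb2, map_one, Prod.mk_one_one, map_one]
      have hov : orderOf (f (t', eB.symm b)) = 2 := H26.orderOf_two_of_mul_self hmv (by
        rw [Ne, map_eq_one_iff f hfinj, Prod.mk_eq_one]
        exact fun h => ht'1 h.1)
      refine ⟨(hBz _ (by rw [hf]; simp) hou).symm,
        (hCt _ (hfrange ▸ ⟨_, rfl⟩) hov fun hmem => ?_).symm, ?_⟩
      · have h2 : t ∈ V ⊓ B := ⟨htV, by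
          rw [hf] at hmem
          exact (B.mul_mem_cancel_right (SetLike.coe_mem _)).mp hmem⟩
        rw [hint, mem_bot] at h2
        exact H26.ne_one_of_orderOf_two ht h2
      · refine ⟨(15 : ℕ), ?_⟩
        show (_ : G) ^ ((15 : ℕ) : ℤ) = t
        rw [zpow_natCast, ← map_mul, ← map_pow, hf, Prod.mk_mul_mk, Prod.pow_mk, one_mul, ← map_mul,
          ← map_pow, h15, map_one, pow_succ, pow_mul' t' 2 7, pow_two, hV2']
        simp [ht']
    rw [← a5_count, ← Nat.card_eq_fintype_card]
    refine (Nat.card_congr (Equiv.ofBijective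
      (fun p => ⟨(f (1, eB.symm p.1.1), f (t', eB.symm p.1.2)),
        hfwd p.1.1 p.1.2 p.2.1 p.2.2.1 p.2.2.2⟩) ⟨?_, ?_⟩)).symm
    · rintro ⟨⟨a, b⟩, _⟩ ⟨⟨a', b'⟩, _⟩ h
      simp only [Subtype.mk.injEq, Prod.mk.injEq] at h
      have h1 := hfinj h.1
      have h2 := hfinj h.2
      simp only [Prod.mk.injEq, true_and, EmbeddingLike.apply_eq_iff_eq] at h1 h2
      exact Subtype.ext (Prod.ext h1 h2)
    · rintro ⟨⟨u, v⟩, hu, hv, hmem⟩
      have hou : orderOf u = 2 := (H26.isConj_orderOf hu).symm.trans hz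
      have hov : orderOf v = 2 := (H26.isConj_orderOf hv).symm.trans ht
      have hu2 := H26.mul_self_of_orderOf_two hou
      have hv2 := H26.mul_self_of_orderOf_two hov
      obtain ⟨huC, hvC⟩ := mem_centralizer_of_mem_zpowers hu2 hv2 htt hmem
      have huB : u ∈ B := by
        by_contra h
        exact hzt (hu.trans (hCt u huC hou h))
      obtain ⟨⟨a, b⟩, rfl⟩ : ∃ w, f w = v := by
        have h : v ∈ f.range := by rw [hfrange]; exact hvC
        exact h
      obtain ⟨w, rfl⟩ : ∃ w : B, f (1, w) = u := ⟨⟨u, huB⟩, by rw [hf]; simp⟩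
      have hw2 : w * w = 1 := by
        have := hu2
        rw [← map_mul, map_eq_one_iff f hfinj, Prod.mk_mul_mk, Prod.mk_eq_one] at this
        exact this.2
      have hb2 : b * b = 1 := by
        have := hv2
        rw [← map_mul, map_eq_one_iff f hfinj, Prod.mk_mul_mk, Prod.mk_eq_one] at this
        exact this.2
      obtain ⟨n, hn⟩ := hmem
      have hn' : ((1, w) * (a, b)) ^ n = ((t', 1) : V × B) := by
        apply hfinj
        rw [map_zpow, map_mul, hf (t', 1)]
        simpa using hn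
      rw [Prod.mk_mul_mk, Prod.pow_def, one_mul, Prod.mk.injEq] at hn'
      simp only at hn'
      have hn2 : Odd n := by
        rcases Int.even_or_odd n with ⟨m, rfl⟩ | h
        · refine absurd ?_ ht'1
          rw [← hn'.1, zpow_add, ← (Commute.refl a).mul_zpow, hV2', one_zpow]
        · exact h
      obtain ⟨m, rfl⟩ := hn2
      have ha : a = t' := by
        rw [← hn'.1, zpow_add, zpow_mul, zpow_two, hV2', one_zpow, one_mul, zpow_one]
      have h15 : (eB w * eB b) ^ 15 = 1 := by
        by_contra h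
        have h2 := a5_even_or _ h
        have h3 : (eB w * eB b) ^ (2 * m + 1) = 1 := by rw [← map_mul, ← map_zpow, hn'.2, map_one]
        rw [zpow_add, zpow_mul, zpow_two, h2, one_zpow, one_mul, zpow_one] at h3
        exact h (by rw [h3, one_pow])
      refine ⟨⟨(eB w, eB b), ⟨by rw [← map_mul, hw2, map_one], fun h => ?_⟩,
        by rw [← map_mul, hb2, map_one], h15⟩, ?_⟩
      · rw [MulEquiv.map_eq_one_iff] at h
        rw [h] at hou
        rw [Prod.mk_one_one, map_one, orderOf_one] at hou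
        exact absurd hou (by norm_num)
      · simp [ha]
  have hCz1920 : Nat.card Cz = 1920 := by
    have e : S.Q × S.K ≃ Cz := Equiv.ofBijective (fun p => (p.1 : Cz) * p.2)
      ⟨fun p p' h => Prod.ext (Subtype.ext (S.decomp_unique p.1.2 p'.1.2 p.2.2 p'.2.2 h).1)
          (Subtype.ext (S.decomp_unique p.1.2 p'.1.2 p.2.2 p'.2.2 h).2),
        fun c => by
          obtain ⟨q, hq, k, hk, rfl⟩ := S.decomp c
          exact ⟨(⟨q, hq⟩, ⟨k, hk⟩), rfl⟩⟩
    rw [← Nat.card_congr e, Nat.card_prod, S.card, Nat.card_congr S.e.toEquiv,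
      nat_card_alternatingGroup, Nat.card_fin]
    rfl
  rw [S0213.result z t hz ht hzt (fun x hx => (hcl x hx).imp IsConj.symm IsConj.symm), hnz, hnt,
    ← hCtdef, ← hCzdef, hCt240, hCz1920]

end Cfsg.Agent.H73.Janko
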