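import Cfsg.Agent.H73.ConjAbelian
import Cfsg.Agent.H25.Transfer
import Cfsg.Agent.Components.Fitting

/-!
# Quotients by normal subgroups of odd order of groups with conjugate abelian subgroups
-/

set_option autoImplicit false

namespace Cfsg.Agent.H73

open Subgroup

theorem le_of_card_dvd_cyclic {C : Type*} [Group C] [Finite C] [IsCyclic C] {H K : Subgroup C}
    (h : Nat.card ↥H ∣ Nat.card ↥K) : H ≤ K := by
  classical
  have := Fintype.ofFinite C
  intro x hx
  by_contra hxK
  have h1 : ∀ y ∈ insert x (K : Set C), y ^ Nat.card ↥K = 1 := by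
    rintro y (rfl | hy)
    · rw [← orderOf_dvd_iff_pow_eq_one]
      exact (Subgroup.orderOf_dvd_natCard H hx).trans h
    · rw [← orderOf_dvd_iff_pow_eq_one]
      exact Subgroup.orderOf_dvd_natCard K hy
  have h2 : (insert x (K : Set C)).ncard ≤ Nat.card ↥K := by
    refine le_trans (Set.ncard_le_ncard (t := {y : C | y ^ Nat.card ↥K = 1}) h1 (Set.toFinite _)) ?_
    rw [Set.ncard_eq_toFinset_card', Set.toFinset_ofPred]
    exact IsCyclic.card_pow_eq_one_le Nat.card_pos
  rw [Set.ncard_insert_of_notMem hxK (Set.toFinite _), ← Nat.card_coe_set_eq] at h2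
  exact Nat.not_succ_le_self _ h2

variable {G : Type*} [Group G] [Finite G] {M : Subgroup G} [M.Normal]

theorem ConjAb.exists_lift (hB : ConjAb G) (hM : Odd (Nat.card ↥M)) (A : Subgroup (G ⧸ M))
    (hA : IsMulCommutative ↥A) :
    ∃ X : Subgroup G, IsMulCommutative ↥X ∧ X.map (QuotientGroup.mk' M) = A ∧
      ∀ p : ℕ, p.Prime → (Nat.card ↥X).factorization p =
        if p ∣ Nat.card ↥A then (Nat.card ↥A).factorization p + (Nat.card ↥M).factorization p
        else 0 := by
  classical
  set f := QuotientGroup.mk' M with hf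
  obtain ⟨X, hX, hmin⟩ := wellFounded_lt.has_min {X : Subgroup G | X.map f = A}
    ⟨A.comap f, map_comap_eq_self_of_surjective (QuotientGroup.mk'_surjective M) A⟩
  set φ := f.comp X.subtype with hφ
  have hrange : φ.range = A := by
    rw [hφ, MonoidHom.range_comp, Subgroup.range_subtype]
    exact hX
  have hminimal : ∀ Y : Subgroup ↥X, Y.map φ = A → Y = ⊤ := by
    intro Y hY
    have h1 : (Y.map X.subtype).map f = A := by rw [map_map]; exact hY
    have h2 : Y.map X.subtype = X := (Subgroup.map_subtype_le Y).eq_or_lt.resolve_right (hmin _ h1)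
    apply Subgroup.map_injective X.subtype_injective
    rw [h2, ← MonoidHom.range_eq_map, Subgroup.range_subtype]
  have hcomm : ∀ u v : ↥X, φ u * φ v = φ v * φ u := fun u v =>
    congrArg Subtype.val (hA.is_comm.comm (⟨φ u, hrange ▸ ⟨u, rfl⟩⟩ : ↥A) ⟨φ v, hrange ▸ ⟨v, rfl⟩⟩)
  have hnormal : ∀ (p : ℕ) [Fact p.Prime] (P : Sylow p ↥X), (P : Subgroup ↥X).Normal := by
    intro p _ P
    have hN : ((P : Subgroup ↥X) ⊔ φ.ker).Normal := by
      refine ⟨fun n hn x => ?_⟩
      have hk : x * n * x⁻¹ * n⁻¹ ∈ φ.ker := by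
        rw [MonoidHom.mem_ker, map_mul, map_mul, map_mul, hcomm x n]
        simp
      have := mul_mem (mem_sup_right hk) hn
      rwa [inv_mul_cancel_right] at this
    have h1 := Sylow.normalizer_sup_eq_top' (N := (P : Subgroup ↥X) ⊔ φ.ker) P le_sup_left
    rw [← sup_assoc, sup_eq_left.mpr
      (show (P : Subgroup ↥X) ≤ normalizer (P : Set ↥X) from le_normalizer)] at h1
    refine normalizer_eq_top_iff.mp (hminimal _ ?_)
    rw [← hrange, MonoidHom.range_eq_map, ← h1, Subgroup.map_sup, (Subgroup.map_eq_bot_iff _).mpr le_rfl, sup_bot_eq]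
    rfl
  have hbot : ∀ (p : ℕ) [Fact p.Prime] (P : Sylow p ↥X),
      (∀ u ∈ (P : Subgroup ↥X), φ u = 1) → (P : Subgroup ↥X) = ⊥ := by
    intro p _ P hP
    have := hnormal p P
    obtain ⟨C, hC⟩ := Subgroup.exists_right_complement'_of_coprime (N := (P : Subgroup ↥X))
      P.card_coprime_index
    have hPk : (P : Subgroup ↥X).map φ = ⊥ := by
      rw [Subgroup.map_eq_bot_iff]
      exact fun u hu => hP u hu
    have hCtop : C = ⊤ := hminimal C (by
      rw [← hrange, MonoidHom.range_eq_map, ← hC.sup_eq_top, Subgroup.map_sup, hPk, bot_sup_eq])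
    have := hC.disjoint
    rw [hCtop, disjoint_top] at this
    exact this
  have hdvdA : ∀ (p : ℕ) [Fact p.Prime] (P : Sylow p ↥X), (P : Subgroup ↥X) ≠ ⊥ →
      p ∣ Nat.card ↥A ∧ ∃ u ∈ (P : Subgroup ↥X), (u : G) ∉ M := by
    intro p _ P hP
    obtain ⟨u, huP, hu⟩ : ∃ u ∈ (P : Subgroup ↥X), φ u ≠ 1 := by
      by_contra h
      push Not at h
      exact hP (hbot p P h)
    refine ⟨?_, u, huP, fun h => hu ((QuotientGroup.eq_one_iff _).mpr h)⟩
    have h1 : IsPGroup p ↥((P : Subgroup ↥X).map φ) := P.isPGroup'.map φ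
    have hle : (P : Subgroup ↥X).map φ ≤ A := hrange ▸ map_le_range _ _
    have : Nontrivial ↥((P : Subgroup ↥X).map φ) :=
      ⟨⟨⟨φ u, mem_map_of_mem φ huP⟩, 1, fun e => hu (congrArg Subtype.val e)⟩⟩
    obtain ⟨n, hn0, hn⟩ := h1.nontrivial_iff_card.mp this
    exact ((dvd_pow_self p hn0.ne').trans hn.symm.dvd).trans (card_dvd_of_le hle)
  have hcyc : ∀ (p : ℕ) [Fact p.Prime] (P : Sylow p ↥X), p ∣ Nat.card ↥M →
      (P : Subgroup ↥X) ≠ ⊥ → ∃ S : Sylow p G, IsCyclic ↥(S : Subgroup G) ∧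
        (P : Subgroup ↥X).map X.subtype ≤ S := by
    intro p _ P hpM hP
    obtain ⟨S, hS⟩ := (P.isPGroup'.map X.subtype).exists_le_sylow
    refine ⟨S, ?_, hS⟩
    have hp2 : p ≠ 2 := by
      rintro rfl
      exact (Nat.not_even_iff_odd.mpr hM) (even_iff_two_dvd.mpr hpM)
    rcases hB.sylow_odd hp2 S.isPGroup' with h | h
    · exact h
    obtain ⟨u, huP, hu⟩ := (hdvdA p P hP).2
    exfalso
    apply hu
    rcases eq_or_ne (u : G) 1 with h1 | h1
    · rw [h1]; exact one_mem M
    obtain ⟨m, hm⟩ := exists_prime_orderOf_dvd_card' (G := ↥M) p hpM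
    refine hB.mem_of_orderOf (m := (m : G)) m.2 ?_
    rw [Subgroup.orderOf_coe, hm]
    exact (orderOf_eq_prime (h _ (hS (mem_map_of_mem _ huP))) h1).symm
  have hPab : ∀ (p : ℕ) [Fact p.Prime] (P : Sylow p ↥X), ∀ u ∈ (P : Subgroup ↥X),
      ∀ v ∈ (P : Subgroup ↥X), u * v = v * u := by
    intro p _ P u hu v hv
    by_cases hP : (P : Subgroup ↥X) = ⊥
    · rw [hP, mem_bot] at hu
      subst hu; simp
    by_cases hpM : p ∣ Nat.card ↥M
    · obtain ⟨S, hScyc, hS⟩ := hcyc p P hpM hP
      let _ := hScyc.commGroup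
      have h := mul_comm (⟨(u : G), hS (mem_map_of_mem _ hu)⟩ : ↥(S : Subgroup G))
        ⟨(v : G), hS (mem_map_of_mem _ hv)⟩
      exact Subtype.ext (congrArg (fun t : ↥(S : Subgroup G) => (t : G)) h)
    · have hmem : u * v * u⁻¹ * v⁻¹ ∈ (P : Subgroup ↥X) :=
        mul_mem (mul_mem (mul_mem hu hv) (inv_mem hu)) (inv_mem hv)
      obtain ⟨k, hk⟩ := IsPGroup.iff_orderOf.mp P.isPGroup' ⟨_, hmem⟩
      rw [Subgroup.orderOf_mk] at hk
      have hker : φ (u * v * u⁻¹ * v⁻¹) = 1 := by
        rw [map_mul, map_mul, map_mul, hcomm u v]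
        simp
      have hM' : ((u * v * u⁻¹ * v⁻¹ : ↥X) : G) ∈ M := (QuotientGroup.eq_one_iff _).mp hker
      have hd := Subgroup.orderOf_dvd_natCard M hM'
      rw [Subgroup.orderOf_coe, hk] at hd
      rcases k with _ | k
      · rw [pow_zero, orderOf_eq_one_iff] at hk
        calc u * v = (u * v * u⁻¹ * v⁻¹) * (v * u) := by group
          _ = v * u := by rw [hk, one_mul]
      · exact absurd ((dvd_pow_self p k.succ_ne_zero).trans hd) hpM
  have hnil : Group.IsNilpotent ↥X :=
    (Group.isNilpotent_of_finite_tfae.out 0 3).mpr fun q hq P => @hnormal q hq P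
  have hab : IsMulCommutative ↥X := by
    refine ⟨⟨fun a b => ?_⟩⟩
    have hbc : centralizer ({a} : Set ↥X) = ⊤ := by
      refine Components.eq_top_of_forall_sylow _ fun p _ => ?_
      obtain ⟨P⟩ : Nonempty (Sylow p ↥X) := inferInstance
      refine ⟨P, fun u hu => ?_⟩
      rw [mem_centralizer_singleton_iff]
      have hau : centralizer ({u} : Set ↥X) = ⊤ := by
        refine Components.eq_top_of_forall_sylow _ fun q _ => ?_
        obtain ⟨Q⟩ : Nonempty (Sylow q ↥X) := inferInstance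
        refine ⟨Q, fun v hv => ?_⟩
        rw [mem_centralizer_singleton_iff]
        rcases eq_or_ne q p with rfl | hqp
        · have hn := hnormal q P
          have := Sylow.unique_of_normal P hn
          exact hPab q P v (Subsingleton.elim Q P ▸ hv) u hu
        obtain ⟨i, hi⟩ := IsPGroup.iff_orderOf.mp P.isPGroup' ⟨u, hu⟩
        obtain ⟨j, hj⟩ := IsPGroup.iff_orderOf.mp Q.isPGroup' ⟨v, hv⟩
        rw [Subgroup.orderOf_mk] at hi hj
        exact H25.commute_of_coprime_orderOf v u (hi ▸ hj ▸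
          Nat.Coprime.pow j i ((Nat.coprime_primes Fact.out Fact.out).mpr hqp))
      have : a ∈ centralizer ({u} : Set ↥X) := hau ▸ mem_top a
      exact (mem_centralizer_singleton_iff.mp this).symm
    exact (mem_centralizer_singleton_iff.mp (hbc ▸ mem_top b : b ∈ centralizer ({a} : Set ↥X))).symm
  refine ⟨X, hab, hX, fun p hp => ?_⟩
  have := Fact.mk hp
  obtain ⟨P⟩ : Nonempty (Sylow p ↥X) := inferInstance
  have hcardX : Nat.card ↥X = Nat.card ↥φ.ker * Nat.card ↥A := by
    rw [← Subgroup.card_mul_index φ.ker, Subgroup.index_ker, hrange]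
  have hPcard : Nat.card ↥(P : Subgroup ↥X) = p ^ (Nat.card ↥X).factorization p :=
    P.card_eq_multiplicity
  split_ifs with hpA
  · have hP : (P : Subgroup ↥X) ≠ ⊥ :=
      P.ne_bot_of_dvd_card (hpA.trans (hcardX ▸ dvd_mul_left _ _))
    rw [hcardX, Nat.factorization_mul Nat.card_pos.ne' Nat.card_pos.ne', Finsupp.add_apply, add_comm]
    congr 1
    have hkerM : Nat.card ↥φ.ker ∣ Nat.card ↥M := by
      rw [← Subgroup.card_map_of_injective X.subtype_injective]
      refine card_dvd_of_le ?_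
      rintro _ ⟨u, hu, rfl⟩
      exact (QuotientGroup.eq_one_iff _).mp (MonoidHom.mem_ker.mp hu)
    refine le_antisymm ((Nat.factorization_le_iff_dvd Nat.card_pos.ne' Nat.card_pos.ne').mpr hkerM p) ?_
    by_cases hpM : p ∣ Nat.card ↥M
    swap
    · rw [Nat.factorization_eq_zero_of_not_dvd hpM]; exact Nat.zero_le _
    obtain ⟨S, hScyc, hS⟩ := hcyc p P hpM hP
    obtain ⟨Q⟩ : Nonempty (Sylow p ↥M) := inferInstance
    obtain ⟨S', hS'⟩ := (Q.isPGroup'.map M.subtype).exists_le_sylow
    obtain ⟨g, hg⟩ := MulAction.exists_smul_eq G S' S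
    set R : Subgroup G := ((Q : Subgroup ↥M).map M.subtype).map (MulAut.conj g).toMonoidHom
    have hRM : R ≤ M := by
      rintro _ ⟨_, ⟨m, -, rfl⟩, rfl⟩
      exact (inferInstance : M.Normal).conj_mem m m.2 g
    have hRS : R ≤ (S : Subgroup G) := by
      rw [← hg, Sylow.coe_subgroup_smul]
      exact map_mono hS'
    have hRcard : Nat.card ↥R = p ^ (Nat.card ↥M).factorization p := by
      rw [Subgroup.card_map_of_injective (MulAut.conj g).injective,
        Subgroup.card_map_of_injective M.subtype_injective, Q.card_eq_multiplicity]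
    set P' := (P : Subgroup ↥X).map X.subtype with hP'
    have hRP : R ≤ P' := by
      have hcardP' : Nat.card ↥P' = p ^ (Nat.card ↥X).factorization p := by
        rw [Subgroup.card_map_of_injective X.subtype_injective, hPcard]
      have key : ∀ {H K : Subgroup G}, H ≤ (S : Subgroup G) → K ≤ (S : Subgroup G) →
          Nat.card ↥H ∣ Nat.card ↥K → H ≤ K := by
        intro H K hH hK hd
        have hd' : Nat.card ↥(H.subgroupOf (S : Subgroup G)) ∣
            Nat.card ↥(K.subgroupOf (S : Subgroup G)) := by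
          rwa [Nat.card_congr (subgroupOfEquivOfLe hH).toEquiv,
            Nat.card_congr (subgroupOfEquivOfLe hK).toEquiv]
        exact fun x hx => le_of_card_dvd_cyclic hd' (x := ⟨x, hH hx⟩) hx
      rcases le_total ((Nat.card ↥M).factorization p) ((Nat.card ↥X).factorization p) with h | h
      · exact key hRS hS (hRcard ▸ hcardP' ▸ pow_dvd_pow p h)
      · exfalso
        obtain ⟨u, hu, huM⟩ := (hdvdA p P hP).2
        exact huM (hRM (key hS hRS (hRcard ▸ hcardP' ▸ pow_dvd_pow p h) (mem_map_of_mem _ hu)))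
    have hRker : R ≤ φ.ker.map X.subtype := by
      intro r hr
      obtain ⟨u, -, rfl⟩ := hRP hr
      exact ⟨u, MonoidHom.mem_ker.mpr ((QuotientGroup.eq_one_iff _).mpr (hRM hr)), rfl⟩
    have hd := card_dvd_of_le hRker
    rw [hRcard, Subgroup.card_map_of_injective X.subtype_injective] at hd
    exact (hp.pow_dvd_iff_le_factorization Nat.card_pos.ne').mp hd
  · by_contra h
    apply hpA
    refine (hdvdA p P fun hbot' => h ?_).1
    rw [hbot', Subgroup.card_bot] at hPcard
    exact Nat.pow_right_injective hp.two_le (hPcard.symm.trans (pow_zero p).symm)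

theorem ConjAb.quotient_of_odd (hB : ConjAb G) (hM : Odd (Nat.card ↥M)) : ConjAb (G ⧸ M) := by
  intro A B hA hB' hcard
  obtain ⟨X, hX, hXA, hXf⟩ := hB.exists_lift hM A hA
  obtain ⟨Y, hY, hYB, hYf⟩ := hB.exists_lift hM B hB'
  have hXY : Nat.card ↥X = Nat.card ↥Y := by
    refine Nat.eq_of_factorization_eq Nat.card_pos.ne' Nat.card_pos.ne' fun p => ?_
    by_cases hp : p.Prime
    · rw [hXf p hp, hYf p hp, hcard]
    · rw [Nat.factorization_eq_zero_of_not_prime _ hp, Nat.factorization_eq_zero_of_not_prime _ hp]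
  obtain ⟨g, hg⟩ := hB X Y hX hY hXY
  refine ⟨QuotientGroup.mk' M g, ?_⟩
  rw [← hXA, ← hYB, hg, map_map, map_map]
  congr 1

end Cfsg.Agent.H73
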