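import Mathlib.GroupTheory.SpecificGroups.Cyclic
import Mathlib.GroupTheory.Exponent
import Mathlib.GroupTheory.Perm.Cycle.Type

/-!
# A non-cyclic finite abelian group has two independent elements of the same prime order
-/

set_option autoImplicit false

namespace Cfsg.Agent.H73

open Subgroup

theorem exists_independent_of_not_cyclic {A : Type*} [CommGroup A] [Finite A] (h : ¬ IsCyclic A) :
    ∃ (p : ℕ) (z y : A), p.Prime ∧ orderOf z = p ∧ orderOf y = p ∧ y ∉ zpowers z := by
  obtain ⟨x, hx⟩ := Monoid.exists_orderOf_eq_exponent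
    (Monoid.ExponentExists.of_finite : Monoid.ExponentExists A)
  have hxt : zpowers x ≠ ⊤ := fun ht => h (isCyclic_of_orderOf_eq_card x (by
    rw [← Nat.card_zpowers, ht, Subgroup.card_top]))
  obtain ⟨p, hp, hpd⟩ := Nat.exists_prime_and_dvd (n := Nat.card (A ⧸ zpowers x)) (by
    rw [← index_eq_card]; exact fun e => hxt (index_eq_one.mp e))
  have := Fact.mk hp
  obtain ⟨q, hq⟩ := exists_prime_orderOf_dvd_card' p hpd
  obtain ⟨y, rfl⟩ := QuotientGroup.mk_surjective q
  have hy : y ∉ zpowers x := fun hmem => hp.ne_one (by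
    rw [← hq, (QuotientGroup.eq_one_iff y).mpr hmem, orderOf_one])
  have hyp : y ^ p ∈ zpowers x := by
    rw [← QuotientGroup.eq_one_iff, QuotientGroup.mk_pow, ← hq]
    exact pow_orderOf_eq_one _
  obtain ⟨i, hi : x ^ i = y ^ p⟩ := mem_powers_iff_mem_zpowers.mpr hyp
  have hpN : p ∣ orderOf x := by
    rw [hx]
    exact (hq ▸ orderOf_map_dvd (QuotientGroup.mk' (zpowers x)) y).trans (Monoid.order_dvd_exponent y)
  obtain ⟨N, hN⟩ := hpN
  have hN0 : 0 < N := by
    have := orderOf_pos x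
    rw [hN] at this
    exact Nat.pos_of_mul_pos_left this
  have hdi : p ∣ i := by
    have h1 : x ^ (i * N) = 1 := by
      rw [pow_mul, hi, ← pow_mul, ← hN, hx]
      exact Monoid.pow_exponent_eq_one y
    rw [← orderOf_dvd_iff_pow_eq_one, hN] at h1
    exact (Nat.mul_dvd_mul_iff_right hN0).mp h1
  obtain ⟨i', rfl⟩ := hdi
  refine ⟨p, x ^ N, y * (x ^ i')⁻¹, hp, ?_, ?_, ?_⟩
  · rw [orderOf_pow' x hN0.ne', hN, Nat.gcd_eq_right (dvd_mul_left N p),
      Nat.mul_div_cancel _ hN0]
  · refine orderOf_eq_prime ?_ ?_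
    · rw [mul_pow, inv_pow, ← hi, ← pow_mul, mul_comm i' p, mul_inv_cancel]
    · intro h1
      exact hy (by rw [mul_inv_eq_one.mp h1]; exact pow_mem (mem_zpowers x) _)
  · intro hmem
    apply hy
    have := mul_mem (zpowers_le.mpr (pow_mem (mem_zpowers x) N) hmem) (pow_mem (mem_zpowers x) i')
    rwa [inv_mul_cancel_right] at this

end Cfsg.Agent.H73
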