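import Cfsg.Agent.H73.ClassCount
import Cfsg.Agent.PGroups.Basic
import Mathlib.GroupTheory.SchurZassenhaus
import Mathlib.Data.Nat.Factorization.Basic
import Cfsg.Prelude.Def_OddOrderLocal

/-!
# Many classes of π-elements force normal π-complements
-/

set_option autoImplicit false
set_option linter.unusedSectionVars false
set_option linter.style.haveILetI false

namespace Cfsg.Agent.H73

open Subgroup

section Sylow

variable {G : Type*} [Group G] [Finite G] {p : ℕ} [Fact p.Prime]

theorem sylow_card_congr (P Q : Sylow p G) :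
    Nat.card ↥(P : Subgroup G) = Nat.card ↥(Q : Subgroup G) := by
  rw [P.card_eq_multiplicity, Q.card_eq_multiplicity]

theorem moved_bound (hn : ¬ HasNormalPComplement p G) (a : ℕ) (ha : 1 ≤ a)
    (hord : ∀ n : G, Nat.Coprime (orderOf n) p → ∀ i : ℕ, 0 < i → i < a → Nat.Coprime i (orderOf n)) :
    ∃ c t s : ℕ, t ≤ s ∧ p * c ≤ t ∧ (p = 2 → 4 * c ≤ t) ∧
      (∀ P : Sylow p G, Nat.card ↥(P : Subgroup G) = s) ∧
      a * p * piClassCount {p} G + p * c + a * t ≤ a * p * c + p * t + a * s := by
  classical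
  obtain ⟨P, T, n, hTP, hZT, hnT, hnp, hnc⟩ := exists_moved_overgroup hn
  set C : Subgroup G := T ⊓ centralizer ({n} : Set G) with hC
  have hmemC : ∀ y, y ∈ C ↔ y ∈ T ∧ n * y * n⁻¹ = y := by
    intro y
    rw [hC, mem_inf, mem_centralizer_singleton_iff, mul_inv_eq_iff_eq_mul]
    exact ⟨fun h => ⟨h.1, h.2.symm⟩, fun h => ⟨h.1, h.2.symm⟩⟩
  have hCne : C ≠ T := by
    intro h
    apply hnc
    rw [mem_centralizer_iff]
    intro y hy
    have := ((hmemC y).mp (h ▸ hy)).2
    exact (mul_inv_eq_iff_eq_mul.mp this).symm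
  have hT : IsPGroup p ↥T := P.isPGroup'.to_le hTP
  obtain ⟨k, hk⟩ := hT.index (C.subgroupOf T)
  have hCT : C ≤ T := inf_le_left
  have hk' : Nat.card ↥T = Nat.card ↥C * p ^ k := by
    rw [← hk, ← Nat.card_congr (Subgroup.subgroupOfEquivOfLe hCT).toEquiv, card_mul_index]
  have hk0 : k ≠ 0 := by
    rintro rfl
    exact hCne (Subgroup.eq_of_le_of_card_ge hCT (by rw [hk', pow_zero, mul_one]))
  have hk1 : p = 2 → k ≠ 1 := by
    rintro rfl rfl
    apply hCne
    rw [pow_one] at hk
    haveI hnorm : (C.subgroupOf T).Normal := Subgroup.normal_of_index_eq_two hk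
    refine le_antisymm hCT fun y hy => ?_
    by_contra hyC
    have hny : n * y * n⁻¹ ∈ T := (mem_normalizer_iff.mp hnT y).mp hy
    have hyC' : (⟨y, hy⟩ : ↥T)⁻¹ * ⟨n * y * n⁻¹, hny⟩ ∈ C.subgroupOf T := by
      by_contra h'
      have h1 : (⟨y, hy⟩ : ↥T) ∉ C.subgroupOf T := hyC
      have h1' : (⟨y, hy⟩ : ↥T)⁻¹ ∉ C.subgroupOf T := fun h => h1 (by simpa using inv_mem h)
      have h2 : (⟨n * y * n⁻¹, hny⟩ : ↥T) ∉ C.subgroupOf T := by
        intro h
        apply hyC
        have h3 := (hmemC _).mp h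
        rw [hmemC]
        refine ⟨hy, ?_⟩
        have := congrArg (fun w => n⁻¹ * w * n) h3.2
        simpa [mul_assoc] using this
      exact h' ((Subgroup.mul_mem_iff_of_index_two hk).mpr (iff_of_false h1' h2))
    set c := y⁻¹ * (n * y * n⁻¹) with hc
    have hcC : c ∈ C := hyC'
    have hfix : n * c * n⁻¹ = c := ((hmemC c).mp hcC).2
    have hiter : ∀ i : ℕ, n ^ i * y * (n ^ i)⁻¹ = y * c ^ i := by
      intro i
      induction i with
      | zero => simp
      | succ i ih =>
        rw [pow_succ' n i, pow_succ' c i]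
        calc n * n ^ i * y * (n * n ^ i)⁻¹ = n * (n ^ i * y * (n ^ i)⁻¹) * n⁻¹ := by group
          _ = n * (y * c ^ i) * n⁻¹ := by rw [ih]
          _ = (n * y * n⁻¹) * (n * c * n⁻¹) ^ i := by rw [conj_pow]; group
          _ = y * (c * c ^ i) := by
            have e : n * y * n⁻¹ = y * c := by rw [hc]; group
            rw [hfix, e, mul_assoc]
    have h1 := hiter (orderOf n)
    rw [pow_orderOf_eq_one, one_mul, inv_one, mul_one] at h1
    have h2 : orderOf c ∣ orderOf n := orderOf_dvd_iff_pow_eq_one.mpr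
      (mul_left_cancel (h1.symm.trans (mul_one y).symm))
    obtain ⟨j, hj⟩ := IsPGroup.iff_orderOf.mp hT ⟨c, hCT hcC⟩
    rw [← Subgroup.orderOf_coe] at hj
    have h3 : orderOf c = 1 := by
      rw [hj] at h2 ⊢
      exact Nat.eq_one_of_dvd_coprimes (Nat.Coprime.pow_left j (Nat.Coprime.symm hnp)) dvd_rfl h2
    rw [orderOf_eq_one_iff, hc, inv_mul_eq_one] at h3
    exact hyC ((hmemC y).mpr ⟨hy, h3.symm⟩)
  refine ⟨Nat.card ↥C, Nat.card ↥T, Nat.card ↥(P : Subgroup G),
    Nat.le_of_dvd Nat.card_pos (card_dvd_of_le hTP), ?_, ?_, fun Q => sylow_card_congr Q P, ?_⟩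
  · rw [hk', mul_comm p]
    exact Nat.mul_le_mul_left _
      (Nat.le_of_dvd (pow_pos (Fact.out : p.Prime).pos _) (dvd_pow_self p hk0))
  · rintro rfl
    rw [hk', mul_comm 4]
    refine Nat.mul_le_mul_left _ ?_
    calc 4 = 2 ^ 2 := rfl
      _ ≤ 2 ^ k := Nat.pow_le_pow_right (by norm_num) (by have := hk1 rfl; omega)
  refine count_bound P C T hTP hCT a ha ?_ ?_
  · intro y hy hyC
    let f : ℕ → G := fun i => n ^ i * y * (n ^ i)⁻¹
    have hf : Set.InjOn f ↑(Finset.range a) := by
      have key : ∀ i j, i < j → j < a → f i ≠ f j := by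
        intro i j hij hja he
        have hfix : n ^ (j - i) * y = y * n ^ (j - i) := by
          have e2 : n ^ j = n ^ i * n ^ (j - i) := by rw [← pow_add, Nat.add_sub_cancel' hij.le]
          simp only [f, e2] at he
          have := congrArg (fun w => (n ^ i)⁻¹ * w * (n ^ i * n ^ (j - i))) he
          simp only [← mul_assoc, inv_mul_cancel, one_mul, inv_mul_cancel_right] at this
          simpa [mul_assoc] using this.symm
        apply hyC
        rw [hmemC]
        refine ⟨hy, ?_⟩
        obtain ⟨m, hm⟩ := exists_pow_eq_self_of_coprime (hord n hnp (j - i) (by omega) (by omega))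
        rw [mul_inv_eq_iff_eq_mul]
        have : Commute (n ^ (j - i)) y := hfix
        have := this.pow_left m
        rw [hm] at this
        exact this
      intro i hi j hj he
      simp only [Finset.coe_range, Set.mem_Iio] at hi hj
      rcases lt_trichotomy i j with h | h | h
      · exact absurd he (key i j h hj)
      · exact h
      · exact absurd he.symm (key j i h hi)
    refine ⟨(Finset.range a).image f, ?_, ?_⟩
    · rw [Finset.card_image_of_injOn hf, Finset.card_range]
    · intro z hz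
      obtain ⟨i, -, rfl⟩ := Finset.mem_image.mp hz
      have hni : n ^ i ∈ normalizer (T : Set G) := pow_mem hnT i
      refine ⟨(mem_normalizer_iff.mp hni y).mp hy, fun h => hyC ?_, isConj_iff.mpr ⟨_, rfl⟩⟩
      rw [hmemC] at h ⊢
      refine ⟨hy, ?_⟩
      have := congrArg (fun w => (n ^ i)⁻¹ * w * n ^ i) h.2
      have hcm : n * n ^ i = n ^ i * n := (Commute.self_pow n i)
      calc n * y * n⁻¹ = (n ^ i)⁻¹ * (n ^ i * n) * y * (n ^ i * n)⁻¹ * n ^ i := by group
        _ = (n ^ i)⁻¹ * (n * f i * n⁻¹) * n ^ i := by rw [← hcm]; simp only [f]; group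
        _ = y := by rw [this]; simp only [f]; group
  · intro y hy hyT
    exact exists_finset_conj_sylow P hy fun h => hyT (hZT ⟨hy, h⟩)

theorem two_le_half (hn : ¬ HasNormalPComplement 2 G) (P : Sylow 2 G) :
    2 * piClassCount {2} G ≤ Nat.card ↥(P : Subgroup G) := by
  obtain ⟨c, t, s, hts, -, h4, hs, h⟩ := moved_bound hn 3 (by norm_num) (by
    intro n hn' i hi hi'
    interval_cases i
    · exact Nat.coprime_one_left _
    · exact hn'.symm)
  have := h4 rfl
  rw [hs P]
  omega

theorem odd_le_of_moved (hn : ¬ HasNormalPComplement p G) (a : ℕ) (ha : 1 ≤ a)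
    (hord : ∀ n : G, Nat.Coprime (orderOf n) p → ∀ i : ℕ, 0 < i → i < a → Nat.Coprime i (orderOf n))
    (P : Sylow p G) :
    a * p * piClassCount {p} G + Nat.card ↥(P : Subgroup G) ≤
      (p + a) * Nat.card ↥(P : Subgroup G) := by
  obtain ⟨c, t, s, hts, hc, -, hs, h⟩ := moved_bound hn a ha hord
  rw [hs P]
  obtain ⟨a, rfl⟩ : ∃ a', a = a' + 1 := ⟨a - 1, by omega⟩
  obtain ⟨q, hq⟩ : ∃ q, p = q + 1 := ⟨p - 1, by have := (Fact.out : p.Prime).pos; omega⟩
  nlinarith [Nat.mul_le_mul_left a hc, Nat.mul_le_mul_left q hts, hq]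

theorem nonabelian_le (P : Sylow p G) (hP : ¬ IsMulCommutative ↥(P : Subgroup G)) :
    p ^ 3 * piClassCount {p} G + Nat.card ↥(P : Subgroup G) ≤
      (p ^ 2 + p) * Nat.card ↥(P : Subgroup G) := by
  set Z : Subgroup G := (P : Subgroup G) ⊓ centralizer ((P : Subgroup G) : Set G)
  have h := count_bound P Z Z inf_le_left le_rfl 1 le_rfl
    (fun y hy hy' => absurd hy hy')
    (fun y hy hy' => exists_finset_conj_sylow P hy fun h => hy' ⟨hy, h⟩)
  have hZ : Z.subgroupOf (P : Subgroup G) = center ↥(P : Subgroup G) := by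
    ext x
    simp only [Z, mem_subgroupOf, mem_inf, SetLike.coe_mem, true_and, mem_centralizer_iff,
      mem_center_iff]
    exact ⟨fun h g => Subtype.ext (h g g.2), fun h g hg => congrArg Subtype.val (h ⟨g, hg⟩)⟩
  obtain ⟨k, hk⟩ := P.isPGroup'.index (center ↥(P : Subgroup G))
  have hk0 : k ≠ 0 := by
    rintro rfl
    rw [pow_zero, index_eq_one] at hk
    exact hP ⟨⟨fun a b => ((mem_center_iff.mp (hk ▸ mem_top a)) b).symm⟩⟩
  have hk1 : k ≠ 1 := by
    rintro rfl
    exact PGroups.center_index_ne_prime (hk.trans (pow_one _))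
  have hs : Nat.card ↥Z * p ^ k = Nat.card ↥(P : Subgroup G) := by
    rw [← hk, ← hZ, ← Nat.card_congr (Subgroup.subgroupOfEquivOfLe
      (inf_le_left : Z ≤ (P : Subgroup G))).toEquiv, card_mul_index]
  have hz : p * p * Nat.card ↥Z ≤ Nat.card ↥(P : Subgroup G) := by
    rw [← hs, mul_comm (p * p)]
    refine Nat.mul_le_mul_left _ ?_
    calc p * p = p ^ 2 := by ring
      _ ≤ p ^ k := Nat.pow_le_pow_right (Fact.out : p.Prime).pos (by omega)
  obtain ⟨q, hq⟩ : ∃ q, p = q + 1 := ⟨p - 1, by have := (Fact.out : p.Prime).pos; omega⟩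
  nlinarith [Nat.mul_le_mul_left q hz, Nat.mul_le_mul_left (p * p) h]

/-- For odd `p`: many classes of `p`-elements give a normal complement and abelian Sylow. -/
theorem good_of_many_odd (hp : p ≠ 2) (P : Sylow p G)
    (hk : (p + 1) * Nat.card ↥(P : Subgroup G) < 2 * p * piClassCount {p} G) :
    HasNormalPComplement p G ∧ IsMulCommutative ↥(P : Subgroup G) := by
  have hp3 : 3 ≤ p := by have := (Fact.out : p.Prime).two_le; omega
  constructor
  · by_contra hn
    have := odd_le_of_moved hn 2 (by norm_num) (by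
      intro n _ i hi hi'
      interval_cases i
      exact Nat.coprime_one_left _) P
    nlinarith
  · by_contra hn
    have := nonabelian_le P hn
    nlinarith [Nat.mul_le_mul_left (p * p) hk.le, Nat.mul_le_mul_left (Nat.card ↥(P : Subgroup G))
      (show 2 * p ^ 2 + 2 * p ≤ p ^ 3 + p ^ 2 by nlinarith)]

/-- In a group of odd order the threshold drops to one half. -/
theorem good_of_many_odd_order (hG : Odd (Nat.card G)) (hp : p ≠ 2) (P : Sylow p G)
    (hk : Nat.card ↥(P : Subgroup G) < 2 * piClassCount {p} G) :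
    HasNormalPComplement p G ∧ IsMulCommutative ↥(P : Subgroup G) := by
  have hp3 : 3 ≤ p := by have := (Fact.out : p.Prime).two_le; omega
  have hn2 : ∀ n : G, Nat.Coprime 2 (orderOf n) := fun n =>
    (Nat.coprime_two_left).mpr (hG.of_dvd_nat (orderOf_dvd_natCard n))
  constructor
  · by_contra hn
    by_cases h3 : p = 3
    · subst h3
      have := odd_le_of_moved hn 5 (by norm_num) (by
        intro n hn' i hi hi'
        interval_cases i
        · exact Nat.coprime_one_left _
        · exact hn2 n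
        · exact hn'.symm
        · exact (hn2 n).pow_left 2) P
      omega
    · have hp5 : 5 ≤ p := by
        have h4 : p ≠ 4 := fun h => by
          have := (Fact.out : p.Prime); rw [h] at this; norm_num at this
        omega
      have := odd_le_of_moved hn 3 (by norm_num) (by
        intro n _ i hi hi'
        interval_cases i
        · exact Nat.coprime_one_left _
        · exact hn2 n) P
      nlinarith
  · by_contra hn
    have := nonabelian_le P hn
    nlinarith [Nat.mul_le_mul_left (p * p * p) hk.le, Nat.mul_le_mul_left (Nat.card ↥(P : Subgroup G))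
      (show 2 * p ^ 2 + 2 * p ≤ p ^ 3 by nlinarith), (Nat.card_pos : 0 < Nat.card ↥(P : Subgroup G))]

end Sylow

section Pi

/-- The product of the `r`-parts of `n` over `r` in `π`. -/
noncomputable def piProd (π : Finset ℕ) (n : ℕ) : ℕ :=
  π.prod (fun r => r ^ n.factorization r)

theorem piProd_pos {π : Finset ℕ} (hπ : ∀ r ∈ π, r.Prime) (n : ℕ) : 0 < piProd π n :=
  Finset.prod_pos fun r hr => pow_pos (hπ r hr).pos _

theorem piProd_mono {π : Finset ℕ} (hπ : ∀ r ∈ π, r.Prime) {m n : ℕ} (hn : n ≠ 0) (h : m ∣ n) :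
    piProd π m ≤ piProd π n := by
  have hm : m ≠ 0 := fun h0 => hn (Nat.eq_zero_of_zero_dvd (h0 ▸ h))
  exact Finset.prod_le_prod' fun r hr => Nat.pow_le_pow_right (hπ r hr).pos
    ((Nat.factorization_le_iff_dvd hm hn).mpr h r)

theorem piClassCount_le_piProd : ∀ (π : Finset ℕ), (∀ r ∈ π, r.Prime) →
    ∀ (G : Type _) [Group G] [Finite G], piClassCount (↑π : Set ℕ) G ≤ piProd π (Nat.card G) := by
  classical
  intro π
  induction π using Finset.induction_on with
  | empty =>
    intro _ G _ _
    haveI := finite_conjClasses (G := G)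
    refine (Nat.card_le_card_of_injective (fun _ => ()) ?_).trans (by simp [piProd])
    rintro ⟨c, hc⟩ ⟨d, hd⟩ -
    obtain ⟨x, rfl⟩ := ConjClasses.mk_surjective c
    obtain ⟨y, rfl⟩ := ConjClasses.mk_surjective d
    have : ∀ z : G, PiElem (↑(∅ : Finset ℕ) : Set ℕ) z → z = 1 := by
      intro z hz
      rw [← orderOf_eq_one_iff]
      by_contra hne
      simpa using hz _ (Nat.minFac_prime hne) (Nat.minFac_dvd _)
    rw [Subtype.mk.injEq, this x (mk_mem_iff.mp hc), this y (mk_mem_iff.mp hd)]
  | @insert r π hr ih =>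
    intro hπ G _ _
    haveI := Fact.mk (hπ r (Finset.mem_insert_self r π))
    have hπ' : ∀ q ∈ π, q.Prime := fun q hq => hπ q (Finset.mem_insert_of_mem hq)
    refine (piClassCount_le_mul _ ({r} : Set ℕ) (piProd π (Nat.card G)) fun x _ => ?_).trans ?_
    · have e : (↑(insert r π) : Set ℕ) \ {r} = ↑π := by
        rw [Finset.coe_insert, Set.insert_sdiff_of_mem _ (Set.mem_singleton r)]
        exact Set.sdiff_singleton_eq_self (by simpa using hr)
      rw [e]
      exact (ih hπ' _).trans (piProd_mono hπ' Nat.card_pos.ne' (card_subgroup_dvd_card _))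
    · have e : (↑(insert r π) : Set ℕ) ∩ {r} = {r} := by simp
      rw [e, piProd, piProd, Finset.prod_insert hr]
      refine Nat.mul_le_mul_right _ ?_
      have := piClassCount_le_sylow (default : Sylow r G)
      rwa [(default : Sylow r G).card_eq_multiplicity] at this

theorem piClassCount_le_sylow_mul {π : Finset ℕ} (hπ : ∀ r ∈ π, r.Prime) {r : ℕ} (hr : r ∈ π)
    (G : Type*) [Group G] [Finite G] :
    piClassCount (↑π : Set ℕ) G ≤ piClassCount {r} G * piProd (π.erase r) (Nat.card G) := by
  have hπ' : ∀ q ∈ π.erase r, q.Prime := fun q hq => hπ q (Finset.mem_of_mem_erase hq)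
  have e1 : (↑π : Set ℕ) ∩ {r} = {r} := Set.inter_eq_right.mpr (by simpa using hr)
  have e2 : (↑π : Set ℕ) \ {r} = ↑(π.erase r) := (Finset.coe_erase r π).symm
  have := piClassCount_le_mul (G := G) (↑π : Set ℕ) ({r} : Set ℕ) (piProd (π.erase r) (Nat.card G))
    fun x _ => by
      rw [e2]
      exact (piClassCount_le_piProd _ hπ' _).trans
        (piProd_mono hπ' Nat.card_pos.ne' (card_subgroup_dvd_card _))
  rwa [e1] at this

theorem piProd_erase {π : Finset ℕ} {r : ℕ} (hr : r ∈ π) (n : ℕ) :
    piProd π n = r ^ n.factorization r * piProd (π.erase r) n :=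
  (Finset.mul_prod_erase π _ hr).symm

/-- Assembling complements for every prime in `π`. -/
theorem exists_complement_hall {K : Type*} [Group K] [Finite K] {π : Finset ℕ}
    (hπ : ∀ r ∈ π, r.Prime)
    (h : ∀ (r : ℕ) [Fact r.Prime], r ∈ π → ∀ P : Sylow r K,
      HasNormalPComplement r K ∧ IsMulCommutative ↥(P : Subgroup K)) :
    ∃ N : Subgroup K, N.Characteristic ∧ (∀ r : ℕ, r.Prime → r ∣ Nat.card ↥N → r ∉ π) ∧
      (∀ r : ℕ, r.Prime → r ∣ N.index → r ∈ π) ∧
      ∃ H : Subgroup K, IsPiHall (↑π : Set ℕ) H ∧ IsMulCommutative ↥H := by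
  classical
  set N : Subgroup K := ⨅ r ∈ π, pResidual r K with hN
  have hle : ∀ r ∈ π, N ≤ pResidual r K := fun r hr => iInf₂_le r hr
  have hchar : N.Characteristic := by
    rw [characteristic_iff_map_le]
    intro φ
    refine le_iInf₂ fun r hr => (Subgroup.map_mono (hle r hr)).trans ?_
    haveI := Fact.mk (hπ r hr)
    exact characteristic_iff_map_le.mp inferInstance φ
  have h1 : ∀ r : ℕ, r.Prime → r ∣ Nat.card ↥N → r ∉ π := by
    intro r hr hd hmem
    haveI := Fact.mk hr
    exact (Fusion.hasNormalPComplement_iff_pResidual.mp (h r hmem default).1)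
      (hd.trans (card_dvd_of_le (hle r hmem)))
  have h2 : ∀ r : ℕ, r.Prime → r ∣ N.index → r ∈ π := by
    have key : ∀ s : Finset ℕ, s ⊆ π →
        ∀ r : ℕ, r.Prime → r ∣ (⨅ q ∈ s, pResidual q K : Subgroup K).index → r ∈ π := by
      intro s
      induction s using Finset.induction_on with
      | empty =>
        intro _ r hr hd
        simp [hr.ne_one] at hd
      | @insert q s hq ih =>
        intro hs r hr hd
        haveI := Fact.mk (hπ q (hs (Finset.mem_insert_self q s)))
        rw [Finset.iInf_insert] at hd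
        have hd' : r ∣ (⨅ x ∈ s, pResidual x K : Subgroup K).index *
            (pResidual q K).index := by
          refine hd.trans ?_
          rw [← relIndex_mul_index (inf_le_right : pResidual q K ⊓ (⨅ x ∈ s, pResidual x K) ≤ _),
            inf_relIndex_right, mul_comm]
          exact mul_dvd_mul dvd_rfl (relIndex_dvd_index_of_normal _ _)
        rcases hr.dvd_mul.mp hd' with h' | h'
        · exact ih (fun x hx => hs (Finset.mem_insert_of_mem hx)) r hr h'
        · obtain ⟨k, hk⟩ := IsPGroup.iff_card.mp (Fusion.isPGroup_quotient_pResidual (p := q) (G := K))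
          rw [index_eq_card, hk] at h'
          rw [(Nat.prime_dvd_prime_iff_eq hr Fact.out).mp (hr.dvd_of_dvd_pow h')]
          exact hs (Finset.mem_insert_self q s)
    exact key π subset_rfl
  have hcop : Nat.Coprime (Nat.card ↥N) N.index :=
    Nat.coprime_of_dvd fun r hr hd hd' => h1 r hr hd (h2 r hr hd')
  obtain ⟨H, hH⟩ := Subgroup.exists_right_complement'_of_coprime hcop
  refine ⟨N, hchar, h1, h2, H, ⟨fun r hr hd => h2 r hr (hH.symm.index_eq_card ▸ hd),
    fun r hr hmem hd => h1 r hr (hH.index_eq_card ▸ hd) hmem⟩, ⟨⟨fun a b => ?_⟩⟩⟩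
  have hc : (a : K) * b * (a : K)⁻¹ * (b : K)⁻¹ ∈ N := by
    rw [hN, mem_iInf]
    intro r
    rw [mem_iInf]
    intro hr
    haveI := Fact.mk (hπ r hr)
    rw [← QuotientGroup.eq_one_iff]
    have hsurj : ∀ q : K ⧸ pResidual r K, ∃ π ∈ ((default : Sylow r K) : Subgroup K),
        QuotientGroup.mk' (pResidual r K) π = q := by
      intro q
      have := Subgroup.map_top_of_surjective _ (QuotientGroup.mk'_surjective (pResidual r K))
      rw [← Fusion.sylow_sup_pResidual (default : Sylow r K), Subgroup.map_sup,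
        QuotientGroup.map_mk'_self, sup_bot_eq] at this
      obtain ⟨π, hπ, hq⟩ := this.symm ▸ mem_top q
      exact ⟨π, hπ, hq⟩
    obtain ⟨u, hu, hua⟩ := hsurj (QuotientGroup.mk' _ (a : K))
    obtain ⟨v, hv, hvb⟩ := hsurj (QuotientGroup.mk' _ (b : K))
    haveI := (h r hr default).2
    have huv : u * v = v * u :=
      congrArg Subtype.val (mul_comm' (⟨u, hu⟩ : ↥((default : Sylow r K) : Subgroup K)) ⟨v, hv⟩)
    show QuotientGroup.mk' _ ((a : K) * b * (a : K)⁻¹ * (b : K)⁻¹) = 1
    rw [map_mul, map_mul, map_mul, map_inv, map_inv, ← hua, ← hvb, ← map_inv, ← map_inv,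
      ← map_mul, ← map_mul, ← map_mul, huv, mul_inv_cancel_right, mul_inv_cancel, map_one]
  have hone : (a : K) * b * (a : K)⁻¹ * (b : K)⁻¹ = 1 :=
    Subgroup.disjoint_def.mp hH.disjoint hc
      (mul_mem (mul_mem (mul_mem a.2 b.2) (inv_mem a.2)) (inv_mem b.2))
  apply Subtype.ext
  simp only [Subgroup.coe_mul]
  calc (a : K) * b = ((a : K) * b * (a : K)⁻¹ * (b : K)⁻¹) * (b * a) := by group
    _ = b * a := by rw [hone, one_mul]

end Pi

end Cfsg.Agent.H73
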