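import Cfsg.Agent.Fusion.Frobenius
import Mathlib.GroupTheory.Commutator.Finite
import Mathlib.GroupTheory.PGroup

/-!
# Counting conjugacy classes of π-elements

`piClassCount S G` is the number of classes of `S`-elements.
-/

set_option autoImplicit false
set_option linter.unusedSectionVars false
set_option linter.style.haveILetI false

namespace Cfsg.Agent.H73

open Subgroup

variable {G : Type*} [Group G]

/-- Every prime divisor of the order of `x` lies in `S`. -/
def PiElem (S : Set ℕ) (x : G) : Prop :=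
  ∀ r : ℕ, r.Prime → r ∣ orderOf x → r ∈ S

/-- The number of conjugacy classes consisting of `S`-elements. -/
noncomputable def piClassCount (S : Set ℕ) (G : Type*) [Group G] : ℕ :=
  Nat.card {c : ConjClasses G // ∀ x ∈ c.carrier, PiElem S x}

theorem piElem_conj {S : Set ℕ} {x y : G} (h : IsConj x y) (hx : PiElem S x) : PiElem S y := by
  obtain ⟨g, hg⟩ := isConj_iff.mp h
  intro r hr hd
  rw [← hg, ← MulAut.conj_apply, ← MulEquiv.coe_toMonoidHom,
    orderOf_injective _ (MulAut.conj g).injective] at hd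
  exact hx r hr hd

theorem mk_mem_iff {S : Set ℕ} {x : G} :
    (∀ y ∈ (ConjClasses.mk x).carrier, PiElem S y) ↔ PiElem S x := by
  refine ⟨fun h => h x ConjClasses.mem_carrier_mk, fun h y hy => piElem_conj ?_ h⟩
  exact ((ConjClasses.mk_eq_mk_iff_isConj).mp (ConjClasses.mem_carrier_iff_mk_eq.mp hy)).symm

theorem piClassCount_congr {S : Set ℕ} {P : G → Prop} (h : ∀ x, P x ↔ PiElem S x) :
    Nat.card {c : ConjClasses G // ∀ x ∈ c.carrier, P x} = piClassCount S G :=
  Nat.card_congr (Equiv.subtypeEquivRight fun c => forall₂_congr fun x _ => h x)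

theorem piElem_singleton_iff {p : ℕ} (hp : p.Prime) [Finite G] (x : G) :
    PiElem {p} x ↔ ∃ k : ℕ, orderOf x = p ^ k := by
  constructor
  · intro h
    exact ⟨_, Nat.eq_prime_pow_of_unique_prime_dvd (orderOf_pos x).ne' fun hr hd => h _ hr hd⟩
  · rintro ⟨k, hk⟩ r hr hd
    rw [hk] at hd
    exact (Nat.prime_dvd_prime_iff_eq hr hp).mp (hr.dvd_of_dvd_pow hd)

variable [Finite G]

theorem finite_conjClasses {G : Type*} [Group G] [Finite G] : Finite (ConjClasses G) :=
  Finite.of_surjective _ ConjClasses.mk_surjective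

attribute [local instance] finite_conjClasses

/-- An element splits into powers with orders in `S` and prime to `S`. -/
theorem exists_piElem_mul (S : Set ℕ) (z : G) :
    ∃ a b : ℕ, z ^ a * z ^ b = z ∧ PiElem S (z ^ a) ∧ PiElem Sᶜ (z ^ b) := by
  classical
  set n := orderOf z with hn
  have hn0 : n ≠ 0 := (orderOf_pos z).ne'
  set m := (n.primeFactorsList.filter (fun r => decide (r ∈ S))).prod with hm
  set m' := (n.primeFactorsList.filter (fun r => !decide (r ∈ S))).prod with hm'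
  have hmm : m * m' = n := by
    rw [hm, hm', ← List.prod_append,
      (List.filter_append_perm (fun r => decide (r ∈ S)) n.primeFactorsList).prod_eq,
      Nat.prod_primeFactorsList hn0]
  have hcm : ∀ r : ℕ, r.Prime → r ∣ m → r ∈ S := by
    intro r hr hd
    obtain ⟨a, ha, had⟩ := (Prime.dvd_prod_iff hr.prime).mp hd
    rw [List.mem_filter, decide_eq_true_eq] at ha
    rw [(Nat.prime_dvd_prime_iff_eq hr (Nat.prime_of_mem_primeFactorsList ha.1)).mp had]
    exact ha.2
  have hcm' : ∀ r : ℕ, r.Prime → r ∣ m' → r ∈ Sᶜ := by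
    intro r hr hd
    obtain ⟨a, ha, had⟩ := (Prime.dvd_prod_iff hr.prime).mp hd
    rw [List.mem_filter, Bool.not_eq_true', decide_eq_false_iff_not] at ha
    rw [(Nat.prime_dvd_prime_iff_eq hr (Nat.prime_of_mem_primeFactorsList ha.1)).mp had]
    exact ha.2
  have hco : m.Coprime m' :=
    Nat.coprime_of_dvd fun r hr h1 h2 => hcm' r hr h2 (hcm r hr h1)
  obtain ⟨a, ha1, ha2⟩ := Nat.chineseRemainder hco 1 0
  obtain ⟨b, hb1, hb2⟩ := Nat.chineseRemainder hco 0 1
  refine ⟨a, b, ?_, ?_, ?_⟩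
  · rw [← pow_add]
    conv_rhs => rw [← pow_one z]
    rw [pow_eq_pow_iff_modEq, ← hn, ← hmm, ← Nat.modEq_and_modEq_iff_modEq_mul hco]
    exact ⟨by simpa using ha1.add hb1, by simpa using ha2.add hb2⟩
  · intro r hr hd
    refine hcm r hr (hd.trans ?_)
    rw [orderOf_dvd_iff_pow_eq_one, ← pow_mul, ← orderOf_dvd_iff_pow_eq_one, ← hn, ← hmm, mul_comm a m]
    exact Nat.mul_dvd_mul_left m (Nat.modEq_zero_iff_dvd.mp ha2)
  · intro r hr hd
    refine hcm' r hr (hd.trans ?_)
    rw [orderOf_dvd_iff_pow_eq_one, ← pow_mul, ← orderOf_dvd_iff_pow_eq_one, ← hn, ← hmm]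
    exact Nat.mul_dvd_mul_right (Nat.modEq_zero_iff_dvd.mp hb1) m'

theorem piElem_pow {S : Set ℕ} {x : G} (h : PiElem S x) (n : ℕ) : PiElem S (x ^ n) :=
  fun r hr hd => h r hr (hd.trans (orderOf_pow_dvd n))

/-- Classes of `S`-elements split by their `T`-parts. -/
theorem piClassCount_le_mul (S T : Set ℕ) (B : ℕ)
    (hB : ∀ x : G, PiElem (S ∩ T) x →
      piClassCount (S \ T) ↥(centralizer ({x} : Set G)) ≤ B) :
    piClassCount S G ≤ piClassCount (S ∩ T) G * B := by
  classical
  let I := {c : ConjClasses G // ∀ x ∈ c.carrier, PiElem (S ∩ T) x}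
  haveI : Fintype I := Fintype.ofFinite _
  let rep : I → G := fun c => c.1.out
  have hrep : ∀ c : I, ConjClasses.mk (rep c) = c.1 := fun c => Quotient.out_eq c.1
  have hrepm : ∀ c : I, PiElem (S ∩ T) (rep c) := fun c =>
    c.2 _ (ConjClasses.mem_carrier_iff_mk_eq.mpr (hrep c))
  let J : I → Type _ := fun c =>
    {d : ConjClasses ↥(centralizer ({rep c} : Set G)) // ∀ y ∈ d.carrier, PiElem (S \ T) y}
  let f : (Σ c : I, J c) → ConjClasses G := fun p => ConjClasses.mk (rep p.1 * (p.2.1.out : G))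
  have hf : {c : ConjClasses G | ∀ x ∈ c.carrier, PiElem S x} ⊆ Set.range f := by
    intro c hc
    obtain ⟨z, rfl⟩ := ConjClasses.mk_surjective c
    have hz : PiElem S z := mk_mem_iff.mp hc
    obtain ⟨a, b, hab, ha, hb⟩ := exists_piElem_mul T z
    have ha' : PiElem (S ∩ T) (z ^ a) := fun r hr hd =>
      ⟨piElem_pow hz a r hr hd, ha r hr hd⟩
    let c0 : I := ⟨ConjClasses.mk (z ^ a), mk_mem_iff.mpr ha'⟩
    obtain ⟨g, hg⟩ := isConj_iff.mp (ConjClasses.mk_eq_mk_iff_isConj.mp (hrep c0).symm)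
    have hy : g * z ^ b * g⁻¹ ∈ centralizer ({rep c0} : Set G) := by
      rw [mem_centralizer_singleton_iff, ← hg]
      simp only [← mul_assoc, inv_mul_cancel_right]
      rw [mul_assoc g (z ^ b), mul_assoc g (z ^ a), ← pow_add, ← pow_add, add_comm]
    have hd : PiElem (S \ T) (⟨_, hy⟩ : ↥(centralizer ({rep c0} : Set G))) := by
      intro r hr hd
      rw [← Subgroup.orderOf_coe] at hd
      have := piElem_conj (isConj_iff.mpr ⟨g, rfl⟩)
        (show PiElem (S \ T) (z ^ b) from fun r hr hd => ⟨piElem_pow hz b r hr hd, hb r hr hd⟩)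
      exact this r hr hd
    let d0 : J c0 := ⟨ConjClasses.mk ⟨_, hy⟩, mk_mem_iff.mpr hd⟩
    refine ⟨⟨c0, d0⟩, ?_⟩
    obtain ⟨u, hu⟩ := isConj_iff.mp
      (ConjClasses.mk_eq_mk_iff_isConj.mp (Quotient.out_eq d0.1).symm)
    have hu' : (u : G) * (g * z ^ b * g⁻¹) * (u : G)⁻¹ = (d0.1.out : G) := by
      simpa using congrArg Subtype.val hu
    apply ConjClasses.mk_eq_mk_iff_isConj.mpr
    refine (isConj_iff.mpr ⟨(u : G) * g, ?_⟩).symm
    have hu2 := mem_centralizer_singleton_iff.mp u.2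
    show (u : G) * g * z * ((u : G) * g)⁻¹ = rep c0 * (d0.1.out : G)
    calc (u : G) * g * z * ((u : G) * g)⁻¹
        = (u : G) * g * (z ^ a * z ^ b) * ((u : G) * g)⁻¹ := by rw [hab]
      _ = ((u : G) * (g * z ^ a * g⁻¹)) * (u : G)⁻¹ *
            ((u : G) * (g * z ^ b * g⁻¹) * (u : G)⁻¹) := by group
      _ = rep c0 * (d0.1.out : G) := by rw [hg, hu2, mul_inv_cancel_right, hu']
  calc piClassCount S G = Set.ncard {c : ConjClasses G | ∀ x ∈ c.carrier, PiElem S x} :=
        Nat.card_coe_set_eq _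
    _ ≤ (Set.range f).ncard := Set.ncard_le_ncard hf
    _ ≤ Nat.card (Σ c : I, J c) := by
        rw [← Nat.card_coe_set_eq]
        exact Finite.card_range_le f
    _ = ∑ c : I, Nat.card (J c) := Nat.card_sigma
    _ ≤ ∑ _c : I, B := Finset.sum_le_sum fun c _ => hB _ (hrepm c)
    _ = piClassCount (S ∩ T) G * B := by
        rw [Finset.sum_const, Finset.card_univ, smul_eq_mul, ← Nat.card_eq_fintype_card]
        rfl

/-- Restriction to a subgroup that contains all the `S`-elements. -/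
theorem piClassCount_le_of_subgroup {S : Set ℕ} (K : Subgroup G)
    (h : ∀ x : G, PiElem S x → x ∈ K) : piClassCount S G ≤ piClassCount S ↥K := by
  refine Nat.card_le_card_of_surjective
    (fun d : {d : ConjClasses ↥K // ∀ x ∈ d.carrier, PiElem S x} =>
      (⟨ConjClasses.mk (d.1.out : G), mk_mem_iff.mpr ?_⟩ :
        {c : ConjClasses G // ∀ x ∈ c.carrier, PiElem S x})) ?_
  · intro r hr hd
    rw [Subgroup.orderOf_coe] at hd
    exact d.2 _ (ConjClasses.mem_carrier_iff_mk_eq.mpr (Quotient.out_eq d.1)) r hr hd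
  · rintro ⟨c, hc⟩
    obtain ⟨z, rfl⟩ := ConjClasses.mk_surjective c
    have hz := mk_mem_iff.mp hc
    let w : ↥K := ⟨z, h z hz⟩
    have hw : PiElem S w := fun r hr hd => hz r hr (by rwa [← Subgroup.orderOf_coe] at hd)
    refine ⟨⟨ConjClasses.mk w, mk_mem_iff.mpr hw⟩, Subtype.ext ?_⟩
    apply ConjClasses.mk_eq_mk_iff_isConj.mpr
    obtain ⟨u, hu⟩ := isConj_iff.mp
      (ConjClasses.mk_eq_mk_iff_isConj.mp (Quotient.out_eq (ConjClasses.mk w)))
    exact isConj_iff.mpr ⟨(u : G), congrArg Subtype.val hu⟩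

/-! ### Classes of `p`-elements -/

variable {p : ℕ} [Fact p.Prime]

theorem exists_conj_mem_sylow (P : Sylow p G) {x : G} (hx : PiElem {p} x) :
    ∃ g : G, g * x * g⁻¹ ∈ (P : Subgroup G) := by
  obtain ⟨k, hk⟩ := (piElem_singleton_iff Fact.out x).mp hx
  have hpg : IsPGroup p ↥(zpowers x) := IsPGroup.of_card (n := k) (by rw [Nat.card_zpowers, hk])
  obtain ⟨Q, hQ⟩ := hpg.exists_le_sylow
  obtain ⟨g, hg⟩ := MulAction.exists_smul_eq G Q P
  refine ⟨g, ?_⟩
  rw [← hg, Sylow.coe_subgroup_smul]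
  exact ⟨x, hQ (mem_zpowers x), rfl⟩

theorem piElem_of_mem_sylow (P : Sylow p G) {x : G} (hx : x ∈ (P : Subgroup G)) :
    PiElem {p} x := by
  obtain ⟨k, hk⟩ := IsPGroup.iff_orderOf.mp P.isPGroup' ⟨x, hx⟩
  exact (piElem_singleton_iff Fact.out x).mpr ⟨k, by rwa [← Subgroup.orderOf_coe] at hk⟩

theorem piClassCount_le_classes_sylow (P : Sylow p G) :
    piClassCount {p} G ≤ Nat.card (ConjClasses ↥(P : Subgroup G)) := by
  refine Nat.card_le_card_of_surjective
    (fun d : ConjClasses ↥(P : Subgroup G) => (⟨ConjClasses.mk (d.out : G),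
      mk_mem_iff.mpr (piElem_of_mem_sylow P d.out.2)⟩ :
        {c : ConjClasses G // ∀ x ∈ c.carrier, PiElem {p} x})) ?_
  rintro ⟨c, hc⟩
  obtain ⟨z, rfl⟩ := ConjClasses.mk_surjective c
  obtain ⟨g, hg⟩ := exists_conj_mem_sylow P (mk_mem_iff.mp hc)
  refine ⟨ConjClasses.mk ⟨_, hg⟩, Subtype.ext ?_⟩
  apply ConjClasses.mk_eq_mk_iff_isConj.mpr
  obtain ⟨u, hu⟩ := isConj_iff.mp (ConjClasses.mk_eq_mk_iff_isConj.mp
    (Quotient.out_eq (ConjClasses.mk (⟨_, hg⟩ : ↥(P : Subgroup G)))))
  refine (isConj_iff.mpr ⟨(u : G), congrArg Subtype.val hu⟩).trans ?_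
  exact (isConj_iff.mpr ⟨g, rfl⟩).symm

theorem piClassCount_le_sylow (P : Sylow p G) :
    piClassCount {p} G ≤ Nat.card ↥(P : Subgroup G) :=
  (piClassCount_le_classes_sylow P).trans
    (Nat.card_le_card_of_surjective _ ConjClasses.mk_surjective)

theorem classes_sylow_eq_of_hasNormalPComplement (h : HasNormalPComplement p G) (P : Sylow p G) :
    piClassCount {p} G = Nat.card (ConjClasses ↥(P : Subgroup G)) := by
  refine le_antisymm (piClassCount_le_classes_sylow P) ?_
  have hc := Fusion.isComplement'_pResidual h P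
  set N := pResidual p G
  let f : ↥(P : Subgroup G) →* G ⧸ N := (QuotientGroup.mk' N).comp (P : Subgroup G).subtype
  have hfs : Function.Surjective f := by
    intro q
    obtain ⟨g, rfl⟩ := QuotientGroup.mk'_surjective N q
    obtain ⟨⟨n, π⟩, hnπ⟩ := hc.2 g
    refine ⟨π, ?_⟩
    simp only [] at hnπ
    simp [f, ← hnπ, (QuotientGroup.eq_one_iff (n : G)).mpr n.2]
  have hfi : Function.Injective f := by
    refine (MonoidHom.ker_eq_bot_iff f).mp ?_
    rw [eq_bot_iff]
    intro x hx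
    have hxN : (x : G) ∈ N := (QuotientGroup.eq_one_iff _).mp hx
    exact Subtype.ext ((Subgroup.disjoint_def.mp hc.disjoint) hxN x.2)
  refine Nat.card_le_card_of_injective
    (fun d : ConjClasses ↥(P : Subgroup G) => (⟨ConjClasses.mk (d.out : G),
      mk_mem_iff.mpr (piElem_of_mem_sylow P d.out.2)⟩ :
        {c : ConjClasses G // ∀ x ∈ c.carrier, PiElem {p} x})) ?_
  intro d e hde
  obtain ⟨g, hg⟩ := isConj_iff.mp
    (ConjClasses.mk_eq_mk_iff_isConj.mp (congrArg Subtype.val hde))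
  obtain ⟨u, hu⟩ := hfs (QuotientGroup.mk' N g)
  have key : u * d.out * u⁻¹ = e.out := by
    apply hfi
    rw [map_mul, map_mul, map_inv, hu]
    show QuotientGroup.mk' N g * QuotientGroup.mk' N (d.out : G) * (QuotientGroup.mk' N g)⁻¹ = _
    rw [← map_inv, ← map_mul, ← map_mul, hg]
    rfl
  have := ConjClasses.mk_eq_mk_iff_isConj.mpr (isConj_iff.mpr ⟨u, key⟩)
  rwa [show ConjClasses.mk d.out = d from Quotient.out_eq d,
    show ConjClasses.mk e.out = e from Quotient.out_eq e] at this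

/-- The counting argument: three regions of a Sylow subgroup. -/
theorem count_bound (P : Sylow p G) (C T : Subgroup G) (hT : T ≤ (P : Subgroup G))
    (hCT : C ≤ T) (a : ℕ) (ha : 1 ≤ a)
    (h2 : ∀ y ∈ T, y ∉ C → ∃ s : Finset G, a ≤ s.card ∧
      ∀ z ∈ s, z ∈ T ∧ z ∉ C ∧ IsConj y z)
    (h3 : ∀ y ∈ (P : Subgroup G), y ∉ T → ∃ s : Finset G, p ≤ s.card ∧
      ∀ z ∈ s, z ∈ (P : Subgroup G) ∧ IsConj y z) :
    a * p * piClassCount {p} G + p * Nat.card ↥C + a * Nat.card ↥T ≤
      a * p * Nat.card ↥C + p * Nat.card ↥T + a * Nat.card ↥(P : Subgroup G) := by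
  classical
  haveI : Fintype G := Fintype.ofFinite G
  haveI : Fintype (ConjClasses G) := Fintype.ofFinite _
  let F : Subgroup G → Finset G := fun H => Finset.univ.filter (fun x => x ∈ H)
  have hF : ∀ H : Subgroup G, (F H).card = Nat.card ↥H := by
    intro H
    rw [Nat.card_eq_fintype_card, Fintype.card_subtype]
  set sP := F (P : Subgroup G)
  set sT := F T
  set sC := F C
  set A := sC.image ConjClasses.mk
  set B := (sT \ sC).image ConjClasses.mk
  set D := ((sP \ sT).image ConjClasses.mk) \ (A ∪ B)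
  have hk : piClassCount {p} G ≤ A.card + B.card + D.card := by
    have hsub : {c : ConjClasses G | ∀ x ∈ c.carrier, PiElem {p} x} ⊆ ↑(A ∪ B ∪ D) := by
      intro c hc
      obtain ⟨z, rfl⟩ := ConjClasses.mk_surjective c
      obtain ⟨g, hg⟩ := exists_conj_mem_sylow P (mk_mem_iff.mp hc)
      have he : ConjClasses.mk z = ConjClasses.mk (g * z * g⁻¹) :=
        ConjClasses.mk_eq_mk_iff_isConj.mpr (isConj_iff.mpr ⟨g, rfl⟩)
      rw [Finset.mem_coe, he]
      simp only [A, B, D, sC, sT, sP, F, Finset.mem_union, Finset.mem_sdiff, Finset.mem_image,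
        Finset.mem_filter, Finset.mem_univ, true_and]
      by_cases h1 : g * z * g⁻¹ ∈ C
      · exact Or.inl (Or.inl ⟨_, h1, rfl⟩)
      by_cases h2 : g * z * g⁻¹ ∈ T
      · exact Or.inl (Or.inr ⟨_, ⟨h2, h1⟩, rfl⟩)
      tauto
    calc piClassCount {p} G = Set.ncard {c : ConjClasses G | ∀ x ∈ c.carrier, PiElem {p} x} :=
          Nat.card_coe_set_eq _
      _ ≤ (↑(A ∪ B ∪ D) : Set (ConjClasses G)).ncard := Set.ncard_le_ncard hsub
      _ = (A ∪ B ∪ D).card := Set.ncard_coe_finset _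
      _ ≤ A.card + B.card + D.card := (Finset.card_union_le _ _).trans
          (Nat.add_le_add_right (Finset.card_union_le _ _) _)
  have hA : A.card ≤ sC.card := Finset.card_image_le
  have hB : a * B.card ≤ (sT \ sC).card := by
    refine (mul_comm a B.card).trans_le ?_
    refine Finset.card_nsmul_le_sum B (fun c => ((sT \ sC).filter
      (fun x => ConjClasses.mk x = c)).card) a ?_ |>.trans ?_
    · intro c hc
      obtain ⟨y, hy, rfl⟩ := Finset.mem_image.mp hc
      simp only [sT, sC, F, Finset.mem_sdiff, Finset.mem_filter, Finset.mem_univ, true_and] at hy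
      obtain ⟨s, hs, hs'⟩ := h2 y hy.1 hy.2
      refine hs.trans (Finset.card_le_card fun z hz => ?_)
      obtain ⟨hz1, hz2, hz3⟩ := hs' z hz
      simp only [sT, sC, F, Finset.mem_sdiff, Finset.mem_filter, Finset.mem_univ, true_and]
      exact ⟨⟨hz1, hz2⟩, (ConjClasses.mk_eq_mk_iff_isConj.mpr hz3).symm⟩
    · rw [← Finset.card_eq_sum_card_fiberwise (fun x hx => Finset.mem_image_of_mem _ hx)]
  have hD : p * D.card ≤ (sP \ sT).card := by
    refine (mul_comm p D.card).trans_le ?_
    refine Finset.card_nsmul_le_sum D (fun c => ((sP \ sT).filter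
      (fun x => ConjClasses.mk x = c)).card) p ?_ |>.trans ?_
    · intro c hc
      obtain ⟨hc1, hc2⟩ := Finset.mem_sdiff.mp hc
      obtain ⟨y, hy, rfl⟩ := Finset.mem_image.mp hc1
      simp only [sP, sT, F, Finset.mem_sdiff, Finset.mem_filter, Finset.mem_univ, true_and] at hy
      obtain ⟨s, hs, hs'⟩ := h3 y hy.1 hy.2
      refine hs.trans (Finset.card_le_card fun z hz => ?_)
      obtain ⟨hz1, hz2⟩ := hs' z hz
      have he := (ConjClasses.mk_eq_mk_iff_isConj.mpr hz2).symm
      simp only [sP, sT, F, Finset.mem_sdiff, Finset.mem_filter, Finset.mem_univ, true_and]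
      refine ⟨⟨hz1, fun hzT => hc2 ?_⟩, he⟩
      simp only [A, B, sC, sT, F, Finset.mem_union, Finset.mem_sdiff, Finset.mem_image,
        Finset.mem_filter, Finset.mem_univ, true_and]
      by_cases hzC : z ∈ C
      · exact Or.inl ⟨z, hzC, he⟩
      · exact Or.inr ⟨z, ⟨hzT, hzC⟩, he⟩
    · refine le_of_le_of_eq ?_ (Finset.card_eq_sum_card_fiberwise
        (s := sP \ sT) (t := (sP \ sT).image ConjClasses.mk)
        (fun x hx => Finset.mem_image_of_mem ConjClasses.mk hx)).symm
      exact Finset.sum_le_sum_of_subset Finset.sdiff_subset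
  have h1 : (sT \ sC).card + sC.card = sT.card :=
    Finset.card_sdiff_add_card_eq_card fun x hx => by
      simp only [sT, sC, F, Finset.mem_filter, Finset.mem_univ, true_and] at hx ⊢
      exact hCT hx
  have h4 : (sP \ sT).card + sT.card = sP.card :=
    Finset.card_sdiff_add_card_eq_card fun x hx => by
      simp only [sT, sP, F, Finset.mem_filter, Finset.mem_univ, true_and] at hx ⊢
      exact hT hx
  rw [← hF (P : Subgroup G), ← hF T, ← hF C]
  change _ ≤ a * p * sC.card + p * sT.card + a * sP.card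
  nlinarith [Nat.mul_le_mul_left (a * p) hk, Nat.mul_le_mul_left (a * p) hA,
    Nat.mul_le_mul_left p hB, Nat.mul_le_mul_left a hD]

/-- Conjugates of a noncentral element inside a Sylow subgroup. -/
theorem exists_finset_conj_sylow (P : Sylow p G) {y : G} (hy : y ∈ (P : Subgroup G))
    (hyc : y ∉ centralizer ((P : Subgroup G) : Set G)) :
    ∃ s : Finset G, p ≤ s.card ∧ ∀ z ∈ s, z ∈ (P : Subgroup G) ∧ IsConj y z := by
  classical
  let y' : ↥(P : Subgroup G) := ⟨y, hy⟩
  haveI : Fintype ↥(P : Subgroup G) := Fintype.ofFinite _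
  refine ⟨Finset.univ.image (fun g : ↥(P : Subgroup G) => ((g * y' * g⁻¹ : ↥(P : Subgroup G)) : G)),
    ?_, ?_⟩
  · have hne : (centralizer ({y'} : Set ↥(P : Subgroup G))) ≠ ⊤ := by
      intro htop
      apply hyc
      rw [mem_centralizer_iff]
      intro w hw
      have hmem : (⟨w, hw⟩ : ↥(P : Subgroup G)) ∈ centralizer ({y'} : Set ↥(P : Subgroup G)) :=
        htop ▸ mem_top _
      exact congrArg Subtype.val (mem_centralizer_singleton_iff.mp hmem)
    obtain ⟨k, hk⟩ := (P.isPGroup').index (centralizer ({y'} : Set ↥(P : Subgroup G)))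
    have hk0 : k ≠ 0 := fun h => hne (index_eq_one.mp (by rw [hk, h, pow_zero]))
    refine (Nat.le_of_dvd (Nat.pos_of_ne_zero index_ne_zero_of_finite)
      (hk ▸ dvd_pow_self p hk0)).trans ?_
    rw [index_eq_card, ← Fintype.card_coe, ← Nat.card_eq_fintype_card]
    refine Nat.card_le_card_of_injective (fun q => ⟨_,
      Finset.mem_image_of_mem (fun g : ↥(P : Subgroup G) =>
        ((g * y' * g⁻¹ : ↥(P : Subgroup G)) : G)) (Finset.mem_univ (Quotient.out q))⟩) ?_
    intro q r hqr
    have h1 : q.out * y' * q.out⁻¹ = r.out * y' * r.out⁻¹ :=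
      Subtype.ext (congrArg Subtype.val hqr :)
    rw [← Quotient.out_eq q, ← Quotient.out_eq r]
    apply QuotientGroup.eq.mpr
    rw [mem_centralizer_singleton_iff]
    calc q.out⁻¹ * r.out * y' = q.out⁻¹ * (r.out * y' * r.out⁻¹) * r.out := by group
      _ = q.out⁻¹ * (q.out * y' * q.out⁻¹) * r.out := by rw [h1]
      _ = y' * (q.out⁻¹ * r.out) := by group
  · intro z hz
    simp only [Finset.mem_image, Finset.mem_univ, true_and] at hz
    obtain ⟨g, rfl⟩ := hz
    exact ⟨SetLike.coe_mem _, isConj_iff.mpr ⟨(g : G), rfl⟩⟩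

theorem sylow_inf_normal (S : Sylow p G) (K : Subgroup G) [K.Normal] :
    ∃ R : Sylow p ↥K, (R : Subgroup ↥K) = (S : Subgroup G).subgroupOf K := by
  have h1 : ¬ p ∣ (S : Subgroup G).relIndex K := by
    intro hd
    refine S.not_dvd_index (hd.trans ?_)
    have e : Nat.card ↥((S : Subgroup G) ⊔ K) =
        Nat.card ↥(S : Subgroup G) * (S : Subgroup G).relIndex K := by
      have e1 : Nat.card ↥K * K.relIndex (S : Subgroup G) = Nat.card ↥((S : Subgroup G) ⊔ K) := by
        rw [← relIndex_sup_right, ← relIndex_bot_left (H := K),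
          ← relIndex_bot_left (H := (S : Subgroup G) ⊔ K), relIndex_mul_relIndex _ _ _ bot_le le_sup_right]
      have e2 : Nat.card ↥((S : Subgroup G) ⊓ K : Subgroup G) * K.relIndex (S : Subgroup G) =
          Nat.card ↥(S : Subgroup G) := by
        rw [← inf_relIndex_right K, inf_comm K, ← relIndex_bot_left, ← relIndex_bot_left (H := (S : Subgroup G)),
          relIndex_mul_relIndex _ _ _ bot_le inf_le_left]
      have e3 : Nat.card ↥((S : Subgroup G) ⊓ K : Subgroup G) * (S : Subgroup G).relIndex K =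
          Nat.card ↥K := by
        rw [← inf_relIndex_right (S : Subgroup G), ← relIndex_bot_left, ← relIndex_bot_left (H := K),
          relIndex_mul_relIndex _ _ _ bot_le inf_le_right]
      rw [← e1, ← e2, ← e3]
      ring
    have e' : (S : Subgroup G).relIndex ((S : Subgroup G) ⊔ K) = (S : Subgroup G).relIndex K := by
      have := (relIndex_mul_relIndex ⊥ (S : Subgroup G) ((S : Subgroup G) ⊔ K) bot_le le_sup_left)
      rw [relIndex_bot_left, relIndex_bot_left, e] at this
      exact Nat.eq_of_mul_eq_mul_left Nat.card_pos this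
    rw [← relIndex_mul_index (le_sup_left : (S : Subgroup G) ≤ (S : Subgroup G) ⊔ K), e']
    exact dvd_mul_right _ _
  have h2 : IsPGroup p ↥((S : Subgroup G).subgroupOf K) := S.isPGroup'.comap_subtype
  exact ⟨h2.toSylow h1, rfl⟩

/-- Without a normal `p`-complement, some `T ≤ P` containing `Z(P)` is moved by a `p'`-element. -/
theorem exists_moved_overgroup (hn : ¬ HasNormalPComplement p G) :
    ∃ (P : Sylow p G) (T : Subgroup G) (n : G), T ≤ (P : Subgroup G) ∧
      (P : Subgroup G) ⊓ centralizer ((P : Subgroup G) : Set G) ≤ T ∧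
      n ∈ normalizer (T : Set G) ∧ Nat.Coprime (orderOf n) p ∧ n ∉ centralizer (T : Set G) := by
  set P : Sylow p G := default with hP
  by_contra hno
  push Not at hno
  refine hn (Fusion.hasNormalPComplement_of_tame P fun Q hQ _ g hg hgp => ?_)
  set D : Subgroup G := (P : Subgroup G) ⊓ (Q : Subgroup G) with hD
  set N := normalizer (D : Set G) with hN
  have hDN : D ≤ N := le_normalizer
  set S : Sylow p ↥N := (P.isPGroup'.to_le (inf_le_left : (P : Subgroup G) ⊓ N ≤ P)).comap_subtype.toSylow hQ.1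
  haveI : (centralizer (D : Set G)).subgroupOf N |>.Normal := by
    rw [normal_subgroupOf_iff_le_normalizer_inf]
    intro x hx
    rw [mem_normalizer_iff]
    intro y
    simp only [mem_inf, mem_centralizer_iff, hN]
    constructor
    · rintro ⟨h1, h2⟩
      refine ⟨fun d hd => ?_, mul_mem (mul_mem hx h2) (inv_mem hx)⟩
      have hd' := (mem_normalizer_iff.mp (inv_mem hx) d).mp hd
      have := h1 _ hd'
      calc d * (x * y * x⁻¹) = x * ((x⁻¹ * d * x⁻¹⁻¹) * y) * x⁻¹ := by group
        _ = x * (y * (x⁻¹ * d * x⁻¹⁻¹)) * x⁻¹ := by rw [this]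
        _ = x * y * x⁻¹ * d := by group
    · rintro ⟨h1, h2⟩
      have h2' : y ∈ normalizer (D : Set G) := by
        have := mul_mem (mul_mem (inv_mem hx) h2) hx
        simpa [mul_assoc] using this
      refine ⟨fun d hd => ?_, h2'⟩
      have := h1 _ ((mem_normalizer_iff.mp hx d).mp hd)
      calc d * y = x⁻¹ * ((x * d * x⁻¹) * (x * y * x⁻¹)) * x := by group
        _ = x⁻¹ * ((x * y * x⁻¹) * (x * d * x⁻¹)) * x := by rw [this]
        _ = y * d := by group
  haveI : (D.subgroupOf N).Normal := Subgroup.normal_in_normalizer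
  set K : Subgroup ↥N := D.subgroupOf N ⊔ (centralizer (D : Set G)).subgroupOf N with hK
  haveI : K.Normal := Subgroup.sup_normal _ _
  obtain ⟨R, hR⟩ := sylow_inf_normal S K
  have hfr := Sylow.normalizer_sup_eq_top R
  rw [hR, Subgroup.subgroupOf_map_subtype] at hfr
  set T0 : Subgroup ↥N := (S : Subgroup ↥N) ⊓ K with hT0
  set T : Subgroup G := T0.map N.subtype with hT
  have hST : (S : Subgroup ↥N) = ((P : Subgroup G) ⊓ N).subgroupOf N := rfl
  have hTP : T ≤ (P : Subgroup G) := by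
    rintro x ⟨y, hy, rfl⟩
    exact (show (y : G) ∈ (P : Subgroup G) ⊓ N from hy.1).1
  have hDT : D ≤ T := fun d hd => ⟨⟨d, hDN hd⟩,
    ⟨show d ∈ (P : Subgroup G) ⊓ N from ⟨hd.1, hDN hd⟩, mem_sup_left hd⟩, rfl⟩
  have hZT : (P : Subgroup G) ⊓ centralizer ((P : Subgroup G) : Set G) ≤ T := by
    rintro z ⟨hz, hz'⟩
    have hzD : z ∈ centralizer (D : Set G) := centralizer_le (fun d hd => hd.1) hz'
    have hzN : z ∈ N := centralizer_le_normalizer _ hzD
    exact ⟨⟨z, hzN⟩, ⟨show z ∈ (P : Subgroup G) ⊓ N from ⟨hz, hzN⟩,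
      mem_sup_right (show z ∈ centralizer (D : Set G) from hzD)⟩, rfl⟩
  by_contra hgc
  have hgK : (⟨g, hg⟩ : ↥N) ∉ K := by
    intro hmem
    rw [hK, ← SetLike.mem_coe, mul_normal] at hmem
    obtain ⟨d, hd, c, hc, hdc⟩ := Set.mem_mul.mp hmem
    apply hgc
    obtain ⟨i, hi⟩ := IsPGroup.iff_orderOf.mp
      (P.isPGroup'.to_le (inf_le_left : D ≤ P)) ⟨(d : G), hd⟩
    have hpw : (⟨g, hg⟩ : ↥N) ^ p ^ i ∈ (centralizer (D : Set G)).subgroupOf N := by
      have hd1 : d ^ p ^ i = 1 := by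
        apply Subtype.ext
        rw [← hi, Subgroup.coe_pow, OneMemClass.coe_one, ← Subgroup.orderOf_coe]
        exact pow_orderOf_eq_one _
      rw [← hdc, ← QuotientGroup.eq_one_iff, QuotientGroup.mk_pow, QuotientGroup.mk_mul,
        (QuotientGroup.eq_one_iff c).mpr hc, mul_one, ← QuotientGroup.mk_pow, hd1,
        QuotientGroup.mk_one]
    obtain ⟨m, hm⟩ := exists_pow_eq_self_of_coprime (x := g) (n := p ^ i)
      (Nat.Coprime.pow_left i hgp.symm)
    rw [← hm]
    exact pow_mem (show g ^ p ^ i ∈ centralizer (D : Set G) from hpw) m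
  have hmem : (⟨g, hg⟩ : ↥N) ∈ normalizer (T0 : Set ↥N) ⊔ K := hfr ▸ mem_top _
  rw [← SetLike.mem_coe, mul_normal] at hmem
  obtain ⟨n, hn', k, hk, hnk⟩ := Set.mem_mul.mp hmem
  obtain ⟨a, b, hab, ha, hb⟩ := exists_piElem_mul ({p} : Set ℕ) n
  have hbK : n ^ b ∉ K := by
    intro hbK
    apply hgK
    obtain ⟨i, hi⟩ := (piElem_singleton_iff Fact.out (n ^ a)).mp ha
    have : (⟨g, hg⟩ : ↥N) ^ p ^ i ∈ K := by
      rw [← hnk, ← QuotientGroup.eq_one_iff, QuotientGroup.mk_pow, QuotientGroup.mk_mul,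
        (QuotientGroup.eq_one_iff k).mpr hk, mul_one, ← hab, QuotientGroup.mk_mul,
        (QuotientGroup.eq_one_iff (n ^ b)).mpr hbK, mul_one, ← QuotientGroup.mk_pow, ← hi,
        pow_orderOf_eq_one, QuotientGroup.mk_one]
    obtain ⟨m, hm⟩ := exists_pow_eq_self_of_coprime (x := (⟨g, hg⟩ : ↥N)) (n := p ^ i)
      (by rw [Subgroup.orderOf_mk]; exact Nat.Coprime.pow_left i hgp.symm)
    rw [← hm]
    exact pow_mem this m
  have hcop : Nat.Coprime (orderOf ((n ^ b : ↥N) : G)) p := by
    rw [Subgroup.orderOf_coe]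
    refine Nat.coprime_of_dvd fun r hr h1 h2 => ?_
    exact hb r hr h1 ((Nat.prime_dvd_prime_iff_eq hr Fact.out).mp h2)
  have hnT : ((n ^ b : ↥N) : G) ∈ normalizer (T : Set G) :=
    le_normalizer_map N.subtype ⟨n ^ b, pow_mem hn' b, rfl⟩
  have hc := hno P T _ hTP hZT hnT hcop
  exact hbK (mem_sup_right (show ((n ^ b : ↥N) : G) ∈ centralizer (D : Set G) from
    centralizer_le hDT hc))

end Cfsg.Agent.H73
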