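import Cfsg.Prelude.Def_Transfer
import Cfsg.Agent.H61.RankOne
import Cfsg.Agent.H64.UniqueInvolution
import Cfsg.Agent.PGroups.TwoGroups
import Cfsg.Agent.H73.AbelianRank

/-!
# Groups in which any two abelian subgroups of the same order are conjugate
-/

set_option autoImplicit false

namespace Cfsg.Agent.H73

open Subgroup

variable {G : Type*} [Group G] [Finite G]

/-- any two abelian subgroups of the same order are conjugate -/
def ConjAb (G : Type*) [Group G] : Prop :=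
  ∀ A B : Subgroup G, IsMulCommutative ↥A → IsMulCommutative ↥B → Nat.card ↥A = Nat.card ↥B →
    ∃ g : G, B = A.map (MulAut.conj g).toMonoidHom

omit [Finite G] in
theorem ConjAb.orderOf_exponent (hB : ConjAb G) {A : Subgroup G} (hA : IsMulCommutative ↥A) {n : ℕ}
    (hn : ∀ a ∈ A, a ^ n = 1) {w : G} (hw : orderOf w = Nat.card ↥A) : w ^ n = 1 := by
  obtain ⟨g, hg⟩ := hB A (zpowers w) hA inferInstance (by rw [Nat.card_zpowers, hw])
  obtain ⟨z, hz, hzw⟩ : w ∈ A.map (MulAut.conj g).toMonoidHom := hg ▸ mem_zpowers w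
  rw [← hzw, ← map_pow, hn z hz, map_one]

omit [Finite G] in
theorem ConjAb.mem_of_orderOf (hB : ConjAb G) {M : Subgroup G} [M.Normal] {m a : G} (hm : m ∈ M)
    (h : orderOf m = orderOf a) : a ∈ M := by
  obtain ⟨g, hg⟩ := hB (zpowers m) (zpowers a) inferInstance inferInstance
    (by rw [Nat.card_zpowers, Nat.card_zpowers, h])
  obtain ⟨z, hz, hza⟩ : a ∈ (zpowers m).map (MulAut.conj g).toMonoidHom := hg ▸ mem_zpowers a
  rw [← hza]
  exact (inferInstance : M.Normal).conj_mem z (zpowers_le.mpr hm hz) g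

/-- a `p`-subgroup which does not have exponent `p` has only one subgroup of order `p` -/
theorem ConjAb.exists_unique_order_p (hB : ConjAb G) {p : ℕ} [Fact p.Prime] {S : Subgroup G}
    (hS : IsPGroup p ↥S) (hx : ∃ x ∈ S, x ^ p ≠ 1) :
    ∃ z : ↥S, orderOf z = p ∧ ∀ y : ↥S, y ^ p = 1 → y ∈ zpowers z := by
  have hp : p.Prime := Fact.out
  obtain ⟨x, hxS, hxp⟩ := hx
  obtain ⟨k, hk⟩ := IsPGroup.iff_orderOf.mp hS ⟨x, hxS⟩
  rw [Subgroup.orderOf_mk] at hk
  have hk2 : 2 ≤ k := by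
    by_contra h
    apply hxp
    rw [← orderOf_dvd_iff_pow_eq_one, hk]
    exact (pow_dvd_pow p (by omega : k ≤ 1)).trans (pow_one p).dvd
  set w := x ^ (orderOf x / p ^ 2)
  have hw : orderOf w = p ^ 2 :=
    orderOf_pow_orderOf_div (orderOf_pos x).ne' (hk ▸ pow_dvd_pow p hk2)
  have : Nontrivial ↥S := ⟨⟨⟨x, hxS⟩, 1, fun h => hxp (by
    rw [show x = 1 from congrArg Subtype.val h, one_pow])⟩⟩
  have hZ : Nontrivial (center ↥S) := hS.center_nontrivial
  obtain ⟨n, hn0, hn⟩ := (hS.to_subgroup (center ↥S)).nontrivial_iff_card.mp hZ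
  obtain ⟨c, hc⟩ := exists_prime_orderOf_dvd_card' (G := ↥(center ↥S)) p (hn ▸ dvd_pow_self p hn0.ne')
  rw [← Subgroup.orderOf_coe] at hc
  refine ⟨c, hc, fun y hy => ?_⟩
  by_contra hyc
  have hy' : orderOf y = p := orderOf_eq_prime hy fun h => hyc (h ▸ one_mem _)
  have hpow : ∀ g : ↥S, orderOf g = p → ∀ u ∈ zpowers g, u ^ p = 1 := by
    rintro g hg u ⟨i, rfl⟩
    show (g ^ i) ^ p = 1
    rw [← zpow_natCast, ← zpow_mul, mul_comm, zpow_mul, zpow_natCast, ← hg, pow_orderOf_eq_one, one_zpow]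
  set f := MonoidHom.noncommCoprod (zpowers (c : ↥S)).subtype (zpowers y).subtype (by
    intro a b
    obtain ⟨i, hi⟩ := a.2
    obtain ⟨j, hj⟩ := b.2
    show Commute (a : ↥S) (b : ↥S)
    rw [← show (c : ↥S) ^ i = a from hi, ← show y ^ j = b from hj]
    exact (Commute.zpow_zpow (Subgroup.mem_center_iff.mp c.2 y).symm i j))
  have hinj : Function.Injective f := by
    rw [injective_iff_map_eq_one]
    rintro ⟨a, b⟩ hab
    have hab' : (a : ↥S) * b = 1 := hab
    have hb : (b : ↥S) ∈ zpowers (c : ↥S) := by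
      rw [eq_inv_of_mul_eq_one_right hab']
      exact inv_mem a.2
    have hb1 : (b : ↥S) = 1 := by
      by_contra hb1
      apply hyc
      have : zpowers (b : ↥S) = zpowers y := eq_of_le_of_card_ge (zpowers_le.mpr b.2) (by
        rw [Nat.card_zpowers, Nat.card_zpowers, hy', orderOf_eq_prime (hpow y hy' _ b.2) hb1])
      exact zpowers_le.mpr hb (this.symm ▸ mem_zpowers y)
    rw [hb1, mul_one] at hab'
    exact Prod.ext (Subtype.ext hab') (Subtype.ext hb1)
  set F := (S.subtype.comp f)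
  have hFinj : Function.Injective F := S.subtype_injective.comp hinj
  have hab : IsMulCommutative ↥F.range := ⟨⟨by
    rintro ⟨_, u, rfl⟩ ⟨_, v, rfl⟩
    exact Subtype.ext (by
      show F u * F v = F v * F u
      rw [← map_mul, ← map_mul]
      obtain ⟨⟨u1, hu1⟩, ⟨u2, hu2⟩⟩ := u
      obtain ⟨⟨v1, hv1⟩, ⟨v2, hv2⟩⟩ := v
      congr 1
      exact Prod.ext (mul_comm' _ _) (mul_comm' _ _))⟩⟩
  have hcard : Nat.card ↥F.range = p ^ 2 := by
    rw [← Nat.card_congr (MonoidHom.ofInjective hFinj).toEquiv, Nat.card_prod, Nat.card_zpowers,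
      Nat.card_zpowers, hc, hy', sq]
  have h1 := hB.orderOf_exponent hab (n := p) (by
    rintro _ ⟨⟨u, v⟩, rfl⟩
    rw [← map_pow]
    have hu : u ^ p = 1 := Subtype.ext (by rw [Subgroup.coe_pow]; exact hpow _ hc _ u.2)
    have hv : v ^ p = 1 := Subtype.ext (by rw [Subgroup.coe_pow]; exact hpow _ hy' _ v.2)
    rw [Prod.pow_mk, hu, hv, Prod.mk_one_one, map_one]) (w := w) (hw.trans hcard.symm)
  have := Nat.le_of_dvd hp.pos (hw ▸ orderOf_dvd_iff_pow_eq_one.mpr h1)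
  nlinarith [hp.two_le]

theorem ConjAb.sylow_odd (hB : ConjAb G) {p : ℕ} [Fact p.Prime] (hp2 : p ≠ 2) {S : Subgroup G}
    (hS : IsPGroup p ↥S) : IsCyclic ↥S ∨ ∀ x ∈ S, x ^ p = 1 := by
  by_cases h : ∀ x ∈ S, x ^ p = 1
  · exact Or.inr h
  push Not at h
  obtain ⟨z, hz, hu⟩ := hB.exists_unique_order_p hS h
  refine Or.inl (H61.isCyclic_of_card_pow_eq_one_le hp2 hS ?_)
  calc Nat.card {y : ↥S // y ^ p = 1} ≤ Nat.card ↥(zpowers z) :=
        Nat.card_le_card_of_injective (fun y => ⟨y.1, hu y.1 y.2⟩)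
          (fun a b hab => Subtype.ext (congrArg (fun t : zpowers z => (t : ↥S)) hab))
    _ = p := by rw [Nat.card_zpowers, hz]

theorem ConjAb.sylow_two (hB : ConjAb G) {S : Subgroup G} (hS : IsPGroup 2 ↥S) :
    IsCyclic ↥S ∨ Cfsg.IsElementaryAbelian 2 S ∨
      ∃ k : ℕ, Nonempty (↥S ≃* QuaternionGroup (2 ^ k)) := by
  by_cases h : ∀ x ∈ S, x ^ 2 = 1
  · refine Or.inr (Or.inl ⟨⟨⟨fun a b => ?_⟩⟩, h⟩)
    have hinv : ∀ u : ↥S, u⁻¹ = u := fun u =>
      inv_eq_of_mul_eq_one_right (Subtype.ext (by simpa [sq] using h u u.2))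
    rw [← hinv (a * b), mul_inv_rev, hinv a, hinv b]
  push Not at h
  have : Fact (Nat.Prime 2) := ⟨Nat.prime_two⟩
  obtain ⟨z, hz, hu⟩ := hB.exists_unique_order_p hS h
  have huniq : ∃! x : ↥S, orderOf x = 2 := by
    refine ⟨z, hz, fun y hy => ?_⟩
    obtain ⟨i, hi : z ^ i = y⟩ := hu y (hy ▸ pow_orderOf_eq_one y)
    rcases Int.even_or_odd i with ⟨j, rfl⟩ | ⟨j, rfl⟩
    · exfalso
      rw [← two_mul, zpow_mul, show (2 : ℤ) = ((2 : ℕ) : ℤ) from rfl, zpow_natCast, ← hz,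
        pow_orderOf_eq_one, one_zpow] at hi
      rw [← hi, orderOf_one] at hy
      omega
    · rw [← hi, zpow_add, zpow_mul, show (2 : ℤ) = ((2 : ℕ) : ℤ) from rfl, zpow_natCast, ← hz,
        pow_orderOf_eq_one, one_zpow, one_mul, zpow_one]
  by_cases hc : IsMulCommutative ↥S
  · left
    let _ : CommGroup ↥S := { (inferInstance : Group ↥S) with mul_comm := hc.is_comm.comm }
    by_contra hnc
    obtain ⟨q, u, v, hq, hu', hv', hvu⟩ := exists_independent_of_not_cyclic hnc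
    obtain ⟨k, hk⟩ := IsPGroup.iff_orderOf.mp hS u
    have hq2 : q = 2 := (Nat.prime_dvd_prime_iff_eq hq Nat.prime_two).mp
      (hq.dvd_of_dvd_pow (hu'.symm.trans hk).dvd)
    subst hq2
    obtain ⟨x, hx, hxu⟩ := huniq
    exact hvu (hxu v hv' ▸ (hxu u hu').symm ▸ mem_zpowers x)
  obtain ⟨k, a, b, hk, ha, hb, hconj, hsq, hgen⟩ := H64.exists_quaternion_gens hS hc huniq
  obtain ⟨l, rfl⟩ : ∃ l, k = l + 1 := ⟨k - 1, by omega⟩
  right; right
  refine ⟨l, ?_⟩
  have : NeZero (2 ^ l) := ⟨by positivity⟩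
  refine PGroups.nonempty_mulEquiv_quaternion (c := a) (y := b) (by rw [ha, pow_succ']) hb
    (by simpa using hsq) hconj ?_
  have hidx : (zpowers a).index = 2 := by
    rw [Subgroup.index_eq_two_iff]
    refine ⟨b⁻¹, fun q => ?_⟩
    obtain ⟨i, rfl | rfl⟩ := hgen q
    · refine Or.inr ⟨pow_mem (mem_zpowers a) i, fun hmem => hb ?_⟩
      have := mul_mem (inv_mem (pow_mem (mem_zpowers a) i)) hmem
      rw [inv_mul_cancel_left] at this
      exact inv_mem_iff.mp this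
    · refine Or.inl ⟨?_, fun hmem => hb ?_⟩
      · have hc2 : b * a ^ i * b⁻¹ = a⁻¹ ^ i := by rw [← conj_pow, hconj]
        rw [hc2]; exact pow_mem (inv_mem (mem_zpowers a)) i
      · have := mul_mem hmem (inv_mem (pow_mem (mem_zpowers a) i))
        rwa [mul_inv_cancel_right] at this
  rw [← Subgroup.card_mul_index (zpowers a), hidx, Nat.card_zpowers, ha, pow_succ]
  ring

end Cfsg.Agent.H73
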