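import Cfsg.Agent.H73.ConjAbelianFitting

/-!
# Solvable groups with conjugate abelian subgroups: all subgroups of equal order are conjugate
-/

set_option autoImplicit false

namespace Cfsg.Agent.H73

open Subgroup

variable {G : Type*} [Group G] [Finite G]

/-- in an elementary abelian group, a subgroup of any intermediate order contains `y` but not `z` -/
theorem exists_subgroup_avoiding {q : ℕ} [Fact q.Prime] {M : Subgroup G} (hab : IsMulCommutative ↥M)
    (hexp : ∀ x ∈ M, x ^ q = 1) {y z : G} (hy : y ∈ M) (hz : z ∈ M) (hy1 : y ≠ 1)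
    (hzy : z ∉ zpowers y) {U : Subgroup G} (hUM : U < M) (hU : U ≠ ⊥) :
    ∃ P ≤ M, Nat.card ↥P = Nat.card ↥U ∧ y ∈ P ∧ z ∉ P := by
  have hq : q.Prime := Fact.out
  have hMq : IsPGroup q ↥M := fun u => ⟨1, Subtype.ext (by simpa using hexp u u.2)⟩
  obtain ⟨P, ⟨hPM, hyP, hzP⟩, hmax⟩ := wellFounded_gt.has_min
    {P : Subgroup G | P ≤ M ∧ y ∈ P ∧ z ∉ P} ⟨zpowers y, zpowers_le.mpr hy, mem_zpowers y, hzy⟩
  have hcomm : ∀ a ∈ M, ∀ b ∈ M, a * b = b * a := fun a ha b hb =>
    congrArg Subtype.val (hab.is_comm.comm (⟨a, ha⟩ : ↥M) ⟨b, hb⟩)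
  have hgen : ∀ X Y : Subgroup G, X ≤ M → Y ≤ M → ∀ v ∈ X ⊔ Y, ∃ a ∈ X, ∃ b ∈ Y, v = a * b := by
    intro X Y hX hY v hv
    let S : Subgroup G :=
      { carrier := {v | ∃ a ∈ X, ∃ b ∈ Y, v = a * b}
        one_mem' := ⟨1, one_mem X, 1, one_mem Y, (one_mul 1).symm⟩
        mul_mem' := by
          rintro _ _ ⟨a, ha, b, hb, rfl⟩ ⟨c, hc, d, hd, rfl⟩
          refine ⟨a * c, mul_mem ha hc, b * d, mul_mem hb hd, ?_⟩
          rw [mul_assoc, ← mul_assoc b, hcomm b (hY hb) c (hX hc), mul_assoc, ← mul_assoc, ← mul_assoc]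
        inv_mem' := by
          rintro _ ⟨a, ha, b, hb, rfl⟩
          exact ⟨a⁻¹, inv_mem ha, b⁻¹, inv_mem hb,
            by rw [mul_inv_rev, hcomm _ (inv_mem (hY hb)) _ (inv_mem (hX ha))]⟩ }
    have hle : X ⊔ Y ≤ S := sup_le (fun a ha => ⟨a, ha, 1, one_mem Y, (mul_one a).symm⟩)
      (fun b hb => ⟨1, one_mem X, b, hb, (one_mul b).symm⟩)
    exact hle hv
  have hM : M ≤ P ⊔ zpowers z := by
    intro w hw
    by_cases hwP : w ∈ P
    · exact mem_sup_left hwP
    have hzin : z ∈ P ⊔ zpowers w := by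
      by_contra h
      exact hmax (P ⊔ zpowers w) ⟨sup_le hPM (zpowers_le.mpr hw), mem_sup_left hyP, h⟩
        (lt_of_le_of_ne le_sup_left fun e => hwP (e ▸ mem_sup_right (mem_zpowers w)))
    obtain ⟨a, ha, b, ⟨i, rfl⟩, hab'⟩ := hgen P (zpowers w) hPM (zpowers_le.mpr hw) z hzin
    have hwi : w ^ i ∈ P ⊔ zpowers z := by
      have : w ^ i = a⁻¹ * z := by rw [hab', inv_mul_cancel_left]
      rw [this]
      exact mul_mem (mem_sup_left (inv_mem ha)) (mem_sup_right (mem_zpowers z))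
    have hiq : ¬ (q : ℤ) ∣ i := by
      rintro ⟨j, rfl⟩
      apply hzP
      rw [hab']
      show a * w ^ ((q : ℤ) * j) ∈ P
      rw [zpow_mul, zpow_natCast, hexp w hw, one_zpow, mul_one]
      exact ha
    obtain ⟨u, v, huv⟩ := (Int.isCoprime_iff_nat_coprime.mpr (show Nat.Coprime (q : ℤ).natAbs i.natAbs by
      rw [Int.natAbs_natCast, hq.coprime_iff_not_dvd]
      exact fun h => hiq (Int.natCast_dvd.mpr h)))
    have : w = (w ^ i) ^ v := by
      rw [← zpow_mul]
      conv_lhs => rw [← zpow_one w, ← huv, zpow_add, mul_comm u (q : ℤ), zpow_mul, zpow_natCast,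
        hexp w hw, one_zpow, one_mul, mul_comm v i]
    rw [this]
    exact zpow_mem hwi v
  obtain ⟨j, hj⟩ := IsPGroup.iff_card.mp (hMq.to_le hPM)
  obtain ⟨t, ht⟩ := IsPGroup.iff_card.mp hMq
  obtain ⟨b, hb⟩ := IsPGroup.iff_card.mp (hMq.to_le hUM.le)
  have hbt : b < t := by
    by_contra h
    exact hUM.ne (eq_of_le_of_card_ge hUM.le (by rw [ht, hb]; exact Nat.pow_le_pow_right hq.pos (not_lt.mp h)))
  have hb0 : 1 ≤ b := by
    rcases b with _ | b
    · exact absurd (Subgroup.card_eq_one.mp (by rw [hb, pow_zero])) hU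
    · omega
  have htj : t ≤ j + 1 := by
    rw [← Nat.pow_le_pow_iff_right hq.one_lt, pow_succ, ← ht, ← hj]
    let e : ↥P × ↥(zpowers z) → ↥(P ⊔ zpowers z) := fun v =>
      ⟨v.1 * v.2, mul_mem (mem_sup_left v.1.2) (mem_sup_right v.2.2)⟩
    have he : Function.Surjective e := by
      rintro ⟨v, hv⟩
      obtain ⟨a, ha, c, hc, rfl⟩ := hgen P (zpowers z) hPM (zpowers_le.mpr hz) v hv
      exact ⟨(⟨a, ha⟩, ⟨c, hc⟩), rfl⟩
    calc Nat.card ↥M ≤ Nat.card ↥(P ⊔ zpowers z) := card_le_of_le hM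
      _ ≤ Nat.card (↥P × ↥(zpowers z)) := Nat.card_le_card_of_surjective e he
      _ = Nat.card ↥P * q := by
        rw [Nat.card_prod, Nat.card_zpowers, orderOf_eq_prime (hexp z hz)
          (fun h => hzy (h ▸ one_mem _))]
  obtain ⟨Y, hY, hYle⟩ := Sylow.exists_subgroup_card_pow_prime_le (G := ↥P) q (m := b)
    (hj ▸ pow_dvd_pow q (by omega)) (zpowers ⟨y, hyP⟩) (n := 1) (by
      rw [Nat.card_zpowers, pow_one, Subgroup.orderOf_mk, orderOf_eq_prime (hexp y hy) hy1]) hb0
  refine ⟨Y.map P.subtype, (map_subtype_le Y).trans hPM,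
    by rw [card_map_of_injective P.subtype_injective, hY, hb],
    ⟨⟨y, hyP⟩, hYle (mem_zpowers _), rfl⟩, fun h => hzP (map_subtype_le Y h)⟩

omit [Finite G] in
theorem map_conj_map {G' : Type*} [Group G'] (f : G →* G') (X : Subgroup G) (k : G) :
    (X.map (MulAut.conj k).toMonoidHom).map f = (X.map f).map (MulAut.conj (f k)).toMonoidHom := by
  rw [map_map, map_map]
  congr 1
  ext x
  simp

theorem exists_split {F : Subgroup G} [F.Normal] (hcop : (Nat.card ↥F).Coprime F.index)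
    (A : Subgroup G) : ∃ C ≤ A, C ⊔ (A ⊓ F) = A ∧
      Nat.card ↥C = Nat.card ↥(A.map (QuotientGroup.mk' F)) ∧
      (Nat.card ↥C).Coprime (Nat.card ↥F) := by
  have hdvd : Nat.card ↥(A.map (QuotientGroup.mk' F)) ∣ F.index := by
    rw [index_eq_card]; exact card_subgroup_dvd_card _
  have hi : (F.subgroupOf A).index = Nat.card ↥(A.map (QuotientGroup.mk' F)) := by
    have h1 := card_map_mk_mul F A
    have h2 := Subgroup.card_mul_index (F.subgroupOf A)
    have h3 : Nat.card ↥(F.subgroupOf A) = Nat.card ↥(A ⊓ F) := by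
      rw [← inf_subgroupOf_left, Nat.card_congr (subgroupOfEquivOfLe inf_le_left).toEquiv]
    rw [h3, ← h1, mul_comm] at h2
    exact Nat.eq_of_mul_eq_mul_right Nat.card_pos h2
  obtain ⟨C, hC⟩ := exists_right_complement'_of_coprime (N := F.subgroupOf A) (by
    rw [hi]
    refine Nat.Coprime.coprime_dvd_left ?_ (hcop.coprime_dvd_right hdvd)
    rw [← inf_subgroupOf_left, Nat.card_congr (subgroupOfEquivOfLe inf_le_left).toEquiv]
    exact card_dvd_of_le inf_le_right)
  have hcard : Nat.card ↥(C.map A.subtype) = Nat.card ↥(A.map (QuotientGroup.mk' F)) := by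
    rw [card_map_of_injective A.subtype_injective, ← hi, ← hC.symm.index_eq_card]
  refine ⟨C.map A.subtype, map_subtype_le _, ?_, hcard,
    hcard ▸ (hcop.coprime_dvd_right hdvd).symm⟩
  rw [show A ⊓ F = (F.subgroupOf A).map A.subtype by rw [subgroupOf_map_subtype, inf_comm],
    ← Subgroup.map_sup, sup_comm, hC.sup_eq_top, ← MonoidHom.range_eq_map, range_subtype]

omit [Finite G] in
theorem card_inf_eq_gcd {F : Subgroup G} [F.Normal] (hcop : (Nat.card ↥F).Coprime F.index)
    (A : Subgroup G) : Nat.card ↥(A ⊓ F) = Nat.gcd (Nat.card ↥A) (Nat.card ↥F) := by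
  have hdvd : Nat.card ↥(A.map (QuotientGroup.mk' F)) ∣ F.index := by
    rw [index_eq_card]; exact card_subgroup_dvd_card _
  rw [← card_map_mk_mul F A, Nat.Coprime.gcd_mul_left_cancel _ (hcop.coprime_dvd_right hdvd).symm]
  exact (Nat.gcd_eq_left (card_dvd_of_le inf_le_right)).symm

omit [Finite G] in
theorem inf_map_conj {F : Subgroup G} [F.Normal] (A : Subgroup G) (g : G) :
    A.map (MulAut.conj g).toMonoidHom ⊓ F = (A ⊓ F).map (MulAut.conj g).toMonoidHom := by
  conv_rhs => rw [map_inf A F _ (MulAut.conj g).injective]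
  congr 1
  exact (Normal.map_conj_eq F g).symm

theorem ConjAb.conj_in_normalizer [Group.IsSolvable G] (hB : ConjAb G) (hno : NoPrimeNormal G)
    {V : Subgroup G} (hV : V ≤ Cfsg.fittingSubgroup G)
    (C D : Subgroup (G ⧸ Cfsg.fittingSubgroup G))
    (hC : C ≤ (normalizer (V : Set G)).map (QuotientGroup.mk' (Cfsg.fittingSubgroup G)))
    (hD : D ≤ (normalizer (V : Set G)).map (QuotientGroup.mk' (Cfsg.fittingSubgroup G)))
    (hcard : Nat.card ↥C = Nat.card ↥D) :
    ∃ k ∈ normalizer (V : Set G),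
      D = C.map (MulAut.conj (QuotientGroup.mk' (Cfsg.fittingSubgroup G) k)).toMonoidHom := by
  classical
  set F := Cfsg.fittingSubgroup G with hF
  set f := QuotientGroup.mk' F
  set K := (normalizer (V : Set G)).map f with hK
  set n := Nat.card ↥C with hn
  have hLB : ConjAb (G ⧸ F) := ConjAb.quotient_of_solvable_aux _ rfl inferInstance hB F
  have hmin := minPrime_quotient hB hno
  have hu : ∀ {r : ℕ}, r.Prime → UniqueOrder (G ⧸ F) r := fun hr => uniqueOrder_all hLB hmin hr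
  have hFcomm : ∀ a ∈ F, ∀ b ∈ F, a * b = b * a := fun a ha b hb =>
    congrArg Subtype.val ((fitting_comm hB hno).is_comm.comm (⟨a, ha⟩ : ↥F) ⟨b, hb⟩)
  have hFV : F ≤ normalizer (V : Set G) := fun x hx => mem_normalizer_iff.mpr fun y =>
    ⟨fun hy => by rwa [hFcomm x hx y (hV hy), mul_inv_cancel_right],
     fun hy => by
      have h : y = x⁻¹ * (x * y * x⁻¹) * x := by group
      rw [h, hFcomm _ (inv_mem hx) _ (hV hy), inv_mul_cancel_right]
      exact hy⟩
  -- the lemma on subgroups of equal order, inside a subgroup `N`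
  have huniq : ∀ (N : Subgroup (G ⧸ F)) (m : ℕ),
      ((∀ R ≤ N, ∀ _ : ↥R ≃* QuaternionGroup 2, m.factorization 2 ≠ 2)) → m ≠ 0 →
      UniqueAt ↥N m := by
    intro N m hN hm r hr R P₁ P₂ hR h₁ h₂ c₁ c₂
    have := Fact.mk hr
    have hRp : IsPGroup r ↥(R.map N.subtype) := hR.map _
    have hcases : IsCyclic ↥(R.map N.subtype) ∨
        (r = 2 ∧ Nonempty (↥(R.map N.subtype) ≃* QuaternionGroup 2)) := by
      by_cases h2 : r = 2
      · subst h2
        exact (cyclic_or_quaternion_of_uniqueOrder hLB (hu hr) hRp).imp_right fun h => ⟨rfl, h⟩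
      · exact Or.inl (cyclic_of_uniqueOrder h2 (hu hr) hRp)
    rcases hcases with hcyc | ⟨rfl, ⟨e⟩⟩
    · have : IsCyclic ↥R :=
        isCyclic_of_surjective (equivMapOfInjective R N.subtype N.subtype_injective).symm.toMonoidHom
          (equivMapOfInjective R N.subtype N.subtype_injective).symm.surjective
      have hsub : ∀ {P : Subgroup ↥N}, P ≤ R → Nat.card ↥(P.subgroupOf R) = Nat.card ↥P :=
        fun h => Nat.card_congr (subgroupOfEquivOfLe h).toEquiv
      have h12 : P₁.subgroupOf R ≤ P₂.subgroupOf R :=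
        le_of_card_dvd_cyclic (by rw [hsub h₁, hsub h₂, c₁, c₂])
      exact eq_of_le_of_card_ge (fun x hx => h12 (show (⟨x, h₁ hx⟩ : ↥R) ∈ P₁.subgroupOf R from hx))
        (by rw [c₁, c₂])
    · have hv := hN _ (map_subtype_le R) e
      have hR8 : Nat.card ↥R = 8 := by
        rw [← card_map_of_injective (f := N.subtype) N.subtype_injective, Nat.card_congr e.toEquiv,
          Nat.card_eq_fintype_card, QuaternionGroup.card]
      have hle : 2 ^ m.factorization 2 ≤ 2 ^ 3 := by rw [← c₁]; exact (card_le_of_le h₁).trans hR8.le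
      have hv3 := (Nat.pow_le_pow_iff_right one_lt_two).mp hle
      generalize m.factorization 2 = v at c₁ c₂ hv hv3
      interval_cases v
      · rw [Subgroup.card_eq_one.mp (c₁.trans (pow_zero 2)), Subgroup.card_eq_one.mp (c₂.trans (pow_zero 2))]
      · have : Nontrivial ↥(R.map N.subtype) := Finite.one_lt_card_iff_nontrivial.mp (by
          rw [card_map_of_injective N.subtype_injective, hR8]; norm_num)
        obtain ⟨z, hz, hzu⟩ := exists_zpowers_of_uniqueOrder (hu Nat.prime_two) hRp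
        have key : ∀ P ≤ R, Nat.card ↥P = 2 ^ 1 → P.map N.subtype = (zpowers z).map (R.map N.subtype).subtype := by
          intro P hP hPc
          refine eq_of_le_of_card_ge ?_ (by
            rw [card_map_of_injective (R.map N.subtype).subtype_injective, Nat.card_zpowers, hz,
              card_map_of_injective N.subtype_injective, hPc, pow_one])
          rintro _ ⟨u, hu', rfl⟩
          refine ⟨⟨u, u, hP hu', rfl⟩, hzu _ (Subtype.ext ?_), rfl⟩
          show (u : G ⧸ F) ^ 2 = 1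
          rw [← SubmonoidClass.coe_pow, show u ^ 2 = 1 by
            rw [← orderOf_dvd_iff_pow_eq_one]
            simpa [hPc] using Subgroup.orderOf_dvd_natCard P hu', Subgroup.coe_one]
        exact Subgroup.map_injective N.subtype_injective ((key P₁ h₁ c₁).trans (key P₂ h₂ c₂).symm)
      · exact absurd rfl hv
      · rw [eq_of_le_of_card_ge h₁ (by rw [hR8, c₁]; norm_num),
          eq_of_le_of_card_ge h₂ (by rw [hR8, c₂]; norm_num)]
  have hconjK : ∀ (N : Subgroup (G ⧸ F)) (X Y : Subgroup (G ⧸ F)), X ≤ N → Y ≤ N →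
      Nat.card ↥X = Nat.card ↥Y → UniqueAt ↥N (Nat.card ↥X) →
      ∃ k ∈ N, Y = X.map (MulAut.conj k).toMonoidHom := by
    intro N X Y hX hY hXY huN
    obtain ⟨k, hk⟩ := conj_of_uniqueAt (X.subgroupOf N) (Y.subgroupOf N)
      (by rw [Nat.card_congr (subgroupOfEquivOfLe hX).toEquiv,
        Nat.card_congr (subgroupOfEquivOfLe hY).toEquiv, hXY])
      (by rw [Nat.card_congr (subgroupOfEquivOfLe hX).toEquiv]; exact huN)
    refine ⟨k, k.2, ?_⟩
    rw [← map_subgroupOf_eq_of_le hY, hk, map_map]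
    conv_rhs => rw [← map_subgroupOf_eq_of_le hX, map_map]
    congr 1
  by_cases hexc : ∀ R ≤ K, ∀ _ : ↥R ≃* QuaternionGroup 2, n.factorization 2 ≠ 2
  · obtain ⟨kq, hkq, hkD⟩ := hconjK K C D hC hD hcard (huniq K n hexc Nat.card_pos.ne')
    obtain ⟨k, hk, rfl⟩ := hkq
    exact ⟨k, hk, hkD⟩
  push Not at hexc
  obtain ⟨R, hRK, eR, hv2⟩ := hexc
  have : Fact (Nat.Prime 2) := ⟨Nat.prime_two⟩
  obtain ⟨hsqQ, hprodQ, ⟨a0, b0, ha0, hb0, hab0⟩, hcommQ, -, -⟩ := quaternion_two_facts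
  have hRn : R.Normal := quaternion_normal hLB hmin eR
  have hR8 : Nat.card ↥R = 8 := by
    rw [Nat.card_congr eR.toEquiv, Nat.card_eq_fintype_card, QuaternionGroup.card]
  have hR2 : IsPGroup 2 ↥R := IsPGroup.of_card (n := 3) (by rw [hR8]; norm_num)
  -- every 2-subgroup lies in `R`
  obtain ⟨S, hS⟩ := hR2.exists_le_sylow
  have hSR : (S : Subgroup (G ⧸ F)) = R := by
    rcases cyclic_or_quaternion_of_uniqueOrder hLB (hu Nat.prime_two) S.isPGroup' with h | h
    · exfalso
      have hc : IsCyclic ↥R := isCyclic_of_injective (inclusion hS) (inclusion_injective hS)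
      have := hc.commGroup
      exact (show ¬ ∀ u v : QuaternionGroup 2, u * v = v * u by decide) fun u v =>
        eR.symm.injective (by rw [map_mul, map_mul]; exact mul_comm' _ _)
    · obtain ⟨e⟩ := h
      exact (eq_of_le_of_card_ge hS (by
        rw [hR8, Nat.card_congr e.toEquiv, Nat.card_eq_fintype_card, QuaternionGroup.card])).symm
  have hle2 : ∀ {X : Subgroup (G ⧸ F)}, IsPGroup 2 ↥X → X ≤ R := by
    intro X hX
    obtain ⟨T, hT⟩ := hX.exists_le_sylow
    obtain ⟨g, hg⟩ := MulAction.exists_smul_eq (G ⧸ F) S T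
    refine hT.trans ?_
    rw [← hg, Sylow.coe_subgroup_smul, hSR, Subgroup.pointwise_smul_def]
    exact (Normal.map_conj_eq R g).le
  have hFodd : Odd (Nat.card ↥F) := by
    rw [← Nat.not_even_iff_odd, even_iff_two_dvd]
    intro h
    have h8 : 2 ∣ F.index := by
      rw [index_eq_card]
      exact (show 2 ∣ 8 by norm_num).trans (hR8 ▸ card_subgroup_dvd_card R)
    exact Nat.prime_two.not_dvd_one ((fitting_coprime hB hno).gcd_eq_one ▸ Nat.dvd_gcd h h8)
  -- the cyclic part of order 4 with a lift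
  have hpart : ∀ X : Subgroup (G ⧸ F), Nat.card ↥X = n → Nat.card ↥(X ⊓ R) = 4 ∧
      ∃ pt : G, pt ^ 4 = 1 ∧ zpowers (f pt) = X ⊓ R := by
    intro X hX
    have hXR : IsPGroup 2 ↥(X ⊓ R) := hR2.to_le inf_le_right
    obtain ⟨j, hj⟩ := IsPGroup.iff_card.mp hXR
    have hjn : j ≤ 2 := by
      rw [← hv2]
      exact (Nat.prime_two.pow_dvd_iff_le_factorization Nat.card_pos.ne').mp
        (hj ▸ hn ▸ hX ▸ card_dvd_of_le inf_le_left)
    obtain ⟨P, hP⟩ := Sylow.exists_subgroup_card_pow_prime (G := ↥X) 2 (n := 2)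
      (by
        have h := Nat.ordProj_dvd n 2
        rw [hv2] at h
        rw [hX]
        exact h)
    have hPR : P.map X.subtype ≤ X ⊓ R := le_inf (map_subtype_le P)
      (hle2 (IsPGroup.of_card (n := 2) (by rw [card_map_of_injective X.subtype_injective, hP])))
    have h4 : Nat.card ↥(X ⊓ R) = 4 := by
      have h1 := card_le_of_le hPR
      rw [card_map_of_injective X.subtype_injective, hP, hj] at h1
      have h2 := Nat.pow_le_pow_right two_pos hjn
      rw [hj]
      omega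
    refine ⟨h4, ?_⟩
    have hcyc : IsCyclic ↥(X ⊓ R) := by
      rcases cyclic_or_quaternion_of_uniqueOrder hLB (hu Nat.prime_two) hXR with h | ⟨⟨e⟩⟩
      · exact h
      · exfalso
        rw [Nat.card_congr e.toEquiv, Nat.card_eq_fintype_card, QuaternionGroup.card] at h4
        omega
    obtain ⟨u, hu'⟩ := hcyc.exists_generator
    obtain ⟨x, hx⟩ := QuotientGroup.mk'_surjective F (u : G ⧸ F)
    have hu4 : (u : G ⧸ F) ^ 4 = 1 := by
      rw [← h4, ← Subgroup.coe_pow, pow_card_eq_one', Subgroup.coe_one]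
    refine ⟨x ^ Nat.card ↥F, ?_, ?_⟩
    · have hx4 : x ^ 4 ∈ F := by
        rw [← QuotientGroup.eq_one_iff]
        show f (x ^ 4) = 1
        rw [map_pow, hx, hu4]
      rw [← pow_mul, mul_comm, pow_mul]
      have := congrArg Subtype.val (pow_card_eq_one' (x := (⟨x ^ 4, hx4⟩ : ↥F)))
      exact this
    · refine eq_of_le_of_card_ge (zpowers_le.mpr (by rw [map_pow, hx]; exact pow_mem u.2 _)) ?_
      have hou : orderOf (u : G ⧸ F) = 4 := by
        rw [Subgroup.orderOf_coe, orderOf_eq_card_of_forall_mem_zpowers hu', h4]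
      rw [h4, Nat.card_zpowers, map_pow, hx, Nat.Coprime.orderOf_pow (by
        rw [hou]
        exact (Nat.coprime_two_left.mpr hFodd).pow_left 2), hou]
  obtain ⟨hC4, pC, hpC4, hpC⟩ := hpart C rfl
  obtain ⟨hD4, pD, hpD4, hpD⟩ := hpart D hcard.symm
  set Q := R.comap f with hQ
  have hQN : Q ≤ normalizer (V : Set G) := by
    intro x hx
    obtain ⟨y, hy, hyx⟩ := hRK (show f x ∈ R from hx)
    have : y⁻¹ * x ∈ F := by
      rw [← QuotientGroup.eq_one_iff]
      show f (y⁻¹ * x) = 1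
      rw [map_mul, map_inv, hyx, inv_mul_cancel]
    have h := mul_mem hy (hFV this)
    rwa [mul_inv_cancel_left] at h
  -- `Q` centralises the partial Sylow subgroups of `V`
  have hclaim : ∀ (q : ℕ) [Fact q.Prime] (M : Subgroup G), M.Normal → M ≤ F → IsMulCommutative ↥M →
      (∀ x ∈ M, x ^ q = 1) → M ≠ ⊥ → ¬ M ≤ V → ∀ x ∈ V, x ∈ M → x ≠ 1 →
      ∀ a ∈ Q, ∀ y ∈ M, a * y = y * a := by
    intro q _ M hMn hMF hMab hMexp hMne hMV x hxV hxM hx1
    have hq : q.Prime := Fact.out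
    have hq2 : q ≠ 2 := by
      rintro rfl
      have hox : orderOf x = 2 := orderOf_eq_prime (hMexp x hxM) hx1
      exact Nat.not_even_iff_odd.mpr hFodd (even_iff_two_dvd.mpr
        (hox ▸ Subgroup.orderOf_dvd_natCard F (hMF hxM)))
    have hMc : ∀ a ∈ M, ∀ b ∈ M, a * b = b * a := fun a ha b hb => hFcomm a (hMF ha) b (hMF hb)
    have hUM : V ⊓ M < M := lt_of_le_of_ne inf_le_right fun h => hMV (h ▸ inf_le_left)
    have hU : V ⊓ M ≠ ⊥ := fun h => hx1 (mem_bot.mp (h ▸ ⟨hxV, hxM⟩))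
    -- power maps
    have hpow : ∀ a ∈ Q, ∀ y ∈ M, a * y * a⁻¹ ∈ zpowers y := by
      intro a ha y hy
      rcases eq_or_ne y 1 with rfl | hy1
      · simp
      by_contra hno'
      obtain ⟨P, hPM, hPc, hyP, hzP⟩ := exists_subgroup_avoiding hMab hMexp hy
        (hMn.conj_mem y hy a) hy1 hno' hUM hU
      have habP : IsMulCommutative ↥P := ⟨⟨fun u v => Subtype.ext (hMc u (hPM u.2) v (hPM v.2))⟩⟩
      have habU : IsMulCommutative ↥(V ⊓ M) := ⟨⟨fun u v => Subtype.ext (hMc u u.2.2 v v.2.2)⟩⟩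
      obtain ⟨h, hh⟩ := hB (V ⊓ M) P habU habP hPc.symm
      apply hzP
      rw [hh] at hyP ⊢
      obtain ⟨w, hw, rfl⟩ := hyP
      have hQn : Q.Normal := hRn.comap f
      have ha' : h⁻¹ * a * h ∈ Q := by simpa using hQn.conj_mem a ha h⁻¹
      refine ⟨(h⁻¹ * a * h) * w * (h⁻¹ * a * h)⁻¹, ⟨(mem_normalizer_iff.mp (hQN ha') w).mp hw.1,
        hMn.conj_mem w hw.2 _⟩, ?_⟩
      show h * ((h⁻¹ * a * h) * w * (h⁻¹ * a * h)⁻¹) * h⁻¹ = a * (h * w * h⁻¹) * a⁻¹
      group
    have hFfix : ∀ φ ∈ F, ∀ y ∈ M, φ * y = y * φ := fun φ hφ y hy => hFcomm φ hφ y (hMF hy)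
    -- squares of elements of order 4 centralise `M`
    have hsq : ∀ a ∈ Q, f a ^ 2 ≠ 1 → ∀ y ∈ M, a * (a * y * a⁻¹) * a⁻¹ = y := by
      intro a ha ha2 y hy
      obtain ⟨u, v, huv⟩ := hcommQ (eR ⟨f a, ha⟩) (fun h => ha2 (by
        have h' := congrArg (fun t => ((eR.symm t : ↥R) : G ⧸ F)) h
        simpa using h'))
      obtain ⟨bu, hbu⟩ := QuotientGroup.mk'_surjective F ((eR.symm u : ↥R) : G ⧸ F)
      obtain ⟨bv, hbv⟩ := QuotientGroup.mk'_surjective F ((eR.symm v : ↥R) : G ⧸ F)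
      have hbuQ : bu ∈ Q := show f bu ∈ R from hbu ▸ (eR.symm u).2
      have hbvQ : bv ∈ Q := show f bv ∈ R from hbv ▸ (eR.symm v).2
      have hφ : (bu * bv * bu⁻¹ * bv⁻¹)⁻¹ * (a * a) ∈ F := by
        rw [← QuotientGroup.eq_one_iff]
        show f ((bu * bv * bu⁻¹ * bv⁻¹)⁻¹ * (a * a)) = 1
        rw [map_mul, map_inv, inv_mul_eq_one, map_mul, map_mul, map_mul, map_inv, map_inv, hbu, hbv]
        have h' := congrArg (fun t => ((eR.symm t : ↥R) : G ⧸ F)) huv
        simpa [sq] using h'.symm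
      have hcomm2 : ∀ b ∈ Q, ∀ c ∈ Q, ∀ y ∈ M, b * (c * y * c⁻¹) * b⁻¹ = c * (b * y * b⁻¹) * c⁻¹ := by
        intro b hb c hc y hy
        obtain ⟨i, hi : y ^ i = b * y * b⁻¹⟩ := hpow b hb y hy
        obtain ⟨j, hj : y ^ j = c * y * c⁻¹⟩ := hpow c hc y hy
        rw [← hi, ← hj, ← conj_zpow, ← hi, ← conj_zpow, ← hj, ← zpow_mul, ← zpow_mul, mul_comm]
      have hfix : ∀ y ∈ M, (bu * bv * bu⁻¹ * bv⁻¹) * y * (bu * bv * bu⁻¹ * bv⁻¹)⁻¹ = y := by
        intro y hy
        have hy' : bu⁻¹ * (bv⁻¹ * y * bv) * bu ∈ M := by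
          simpa using hMn.conj_mem _ (by simpa using hMn.conj_mem y hy bv⁻¹) bu⁻¹
        have h := hcomm2 bu hbuQ bv hbvQ _ hy'
        calc _ = bu * (bv * (bu⁻¹ * (bv⁻¹ * y * bv) * bu) * bv⁻¹) * bu⁻¹ := by group
          _ = bv * (bu * (bu⁻¹ * (bv⁻¹ * y * bv) * bu) * bu⁻¹) * bv⁻¹ := h
          _ = y := by group
      set k0 := bu * bv * bu⁻¹ * bv⁻¹
      calc a * (a * y * a⁻¹) * a⁻¹ = k0 * ((k0⁻¹ * (a * a)) * y * (k0⁻¹ * (a * a))⁻¹) * k0⁻¹ := by group
        _ = k0 * y * k0⁻¹ := by rw [hFfix _ hφ y hy, mul_inv_cancel_right]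
        _ = y := hfix y hy
    -- each element of order 4 fixes `M` pointwise or inverts it
    have hpm : ∀ a ∈ Q, f a ^ 2 ≠ 1 →
        (∀ y ∈ M, a * y * a⁻¹ = y) ∨ (∀ y ∈ M, a * y * a⁻¹ = y⁻¹) := by
      intro a ha ha2
      have hone : ∀ y ∈ M, a * y * a⁻¹ = y ∨ a * y * a⁻¹ = y⁻¹ := by
        intro y hy
        rcases eq_or_ne y 1 with rfl | hy1
        · simp
        have hoy : orderOf y = q := orderOf_eq_prime (hMexp y hy) hy1
        obtain ⟨i, hi : y ^ i = a * y * a⁻¹⟩ := hpow a ha y hy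
        have h := hsq a ha ha2 y hy
        rw [← hi, ← conj_zpow, ← hi, ← zpow_mul] at h
        have h' : y ^ ((i - 1) * (i + 1)) = 1 := by
          rw [show (i - 1) * (i + 1) = i * i + -1 by ring, zpow_add, h, zpow_neg_one, mul_inv_cancel]
        rw [← orderOf_dvd_iff_zpow_eq_one, hoy] at h'
        rcases Int.Prime.dvd_mul' hq h' with h1 | h1
        · left
          rw [← hi]
          rw [← hoy, orderOf_dvd_iff_zpow_eq_one] at h1
          calc y ^ i = y ^ (i - 1) * y := by rw [← zpow_add_one, sub_add_cancel]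
            _ = y := by rw [h1, one_mul]
        · right
          rw [← hi]
          rw [← hoy, orderOf_dvd_iff_zpow_eq_one, zpow_add_one] at h1
          exact eq_inv_of_mul_eq_one_left h1
      by_contra hcon
      push Not at hcon
      obtain ⟨⟨y, hy, hy'⟩, ⟨z, hz, hz'⟩⟩ := hcon
      have hyi := (hone y hy).resolve_left hy'
      have hzf := (hone z hz).resolve_right hz'
      have hzy : a * (z * y) * a⁻¹ = z * y⁻¹ := by
        calc a * (z * y) * a⁻¹ = (a * z * a⁻¹) * (a * y * a⁻¹) := by group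
          _ = z * y⁻¹ := by rw [hyi, hzf]
      have hsq1 : ∀ w ∈ M, w * w = 1 → w = 1 := by
        intro w hw h
        rw [← orderOf_eq_one_iff]
        exact Nat.eq_one_of_dvd_coprimes ((Nat.coprime_primes hq Nat.prime_two).mpr hq2)
          (orderOf_dvd_iff_pow_eq_one.mpr (hMexp w hw))
          (orderOf_dvd_iff_pow_eq_one.mpr (by rw [sq, h]))
      rcases hone (z * y) (mul_mem hz hy) with h | h
      · rw [hzy, mul_right_inj] at h
        have : y = 1 := hsq1 y hy (by nth_rewrite 1 [← h]; rw [inv_mul_cancel])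
        exact hy' (by simp [this])
      · rw [hzy, mul_inv_rev, hMc _ (inv_mem hy) _ (inv_mem hz), mul_left_inj] at h
        have : z = 1 := hsq1 z hz (by nth_rewrite 1 [h]; rw [inv_mul_cancel])
        exact hz' (by simp [this])
    -- all elements of order 4 act in the same way
    have hsame : ∀ a ∈ Q, f a ^ 2 ≠ 1 → ∀ b ∈ Q, f b ^ 2 ≠ 1 → ∀ y ∈ M, a * y * a⁻¹ = b * y * b⁻¹ := by
      intro a ha ha2 b hb hb2
      have hord : ∀ c ∈ Q, f c ^ 2 ≠ 1 → orderOf (f c) = 4 := by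
        intro c hc hc2
        have h4 : ∀ t : QuaternionGroup 2, t ^ 4 = 1 := by decide
        refine orderOf_eq_prime_pow (p := 2) (n := 1) (by simpa using hc2) ?_
        have := congrArg (fun t => ((eR.symm t : ↥R) : G ⧸ F)) (h4 (eR ⟨f c, hc⟩))
        simpa using this
      obtain ⟨gq, hgq⟩ := hLB (zpowers (f a)) (zpowers (f b)) inferInstance inferInstance
        (by rw [Nat.card_zpowers, Nat.card_zpowers, hord a ha ha2, hord b hb hb2])
      obtain ⟨z, ⟨t, rfl⟩, hz⟩ : f b ∈ (zpowers (f a)).map (MulAut.conj gq).toMonoidHom :=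
        hgq ▸ mem_zpowers (f b)
      obtain ⟨g, rfl⟩ := QuotientGroup.mk'_surjective F gq
      have hφ : (g * a ^ t * g⁻¹)⁻¹ * b ∈ F := by
        rw [← QuotientGroup.eq_one_iff]
        show f ((g * a ^ t * g⁻¹)⁻¹ * b) = 1
        rw [map_mul, map_inv, inv_mul_eq_one, map_mul, map_mul, map_inv, map_zpow]
        exact hz
      obtain ⟨k, rfl | rfl⟩ := Int.even_or_odd' t
      · exfalso
        apply hb2
        rw [← hz, ← map_pow]
        rw [show ((fun x => f a ^ x) (2 * k)) ^ 2 = 1 by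
          show (f a ^ (2 * k)) ^ 2 = 1
          rw [← zpow_natCast, ← zpow_mul, show 2 * k * ((2 : ℕ) : ℤ) = ((4 : ℕ) : ℤ) * k by push_cast; ring,
            zpow_mul, zpow_natCast, ← hord a ha ha2, pow_orderOf_eq_one, one_zpow], map_one]
      have hsqz : ∀ (k : ℤ), ∀ y ∈ M, a ^ (2 * k) * y * (a ^ (2 * k))⁻¹ = y := by
        intro k
        have hc : a * a ∈ centralizer (M : Set G) := mem_centralizer_iff.mpr fun y hy => by
          have h := hsq a ha ha2 y hy
          calc y * (a * a) = a * (a * y * a⁻¹) * a⁻¹ * (a * a) := by rw [h]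
            _ = a * a * y := by group
        intro y hy
        have h2 := mem_centralizer_iff.mp (zpow_mem hc k) y hy
        rw [zpow_mul, zpow_two, ← h2, mul_inv_cancel_right]
      have hbact : ∀ y ∈ M, b * y * b⁻¹ = g * (a * (g⁻¹ * y * g) * a⁻¹) * g⁻¹ := by
        intro y hy
        have hy' : g⁻¹ * y * g ∈ M := by simpa using hMn.conj_mem y hy g⁻¹
        have hay : a * (g⁻¹ * y * g) * a⁻¹ ∈ M := hMn.conj_mem _ hy' a
        set φ := (g * a ^ (2 * k + 1) * g⁻¹)⁻¹ * b
        calc b * y * b⁻¹ = (g * a ^ (2 * k + 1) * g⁻¹) * (φ * y * φ⁻¹) *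
              (g * a ^ (2 * k + 1) * g⁻¹)⁻¹ := by simp only [φ]; group
          _ = (g * a ^ (2 * k + 1) * g⁻¹) * y * (g * a ^ (2 * k + 1) * g⁻¹)⁻¹ := by
              rw [hFfix φ hφ y hy, mul_inv_cancel_right]
          _ = g * (a ^ (2 * k) * (a * (g⁻¹ * y * g) * a⁻¹) * (a ^ (2 * k))⁻¹) * g⁻¹ := by
              rw [zpow_add_one]; group
          _ = g * (a * (g⁻¹ * y * g) * a⁻¹) * g⁻¹ := by rw [hsqz k _ hay]
      intro y hy
      have hy' : g⁻¹ * y * g ∈ M := by simpa using hMn.conj_mem y hy g⁻¹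
      rw [hbact y hy]
      rcases hpm a ha ha2 with h | h
      · rw [h y hy, h _ hy']; group
      · rw [h y hy, h _ hy']; group
    obtain ⟨la, hla⟩ := QuotientGroup.mk'_surjective F ((eR.symm a0 : ↥R) : G ⧸ F)
    obtain ⟨lb, hlb⟩ := QuotientGroup.mk'_surjective F ((eR.symm b0 : ↥R) : G ⧸ F)
    have hne : ∀ c : QuaternionGroup 2, c ^ 2 ≠ 1 → ((eR.symm c : ↥R) : G ⧸ F) ^ 2 ≠ 1 := by
      intro c hc h
      apply hc
      apply eR.symm.injective
      apply Subtype.ext
      rw [map_pow, Subgroup.coe_pow, h, map_one, Subgroup.coe_one]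
    have hlaQ : la ∈ Q := show f la ∈ R from hla ▸ (eR.symm a0).2
    have hlbQ : lb ∈ Q := show f lb ∈ R from hlb ▸ (eR.symm b0).2
    have hla2 : f la ^ 2 ≠ 1 := hla ▸ hne a0 ha0
    have hlb2 : f lb ^ 2 ≠ 1 := hlb ▸ hne b0 hb0
    have hlab2 : f (la * lb) ^ 2 ≠ 1 := by
      rw [map_mul, hla, hlb, ← Subgroup.coe_mul, ← map_mul]
      exact hne _ hab0
    have htriv : ∀ y ∈ M, la * y * la⁻¹ = y := by
      intro y hy
      have h1 := hsame la hlaQ hla2 (la * lb) (mul_mem hlaQ hlbQ) hlab2 y hy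
      have h2 := hsame la hlaQ hla2 lb hlbQ hlb2 y hy
      have h3 : la * y * la⁻¹ = la * (la * y * la⁻¹) * la⁻¹ := by
        conv_lhs => rw [h1]
        conv_rhs => rw [h2]
        group
      exact h3.trans (hsq la hlaQ hla2 y hy)
    intro a ha y hy
    obtain ⟨u, v, hu2, hv2', huv⟩ := hprodQ (eR ⟨f a, ha⟩)
    obtain ⟨lu, hlu⟩ := QuotientGroup.mk'_surjective F ((eR.symm u : ↥R) : G ⧸ F)
    obtain ⟨lv, hlv⟩ := QuotientGroup.mk'_surjective F ((eR.symm v : ↥R) : G ⧸ F)
    have hφ : (lu * lv)⁻¹ * a ∈ F := by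
      rw [← QuotientGroup.eq_one_iff]
      show f ((lu * lv)⁻¹ * a) = 1
      rw [map_mul, map_inv, inv_mul_eq_one, map_mul, hlu, hlv, ← Subgroup.coe_mul, ← map_mul, ← huv,
        MulEquiv.symm_apply_apply]
    have hlu' : lu * y * lu⁻¹ = y := by
      rw [← hsame la hlaQ hla2 lu (show f lu ∈ R from hlu ▸ (eR.symm u).2) (hlu ▸ hne u hu2) y hy]
      exact htriv y hy
    have hlv' : lv * y * lv⁻¹ = y := by
      rw [← hsame la hlaQ hla2 lv (show f lv ∈ R from hlv ▸ (eR.symm v).2) (hlv ▸ hne v hv2') y hy]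
      exact htriv y hy
    have h : a * y * a⁻¹ = y := by
      calc a * y * a⁻¹ = (lu * lv) * (((lu * lv)⁻¹ * a) * y * ((lu * lv)⁻¹ * a)⁻¹) * (lu * lv)⁻¹ := by
            group
        _ = (lu * lv) * y * (lu * lv)⁻¹ := by rw [hFfix _ hφ y hy, mul_inv_cancel_right]
        _ = lu * (lv * y * lv⁻¹) * lu⁻¹ := by group
        _ = y := by rw [hlv', hlu']
    exact mul_inv_eq_iff_eq_mul.mp h
  -- the abelian subgroups `W × ⟨p⟩`
  set W := V ⊓ centralizer (Q : Set G) with hW
  have hA : ∀ pt : G, pt ^ 4 = 1 → ∀ X : Subgroup (G ⧸ F), zpowers (f pt) = X ⊓ R →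
      Nat.card ↥(X ⊓ R) = 4 → ∃ A : Subgroup G, IsMulCommutative ↥A ∧
        Nat.card ↥A = 4 * Nat.card ↥W ∧ A ⊓ F = W ∧ A.map f = X ⊓ R := by
    intro pt hpt X hpX hX4
    have hptQ : pt ∈ Q := show f pt ∈ R from
      ((hpX ▸ mem_zpowers (f pt) : f pt ∈ X ⊓ R)).2
    let h := MonoidHom.noncommCoprod W.subtype (zpowers pt).subtype (by
      intro a b
      obtain ⟨i, hi⟩ := b.2
      show Commute (a : G) (b : G)
      rw [← show pt ^ i = b from hi]
      exact (mem_centralizer_iff.mp (zpow_mem hptQ i |> fun h => (a.2.2)) _ (zpow_mem hptQ i)).symm)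
    have hWF : W ≤ F := inf_le_left.trans hV
    have hmap : h.range.map f = X ⊓ R := by
      rw [MonoidHom.noncommCoprod_range, range_subtype, range_subtype, Subgroup.map_sup,
        (map_eq_bot_iff W).mpr (by rw [QuotientGroup.ker_mk']; exact hWF), bot_sup_eq,
        MonoidHom.map_zpowers, hpX]
    have hinf : h.range ⊓ F = W := by
      refine le_antisymm ?_ (le_inf ?_ hWF)
      · rintro _ ⟨⟨⟨w, z⟩, rfl⟩, hF'⟩
        obtain ⟨i, hi⟩ := z.2
        have hzF : (z : G) ∈ F := by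
          have h2 := mul_mem (inv_mem (hWF w.2)) (show (w : G) * z ∈ F from hF')
          rwa [inv_mul_cancel_left] at h2
        have h4 : orderOf (f pt) = 4 := by rw [← Nat.card_zpowers, hpX, hX4]
        have hi4 : ((4 : ℕ) : ℤ) ∣ i := by
          rw [← h4, orderOf_dvd_iff_zpow_eq_one, ← map_zpow]
          exact (QuotientGroup.eq_one_iff _).mpr (show pt ^ i ∈ F from (show pt ^ i = (z : G) from hi).symm ▸ hzF)
        obtain ⟨j, rfl⟩ := hi4
        show (w : G) * z ∈ W
        rw [← show pt ^ (((4 : ℕ) : ℤ) * j) = z from hi, zpow_mul, zpow_natCast, hpt, one_zpow, mul_one]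
        exact w.2
      · rw [MonoidHom.noncommCoprod_range, range_subtype, range_subtype]
        exact le_sup_left
    refine ⟨h.range, ⟨⟨?_⟩⟩, ?_, hinf, hmap⟩
    · rintro ⟨_, u, rfl⟩ ⟨_, v, rfl⟩
      refine Subtype.ext ?_
      show h u * h v = h v * h u
      rw [← map_mul, ← map_mul]
      congr 1
      exact Prod.ext (Subtype.ext (hFcomm _ (hWF u.1.2) _ (hWF v.1.2))) (mul_comm' _ _)
    · rw [← card_map_mk_mul F h.range, hmap, hinf, hX4]
  obtain ⟨AC, hACab, hACc, hACF, hACf⟩ := hA pC hpC4 C hpC hC4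
  obtain ⟨AD, hADab, hADc, hADF, hADf⟩ := hA pD hpD4 D hpD hD4
  obtain ⟨g, hg⟩ := hB AC AD hACab hADab (by rw [hACc, hADc])
  have hgW : W.map (MulAut.conj g).toMonoidHom = W := by
    conv_rhs => rw [← hADF, hg, inf_map_conj, hACF]
  have hgR : D ⊓ R = (C ⊓ R).map (MulAut.conj (f g)).toMonoidHom := by
    rw [← hADf, hg, ← hACf, map_map, map_map]
    congr 1
  have hgV : g ∈ normalizer (V : Set G) := by
    have hle : V ≤ V.comap (MulAut.conj g).toMonoidHom := le_of_prime_pow_mem fun q hq x hx hxk => by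
      rcases eq_or_ne x 1 with rfl | hx1
      · exact one_mem _
      obtain ⟨M, hMn, hMF, hMab, hMexp, hMS, hMne⟩ := exists_sylow_min hB hno hq.out
        (fitting_prime_pow (hV hx) hxk hx1)
      have hxM : x ∈ M := mem_of_sylow_eq hMS hxk
      by_cases hMV : M ≤ V
      · exact hMV (hMn.conj_mem x hxM g)
      · have hxW : x ∈ W := ⟨hx, mem_centralizer_iff.mpr fun a ha =>
          hclaim q M hMn hMF hMab hMexp hMne hMV x hx hxM hx1 a ha x hxM⟩
        exact (hgW ▸ mem_map_of_mem (MulAut.conj g).toMonoidHom hxW :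
          (MulAut.conj g).toMonoidHom x ∈ W).1
    refine mem_normalizer_iff_map_conj_eq.mpr ?_
    exact eq_of_le_of_card_ge (map_le_iff_le_comap.mpr hle)
      (card_map_of_injective (MulAut.conj g).injective).ge
  -- now move the odd parts
  set C' := C.map (MulAut.conj (f g)).toMonoidHom with hC'
  have hC'K : C' ≤ K := by
    rintro _ ⟨c, hc, rfl⟩
    exact mul_mem (mul_mem (mem_map_of_mem f hgV) (hC hc)) (inv_mem (mem_map_of_mem f hgV))
  have hC'R : C' ⊓ R = D ⊓ R := by rw [hC', inf_map_conj, ← hgR]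
  set N := K ⊓ normalizer ((D ⊓ R : Subgroup (G ⧸ F)) : Set (G ⧸ F))
  have hCN : C' ≤ N := by
    refine le_inf hC'K ?_
    rw [← hC'R]
    intro c hc
    refine mem_normalizer_iff.mpr fun y => ⟨fun hy => ⟨?_, hRn.conj_mem y hy.2 c⟩, fun hy => ⟨?_, ?_⟩⟩
    · exact C'.mul_mem (C'.mul_mem hc hy.1) (C'.inv_mem hc)
    · have := C'.mul_mem (C'.mul_mem (C'.inv_mem hc) hy.1) hc
      simpa [mul_assoc] using this
    · simpa [mul_assoc] using hRn.conj_mem _ hy.2 c⁻¹
  have hDN : D ≤ N := by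
    refine le_inf hD ?_
    intro c hc
    refine mem_normalizer_iff.mpr fun y => ⟨fun hy => ⟨?_, hRn.conj_mem y hy.2 c⟩, fun hy => ⟨?_, ?_⟩⟩
    · exact D.mul_mem (D.mul_mem hc hy.1) (D.inv_mem hc)
    · have := D.mul_mem (D.mul_mem (D.inv_mem hc) hy.1) hc
      simpa [mul_assoc] using this
    · simpa [mul_assoc] using hRn.conj_mem _ hy.2 c⁻¹
  have hodd : ∀ X : Subgroup (G ⧸ F), Nat.card ↥X = n → ∃ X₁ ≤ X, X₁ ⊔ (X ⊓ R) = X ∧
      Nat.card ↥X₁ * 4 = n := by
    intro X hX
    obtain ⟨X₁, hle, hsup, hc, -⟩ := exists_split (F := R) (hSR ▸ S.card_coprime_index) X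
    exact ⟨X₁, hle, hsup, by rw [hc, ← (hpart X hX).1, card_map_mk_mul, hX]⟩
  obtain ⟨C₁, hC₁, hCsup, hC₁c⟩ := hodd C' (card_map_of_injective (MulAut.conj (f g)).injective)
  obtain ⟨D₁, hD₁, hDsup, hD₁c⟩ := hodd D hcard.symm
  obtain ⟨k, hkN, hk⟩ := hconjK N C₁ D₁ (hC₁.trans hCN) (hD₁.trans hDN) (by omega)
    (huniq N _ (fun _ _ _ h => by
      have h4 : (4 : ℕ) = 2 ^ 2 := by norm_num
      have := congrArg (fun m => m.factorization 2) hC₁c
      rw [Nat.factorization_mul Nat.card_pos.ne' (by norm_num), Finsupp.add_apply, h4,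
        Nat.prime_two.factorization_pow, Finsupp.single_eq_same, hv2] at this
      omega) Nat.card_pos.ne')
  obtain ⟨l, hl, rfl⟩ := hkN.1
  refine ⟨l * g, mul_mem hl hgV, ?_⟩
  rw [← hDsup, hk]
  conv_lhs => rw [← mem_normalizer_iff_map_conj_eq.mp hkN.2]
  have hC'eq : C₁ ⊔ (D ⊓ R) = C' := by rw [← hC'R]; exact hCsup
  refine ((Subgroup.map_sup _ _ _).symm.trans ?_)
  rw [hC'eq, hC', map_map]
  congr 1
  ext x
  simp [mul_assoc]

theorem ConjAb.same_order_aux (n : ℕ) : ∀ {G : Type*} [Group G] [Finite G], Nat.card G = n →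
    Group.IsSolvable G → ConjAb G → ∀ A B : Subgroup G, Nat.card ↥A = Nat.card ↥B →
      ∃ g : G, B = A.map (MulAut.conj g).toMonoidHom := by
  induction n using Nat.strong_induction_on with
  | _ n ih =>
    intro G _ _ hn hsol hB A B hcard
    have := hsol
    rcases subsingleton_or_nontrivial G with hG | hG
    · exact ⟨1, Subsingleton.elim _ _⟩
    -- conjugate modulo a non-trivial normal subgroup
    have hmod : ∀ (N : Subgroup G) [N.Normal], N ≠ ⊥ →
        Nat.card ↥(A ⊓ N) = Nat.card ↥(B ⊓ N) →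
        ∃ g : G, A.map (MulAut.conj g).toMonoidHom ⊔ N = B ⊔ N := by
      intro N _ hN hinf
      have hlt : Nat.card (G ⧸ N) < n := by
        rw [← hn, ← Subgroup.index_eq_card, ← Subgroup.card_mul_index N]
        have h2 : 1 < Nat.card ↥N := by
          rw [Finite.one_lt_card_iff_nontrivial, Subgroup.nontrivial_iff_ne_bot]; exact hN
        exact lt_mul_left (Nat.pos_of_ne_zero index_ne_zero_of_finite) h2
      have hcard' : Nat.card ↥(A.map (QuotientGroup.mk' N)) =
          Nat.card ↥(B.map (QuotientGroup.mk' N)) := by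
        have h1 := card_map_mk_mul N A
        have h2 := card_map_mk_mul N B
        rw [hinf, hcard, ← h2] at h1
        exact Nat.eq_of_mul_eq_mul_right Nat.card_pos h1
      obtain ⟨gq, hg⟩ := ih _ hlt rfl inferInstance
        (ConjAb.quotient_of_solvable_aux _ rfl hsol hB N) _ _ hcard'
      obtain ⟨g, rfl⟩ := QuotientGroup.mk'_surjective N gq
      refine ⟨g, ?_⟩
      have h1 : (A.map (MulAut.conj g).toMonoidHom).map (QuotientGroup.mk' N) =
          B.map (QuotientGroup.mk' N) := by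
        rw [hg, map_map, map_map]
        congr 1
      have h2 := congrArg (Subgroup.comap (QuotientGroup.mk' N)) h1
      rwa [comap_map_eq, comap_map_eq, QuotientGroup.ker_mk'] at h2
    by_cases hno : NoPrimeNormal G
    swap
    · simp only [NoPrimeNormal, not_forall, not_not] at hno
      obtain ⟨Z, hZn, hZp⟩ := hno
      set p := Nat.card ↥Z with hp
      have := Fact.mk hZp
      obtain ⟨z, hz⟩ := exists_prime_orderOf_dvd_card' (G := ↥Z) p (dvd_refl _)
      have hZle : ∀ X : Subgroup G, p ∣ Nat.card ↥X → Z ≤ X := by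
        intro X hX
        obtain ⟨x, hx⟩ := exists_prime_orderOf_dvd_card' (G := ↥X) p hX
        have hxZ : (x : G) ∈ Z :=
          hB.mem_of_orderOf z.2 (by rw [Subgroup.orderOf_coe, Subgroup.orderOf_coe, hz, hx])
        have : zpowers (x : G) = Z := eq_of_le_of_card_ge (zpowers_le.mpr hxZ)
          (by rw [Nat.card_zpowers, Subgroup.orderOf_coe, hx])
        exact this ▸ zpowers_le.mpr x.2
      have hZne : Z ≠ ⊥ := fun h => hZp.ne_one (by rw [hp, h, card_bot])
      by_cases hpA : p ∣ Nat.card ↥A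
      · obtain ⟨g, hg⟩ := hmod Z hZne
          (by rw [inf_eq_right.mpr (hZle A hpA), inf_eq_right.mpr (hZle B (hcard ▸ hpA))])
        refine ⟨g, ?_⟩
        rw [sup_eq_left.mpr (hZle B (hcard ▸ hpA)), sup_eq_left.mpr (hZle _
          (by rw [card_map_of_injective (MulAut.conj g).injective]; exact hpA))] at hg
        exact hg.symm
      · have hinf : ∀ X : Subgroup G, ¬ p ∣ Nat.card ↥X → Nat.card ↥(X ⊓ Z) = 1 := by
          intro X hX
          rcases (Nat.dvd_prime hZp).mp (card_dvd_of_le (inf_le_right (a := X) (b := Z))) with h | h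
          · exact h
          · exact absurd (h ▸ card_dvd_of_le inf_le_left) hX
        obtain ⟨g, hg⟩ := hmod Z hZne (by rw [hinf A hpA, hinf B (hcard ▸ hpA)])
        have hab : IsMulCommutative ↥Z := by
          have hc : IsCyclic ↥Z := isCyclic_of_prime_card rfl
          exact ⟨⟨fun a b => hc.commGroup.mul_comm a b⟩⟩
        obtain ⟨x, -, hx⟩ := Coprime.exists_conj_of_le_sup_comm (N := Z)
          (H₁ := A.map (MulAut.conj g).toMonoidHom) (H₂ := B)
          (fun _ _ => normalizer_eq_top_iff.mpr hZn ▸ mem_top _)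
          (le_sup_left.trans (hg.symm.trans (sup_comm _ _)).le)
          (by rw [card_map_of_injective (MulAut.conj g).injective, hcard])
          (by rw [card_map_of_injective (MulAut.conj g).injective]
              exact (hZp.coprime_iff_not_dvd.mpr hpA).symm)
        refine ⟨x * g, ?_⟩
        rw [hx, map_map]
        congr 1
        ext y
        simp [mul_assoc]
    set F := Cfsg.fittingSubgroup G
    set f := QuotientGroup.mk' F
    have hcop := fitting_coprime hB hno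
    have hFab := fitting_comm hB hno
    obtain ⟨g, hg⟩ := hmod F Cores.fittingSubgroup_ne_bot
      (by rw [card_inf_eq_gcd hcop, card_inf_eq_gcd hcop, hcard])
    set A₁ := A.map (MulAut.conj g).toMonoidHom with hA₁
    have hcard₁ : Nat.card ↥A₁ = Nat.card ↥B := by
      rw [hA₁, card_map_of_injective (MulAut.conj g).injective, hcard]
    have habF : ∀ X : Subgroup G, IsMulCommutative ↥(X ⊓ F) := fun X => ⟨⟨fun a b => Subtype.ext
      (congrArg (fun t : ↥F => (t : G)) (hFab.is_comm.comm (⟨a, a.2.2⟩ : ↥F) ⟨b, b.2.2⟩))⟩⟩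
    obtain ⟨g₀, hg₀⟩ := hB (A₁ ⊓ F) (B ⊓ F) (habF _) (habF _)
      (by rw [card_inf_eq_gcd hcop, card_inf_eq_gcd hcop, hcard₁])
    set A₂ := A₁.map (MulAut.conj g₀).toMonoidHom with hA₂
    have hA₂F : A₂ ⊓ F = B ⊓ F := by rw [hA₂, inf_map_conj, ← hg₀]
    have hnorm : ∀ X : Subgroup G, X ≤ normalizer ((X ⊓ F : Subgroup G) : Set G) := by
      intro X c hc
      refine mem_normalizer_iff.mpr fun y => ⟨fun hy => ⟨X.mul_mem (X.mul_mem hc hy.1) (X.inv_mem hc),
        (inferInstance : F.Normal).conj_mem y hy.2 c⟩, fun hy => ⟨?_, ?_⟩⟩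
      · have := X.mul_mem (X.mul_mem (X.inv_mem hc) hy.1) hc
        simpa [mul_assoc] using this
      · simpa [mul_assoc] using (inferInstance : F.Normal).conj_mem _ hy.2 c⁻¹
    have hcard₂ : Nat.card ↥(A₂.map f) = Nat.card ↥(B.map f) := by
      have h1 := card_map_mk_mul F A₂
      have h2 := card_map_mk_mul F B
      have hc2 : Nat.card ↥A₂ = Nat.card ↥B := by
        rw [hA₂, card_map_of_injective (MulAut.conj g₀).injective, hcard₁]
      rw [hA₂F, hc2, ← h2] at h1
      exact Nat.eq_of_mul_eq_mul_right Nat.card_pos h1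
    obtain ⟨k, hk, hkB⟩ := hB.conj_in_normalizer hno (V := B ⊓ F) inf_le_right (A₂.map f) (B.map f)
      (map_mono (hA₂F ▸ hnorm A₂)) (map_mono (hnorm B)) hcard₂
    set A₃ := A₂.map (MulAut.conj k).toMonoidHom with hA₃
    have hA₃F : A₃ ⊓ F = B ⊓ F := by
      rw [hA₃, inf_map_conj, hA₂F]
      exact mem_normalizer_iff_map_conj_eq.mp hk
    have hA₃f : A₃.map f = B.map f := by
      rw [hkB, hA₃, map_conj_map]
    obtain ⟨C₁, hC₁le, hC₁sup, hC₁c, hC₁cop⟩ := exists_split hcop A₃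
    obtain ⟨C₂, hC₂le, hC₂sup, hC₂c, -⟩ := exists_split hcop B
    have hle : C₂ ≤ F ⊔ C₁ := by
      have h2 := congrArg (Subgroup.comap f) hA₃f
      rw [comap_map_eq, comap_map_eq, QuotientGroup.ker_mk', ← hC₁sup] at h2
      refine hC₂le.trans ((le_sup_left (b := F)).trans (h2.symm.le.trans ?_))
      exact sup_le (sup_le le_sup_right (inf_le_right.trans le_sup_left)) le_sup_left
    obtain ⟨x, hxF, hx⟩ := Coprime.exists_conj_of_le_sup_comm (N := F) (H₁ := C₁) (H₂ := C₂)
      (fun _ _ => normalizer_eq_top_iff.mpr (inferInstance : F.Normal) ▸ mem_top _) hle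
      (by rw [hC₂c, hC₁c, hA₃f]) hC₁cop
    refine ⟨x * k * g₀ * g, ?_⟩
    have hfix : (B ⊓ F).map (MulAut.conj x).toMonoidHom = B ⊓ F := by
      ext y
      constructor
      · rintro ⟨u, hu, rfl⟩
        show x * u * x⁻¹ ∈ B ⊓ F
        rw [show x * u = u * x from congrArg Subtype.val
          (hFab.is_comm.comm (⟨x, hxF⟩ : ↥F) ⟨u, hu.2⟩), mul_inv_cancel_right]
        exact hu
      · intro hy
        refine ⟨y, hy, ?_⟩
        show x * y * x⁻¹ = y
        rw [show x * y = y * x from congrArg Subtype.val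
          (hFab.is_comm.comm (⟨x, hxF⟩ : ↥F) ⟨y, hy.2⟩), mul_inv_cancel_right]
    calc B = C₂ ⊔ (B ⊓ F) := hC₂sup.symm
      _ = (C₁ ⊔ (A₃ ⊓ F)).map (MulAut.conj x).toMonoidHom := by
          rw [Subgroup.map_sup, hA₃F, hfix, hx]
      _ = A₃.map (MulAut.conj x).toMonoidHom := by rw [hC₁sup]
      _ = _ := by
          rw [hA₃, hA₂, hA₁, map_map, map_map, map_map]
          congr 1
          ext y
          simp [mul_assoc]

end Cfsg.Agent.H73
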