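import Cfsg.Agent.Hall.MinimalNormal
import Cfsg.Agent.Coprime.SchurZassenhaus

/-!
# Conjugacy of subgroups of equal order when the Sylow subgroups have only one subgroup of that order
-/

set_option autoImplicit false

namespace Cfsg.Agent.H73

open Subgroup

/-- inside any `p`-subgroup there is at most one subgroup whose order is the `p`-part of `n` -/
def UniqueAt (K : Type*) [Group K] (n : ℕ) : Prop :=
  ∀ (p : ℕ), p.Prime → ∀ R P₁ P₂ : Subgroup K, IsPGroup p ↥R → P₁ ≤ R → P₂ ≤ R →
    Nat.card ↥P₁ = p ^ n.factorization p → Nat.card ↥P₂ = p ^ n.factorization p → P₁ = P₂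

theorem conj_of_uniqueAt_aux (m : ℕ) : ∀ {K : Type*} [Group K] [Finite K], Nat.card K = m →
    Group.IsSolvable K → ∀ C D : Subgroup K, Nat.card ↥C = Nat.card ↥D →
      UniqueAt K (Nat.card ↥C) → ∃ k : K, D = C.map (MulAut.conj k).toMonoidHom := by
  induction m using Nat.strong_induction_on with
  | _ m ih =>
    intro K _ _ hm hsol C D hcard huniq
    have := hsol
    rcases subsingleton_or_nontrivial K with hK | hK
    · exact ⟨1, Subsingleton.elim _ _⟩
    obtain ⟨N, hNn, hN, -, hNmin⟩ := Hall.exists_minimal_normal_le (⊤ : Subgroup K) top_ne_bot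
    obtain ⟨hNab, p, hp, hNp, hNe⟩ := Hall.minimal_normal_of_solvable hN hNmin
    have := Fact.mk hp
    obtain ⟨a, ha⟩ := IsPGroup.iff_card.mp hNp
    have ha0 : a ≠ 0 := by
      rintro rfl
      exact hN (Subgroup.card_eq_one.mp (by rw [ha, pow_zero]))
    set f := QuotientGroup.mk' N
    have hmapcard : ∀ X : Subgroup K, Nat.card ↥(X.map f) * Nat.card ↥(X ⊓ N) = Nat.card ↥X := by
      intro X
      have h := Subgroup.card_mul_index (f.comp X.subtype).ker
      rw [Subgroup.index_ker, MonoidHom.range_comp, range_subtype] at h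
      rw [← h, mul_comm]
      congr 1
      rw [← card_map_of_injective (f := X.subtype) X.subtype_injective]
      congr 2
      ext x
      constructor
      · rintro ⟨hxX, hxN⟩
        exact ⟨⟨x, hxX⟩, (QuotientGroup.eq_one_iff x).mpr hxN, rfl⟩
      · rintro ⟨u, hu, rfl⟩
        exact ⟨u.2, (QuotientGroup.eq_one_iff _).mp hu⟩
    have hlift : ∀ (r : ℕ), r.Prime → r ≠ p → ∀ (R : Subgroup (K ⧸ N)), IsPGroup r ↥R →
        ∃ R₀ : Subgroup K, IsPGroup r ↥R₀ ∧ ∀ X ≤ R,
          Nat.card ↥(R₀ ⊓ X.comap f) = Nat.card ↥X ∧ (R₀ ⊓ X.comap f).map f = X := by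
      intro r hr hrp R hR
      have := Fact.mk hr
      obtain ⟨S⟩ : Nonempty (Sylow r ↥(R.comap f)) := inferInstance
      set R₀ := (S : Subgroup ↥(R.comap f)).map (R.comap f).subtype
      have hR₀ : IsPGroup r ↥R₀ := S.isPGroup'.map _
      have hdisj : R₀ ⊓ N = ⊥ := disjoint_iff.mp (IsPGroup.disjoint_of_ne r p hrp _ _ hR₀ hNp)
      have hR₀map : R₀.map f = R := by
        refine eq_of_le_of_card_ge ((map_mono (map_subtype_le _)).trans (map_comap_le f R)) ?_
        obtain ⟨b, hb⟩ := IsPGroup.iff_card.mp hR
        have h1 : Nat.card ↥(R.comap f) = Nat.card ↥R * p ^ a := by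
          have h := hmapcard (R.comap f)
          rw [map_comap_eq_self_of_surjective (QuotientGroup.mk'_surjective N),
            inf_eq_right.mpr (show N ≤ R.comap f from fun x hx => by
              rw [mem_comap, show f x = 1 from (QuotientGroup.eq_one_iff x).mpr hx]
              exact one_mem R), ha] at h
          exact h.symm
        have h2 : (Nat.card ↥(R.comap f)).factorization r = b := by
          rw [h1, hb, Nat.factorization_mul (pow_pos hr.pos b).ne' (pow_pos hp.pos a).ne',
            Finsupp.add_apply, hr.factorization_pow, hp.factorization_pow,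
            Finsupp.single_eq_same, Finsupp.single_eq_of_ne hrp, add_zero]
        have h3 := hmapcard R₀
        rw [hdisj, card_bot, mul_one] at h3
        rw [h3, hb, card_map_of_injective (R.comap f).subtype_injective, S.card_eq_multiplicity, h2]
      refine ⟨R₀, hR₀, fun X hX => ?_⟩
      have hmap : (R₀ ⊓ X.comap f).map f = X := by
        refine le_antisymm ((map_mono inf_le_right).trans (map_comap_le f X)) fun x hx => ?_
        obtain ⟨u, hu, rfl⟩ : x ∈ R₀.map f := hR₀map.symm ▸ hX hx
        exact ⟨u, ⟨hu, hx⟩, rfl⟩
      refine ⟨?_, hmap⟩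
      have h := hmapcard (R₀ ⊓ X.comap f)
      rw [hmap, show R₀ ⊓ X.comap f ⊓ N = ⊥ by
        rw [eq_bot_iff, ← hdisj]; exact inf_le_inf_right N inf_le_left, card_bot, mul_one] at h
      exact h.symm
    set n := Nat.card ↥C with hn
    have hn0 : n ≠ 0 := Nat.card_pos.ne'
    -- if `p ∣ n` then `N` is contained in both subgroups
    have hNle : p ∣ n → ∀ X : Subgroup K, Nat.card ↥X = n → N ≤ X := by
      intro hpn X hX
      have hv : 1 ≤ n.factorization p := (hp.dvd_iff_one_le_factorization hn0).mp hpn
      have hav : a ≤ n.factorization p := by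
        by_contra hlt
        obtain ⟨P₁, hP₁⟩ := Sylow.exists_subgroup_card_pow_prime (G := ↥N) p
          (ha ▸ pow_dvd_pow p (by omega : n.factorization p ≤ a))
        obtain ⟨x, -, hx⟩ := SetLike.exists_of_lt (lt_top_iff_ne_top.mpr (fun h : P₁ = ⊤ => by
          rw [h, card_top, ha] at hP₁
          exact hlt (Nat.pow_right_injective hp.two_le hP₁).le))
        obtain ⟨Y, hY, hYle⟩ := Sylow.exists_subgroup_card_pow_prime_le (G := ↥N) p (m := n.factorization p)
          (ha ▸ pow_dvd_pow p (by omega : n.factorization p ≤ a)) (zpowers x) (n := 1) (by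
            rw [Nat.card_zpowers, pow_one]
            refine orderOf_eq_prime ?_ fun h => hx (h ▸ one_mem _)
            exact Subtype.ext (hNe x x.2)) hv
        have := huniq p hp N (P₁.map N.subtype) (Y.map N.subtype) hNp (map_subtype_le _)
          (map_subtype_le _) (by rw [card_map_of_injective N.subtype_injective, hP₁])
          (by rw [card_map_of_injective N.subtype_injective, hY])
        exact hx (Subgroup.map_injective N.subtype_injective this ▸ hYle (mem_zpowers x))
      obtain ⟨P, hP⟩ := Sylow.exists_subgroup_card_pow_prime (G := ↥X) p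
        (Nat.ordProj_dvd (Nat.card ↥X) p)
      rw [hX] at hP
      have hPp : IsPGroup p ↥(P.map X.subtype) :=
        IsPGroup.of_card (n := n.factorization p)
          (by rw [card_map_of_injective X.subtype_injective, hP])
      obtain ⟨S, hS⟩ := hPp.exists_le_sylow
      have hNS : N ≤ (S : Subgroup K) := IsPGroup.le_sylow_of_normal hNp S
      obtain ⟨Y, hY, hYle⟩ := Sylow.exists_subgroup_card_pow_prime_le (G := ↥(S : Subgroup K)) p
        (m := n.factorization p) (by
          rw [← hP, ← card_map_of_injective (f := X.subtype) X.subtype_injective]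
          exact card_dvd_of_le hS) (N.subgroupOf (S : Subgroup K)) (n := a)
        (by rw [Nat.card_congr (subgroupOfEquivOfLe hNS).toEquiv, ha]) hav
      have := huniq p hp S (P.map X.subtype) (Y.map (S : Subgroup K).subtype) S.isPGroup' hS
        (map_subtype_le _) (by rw [card_map_of_injective X.subtype_injective, hP])
        (by rw [card_map_of_injective (S : Subgroup K).subtype_injective, hY])
      intro x hx
      exact map_subtype_le P (this.symm ▸ mem_map_of_mem _ (hYle (show (⟨x, hNS hx⟩ : ↥(S : Subgroup K)) ∈ _ from hx)))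
    have hinf : ∀ X : Subgroup K, Nat.card ↥X = n →
        Nat.card ↥(X ⊓ N) = if p ∣ n then p ^ a else 1 := by
      intro X hX
      split_ifs with hpn
      · rw [inf_eq_right.mpr (hNle hpn X hX), ha]
      · rw [Subgroup.card_eq_one]
        exact disjoint_iff.mp <| Subgroup.disjoint_of_coprime_natCard
          (ha ▸ hX ▸ ((hp.coprime_iff_not_dvd.mpr hpn).symm.pow_right a))
    set n' := Nat.card ↥(C.map f) with hn'
    have hn'0 : n' ≠ 0 := Nat.card_pos.ne'
    have hnn' : n' * (if p ∣ n then p ^ a else 1) = n := hinf C rfl ▸ hmapcard C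
    have hcard' : n' = Nat.card ↥(D.map f) := by
      have h1 := hmapcard D
      rw [hinf D hcard.symm, ← hcard] at h1
      exact Nat.eq_of_mul_eq_mul_right (by split_ifs <;> [exact pow_pos hp.pos a; exact one_pos])
        (hnn'.trans h1.symm)
    have hlt : Nat.card (K ⧸ N) < m := by
      rw [← hm, ← Subgroup.index_eq_card, ← Subgroup.card_mul_index N, ha]
      exact lt_mul_left (Nat.pos_of_ne_zero index_ne_zero_of_finite) (Nat.one_lt_pow ha0 hp.one_lt)
    have huniq' : UniqueAt (K ⧸ N) n' := by
      intro r hr R P₁ P₂ hR h₁ h₂ c₁ c₂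
      by_cases hrp : r = p
      · subst r
        by_cases hpn : p ∣ n
        · rw [if_pos hpn] at hnn'
          have hv : n.factorization p = n'.factorization p + a := by
            rw [← hnn', Nat.factorization_mul hn'0 (pow_pos hp.pos a).ne', Finsupp.add_apply,
              hp.factorization_pow, Finsupp.single_eq_same]
          have hcomap : ∀ X : Subgroup (K ⧸ N),
              Nat.card ↥(X.comap f) = Nat.card ↥X * p ^ a := by
            intro X
            have h := hmapcard (X.comap f)
            rw [map_comap_eq_self_of_surjective (QuotientGroup.mk'_surjective N),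
              inf_eq_right.mpr (show N ≤ X.comap f from fun x hx => by
                rw [mem_comap, show f x = 1 from (QuotientGroup.eq_one_iff x).mpr hx]
                exact one_mem X), ha] at h
            exact h.symm
          have hRp : IsPGroup p ↥(R.comap f) := by
            obtain ⟨b, hb⟩ := IsPGroup.iff_card.mp hR
            exact IsPGroup.of_card (n := b + a) (by rw [hcomap, hb, pow_add])
          have := huniq p hp _ (P₁.comap f) (P₂.comap f) hRp (comap_mono h₁) (comap_mono h₂)
            (by rw [hcomap, c₁, hv, pow_add]) (by rw [hcomap, c₂, hv, pow_add])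
          exact comap_injective (QuotientGroup.mk'_surjective N) this
        · rw [if_neg hpn, mul_one] at hnn'
          rw [hnn', Nat.factorization_eq_zero_of_not_dvd hpn, pow_zero] at c₁ c₂
          rw [Subgroup.card_eq_one.mp c₁, Subgroup.card_eq_one.mp c₂]
      · obtain ⟨R₀, hR₀, hX⟩ := hlift r hr hrp R hR
        have hv : n.factorization r = n'.factorization r := by
          rw [← hnn']
          split_ifs with hpn
          · rw [Nat.factorization_mul hn'0 (pow_pos hp.pos a).ne', Finsupp.add_apply,
              hp.factorization_pow, Finsupp.single_eq_of_ne hrp, add_zero]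
          · rw [mul_one]
        have := huniq r hr R₀ _ _ hR₀ inf_le_left inf_le_left
          (by rw [(hX P₁ h₁).1, c₁, hv]) (by rw [(hX P₂ h₂).1, c₂, hv])
        rw [← (hX P₁ h₁).2, ← (hX P₂ h₂).2, this]
    obtain ⟨kq, hk⟩ := ih _ hlt rfl inferInstance (C.map f) (D.map f) hcard' huniq'
    obtain ⟨k, rfl⟩ := QuotientGroup.mk'_surjective N kq
    have hsup : D ⊔ N = C.map (MulAut.conj k).toMonoidHom ⊔ N := by
      have h1 : (C.map (MulAut.conj k).toMonoidHom).map f = D.map f := by
        rw [hk, map_map, map_map]
        congr 1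
      have h2 := congrArg (Subgroup.comap f) h1
      rw [comap_map_eq, comap_map_eq, QuotientGroup.ker_mk'] at h2
      exact h2.symm
    by_cases hpn : p ∣ n
    · refine ⟨k, ?_⟩
      rw [sup_eq_left.mpr (hNle hpn D hcard.symm), sup_eq_left.mpr (hNle hpn _
        (card_map_of_injective (MulAut.conj k).injective))] at hsup
      exact hsup
    · obtain ⟨x, -, hx⟩ := Coprime.exists_conj_of_le_sup_comm (N := N)
        (H₁ := C.map (MulAut.conj k).toMonoidHom) (H₂ := D)
        (fun _ _ => normalizer_eq_top_iff.mpr hNn ▸ mem_top _)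
        ((le_sup_left).trans (hsup.trans (sup_comm _ _)).le)
        (by rw [card_map_of_injective (MulAut.conj k).injective]; exact hcard.symm)
        (by rw [card_map_of_injective (MulAut.conj k).injective, ha]
            exact (hp.coprime_iff_not_dvd.mpr hpn).symm.pow_right a)
      refine ⟨x * k, ?_⟩
      rw [hx, map_map]
      congr 1
      ext y
      simp [mul_assoc]

theorem conj_of_uniqueAt {K : Type*} [Group K] [Finite K] [Group.IsSolvable K] (C D : Subgroup K)
    (hcard : Nat.card ↥C = Nat.card ↥D) (h : UniqueAt K (Nat.card ↥C)) :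
    ∃ k : K, D = C.map (MulAut.conj k).toMonoidHom :=
  conj_of_uniqueAt_aux _ rfl inferInstance C D hcard h

end Cfsg.Agent.H73
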