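import Cfsg.Agent.H73.ConjAbelianStructure
import Cfsg.Agent.H73.SylowUnique
import Cfsg.Agent.Frobenius.NoFrobenius

/-!
# The Fitting subgroup of a solvable group with conjugate abelian subgroups and no normal subgroup of
prime order
-/

set_option autoImplicit false

namespace Cfsg.Agent.H73

open Subgroup

variable {G : Type*} [Group G] [Finite G]

/-- no normal subgroup of prime order -/
def NoPrimeNormal (G : Type*) [Group G] : Prop :=
  ∀ Z : Subgroup G, Z.Normal → ¬ (Nat.card ↥Z).Prime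

omit [Finite G] in
theorem card_map_mk_mul (N X : Subgroup G) [N.Normal] :
    Nat.card ↥(X.map (QuotientGroup.mk' N)) * Nat.card ↥(X ⊓ N) = Nat.card ↥X := by
  have h := Subgroup.card_mul_index ((QuotientGroup.mk' N).comp X.subtype).ker
  rw [Subgroup.index_ker, MonoidHom.range_comp, range_subtype] at h
  rw [← h, mul_comm]
  congr 1
  rw [← card_map_of_injective (f := X.subtype) X.subtype_injective]
  congr 2
  ext x
  constructor
  · rintro ⟨hxX, hxN⟩
    exact ⟨⟨x, hxX⟩, (QuotientGroup.eq_one_iff x).mpr hxN, rfl⟩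
  · rintro ⟨u, hu, rfl⟩
    exact ⟨u.2, (QuotientGroup.eq_one_iff _).mp hu⟩

/-- for a prime dividing `|F(G)|` the Sylow subgroup is a minimal normal elementary subgroup -/
theorem exists_sylow_min [Group.IsSolvable G] (hB : ConjAb G) (hno : NoPrimeNormal G) {q : ℕ}
    (hq : q.Prime) (hdvd : q ∣ Nat.card ↥(Cfsg.fittingSubgroup G)) :
    ∃ M : Subgroup G, M.Normal ∧ M ≤ Cfsg.fittingSubgroup G ∧ IsMulCommutative ↥M ∧
      (∀ x ∈ M, x ^ q = 1) ∧ (∀ S : Sylow q G, (S : Subgroup G) = M) ∧ M ≠ ⊥ := by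
  have := Fact.mk hq
  have hO : Cfsg.pCore q G ≠ ⊥ := by
    intro h
    have hle : Cfsg.fittingSubgroup G ≤ Cfsg.pPrimeCore q G := by
      rw [Cores.iSup_pCore_eq_fittingSubgroup]
      refine (Cores.iSup_pCore_le_sup q).trans ?_
      rw [h, sup_bot_eq]
    exact Cores.not_dvd_card_pPrimeCore (hdvd.trans (card_dvd_of_le hle))
  obtain ⟨M, hMn, hM, hMO, hMmin⟩ := Hall.exists_minimal_normal_le _ hO
  obtain ⟨hab, p, hp, -, hexp⟩ := Hall.minimal_normal_of_solvable hM hMmin
  have hMq : IsPGroup q ↥M := (Cores.pCore_isPGroup (p := q) (G := G)).to_le hMO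
  obtain ⟨n, hn⟩ := IsPGroup.iff_card.mp hMq
  have hn2 : 2 ≤ n := by
    rcases n with _ | _ | n
    · exact absurd (Subgroup.card_eq_one.mp (by rw [hn, pow_zero])) hM
    · exact absurd (show (Nat.card ↥M).Prime by rw [hn, pow_one]; exact hq) (hno M hMn)
    · omega
  have hexp' : ∀ x ∈ M, x ^ q = 1 := by
    intro x hx
    rcases eq_or_ne x 1 with rfl | hx1
    · exact one_pow q
    have h1 := orderOf_dvd_iff_pow_eq_one.mpr (hexp x hx)
    obtain ⟨k, hk⟩ := IsPGroup.iff_orderOf.mp hMq ⟨x, hx⟩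
    rw [Subgroup.orderOf_mk] at hk
    rcases k with _ | k
    · exact absurd (orderOf_eq_one_iff.mp (by rw [hk, pow_zero])) hx1
    · have hqp : q = p := (Nat.prime_dvd_prime_iff_eq hq hp).mp
        ((dvd_pow_self q k.succ_ne_zero).trans (hk ▸ h1))
      exact hqp ▸ hexp x hx
  exact ⟨M, hMn, hMO.trans (Cores.pCore_le_fittingSubgroup hq), hab, hexp',
    fun S => (S3909.result hB M).2 q n hn2 hn ⟨hab, hexp'⟩ S, hM⟩

omit [Finite G] in
theorem mem_of_sylow_eq {q : ℕ} [Fact q.Prime] {M : Subgroup G}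
    (hM : ∀ S : Sylow q G, (S : Subgroup G) = M) {x : G} (hx : ∃ k, orderOf x = q ^ k) : x ∈ M := by
  obtain ⟨k, hk⟩ := hx
  obtain ⟨S, hS⟩ := (IsPGroup.of_card (G := ↥(zpowers x)) (p := q) (n := k)
    (by rw [Nat.card_zpowers, hk])).exists_le_sylow
  exact hM S ▸ hS (mem_zpowers x)

theorem fitting_coprime [Group.IsSolvable G] (hB : ConjAb G) (hno : NoPrimeNormal G) :
    (Nat.card ↥(Cfsg.fittingSubgroup G)).Coprime (Cfsg.fittingSubgroup G).index := by
  refine Nat.coprime_of_dvd fun q hq h1 h2 => ?_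
  have := Fact.mk hq
  obtain ⟨M, -, hMF, -, -, hS, -⟩ := exists_sylow_min hB hno hq h1
  obtain ⟨S⟩ : Nonempty (Sylow q G) := inferInstance
  exact S.not_dvd_index (h2.trans (index_dvd_of_le ((hS S).trans_le hMF)))

/-- a subgroup containing, for each prime, all `q`-elements of `A` contains `A` -/
theorem le_of_prime_pow_mem {A K : Subgroup G}
    (h : ∀ (q : ℕ) [Fact q.Prime], ∀ x ∈ A, (∃ k, orderOf x = q ^ k) → x ∈ K) : A ≤ K := by
  have : K.subgroupOf A = ⊤ := Components.eq_top_of_forall_sylow _ fun q _ => by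
    obtain ⟨S⟩ : Nonempty (Sylow q ↥A) := inferInstance
    refine ⟨S, fun x hx => h q x x.2 ?_⟩
    obtain ⟨k, hk⟩ := IsPGroup.iff_orderOf.mp S.isPGroup' ⟨x, hx⟩
    rw [Subgroup.orderOf_mk] at hk
    exact ⟨k, by rw [Subgroup.orderOf_coe, hk]⟩
  exact subgroupOf_eq_top.mp this

omit [Finite G] in
theorem fitting_prime_pow {q : ℕ}
    [Fact q.Prime] {x : G} (hx : x ∈ Cfsg.fittingSubgroup G) (hk : ∃ k, orderOf x = q ^ k)
    (hx1 : x ≠ 1) : q ∣ Nat.card ↥(Cfsg.fittingSubgroup G) := by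
  obtain ⟨k, hk⟩ := hk
  have hk0 : k ≠ 0 := by
    rintro rfl
    exact hx1 (orderOf_eq_one_iff.mp (by rw [hk, pow_zero]))
  exact ((dvd_pow_self q hk0).trans hk.symm.dvd).trans (Subgroup.orderOf_dvd_natCard _ hx)

theorem fitting_comm [Group.IsSolvable G] (hB : ConjAb G) (hno : NoPrimeNormal G) :
    IsMulCommutative ↥(Cfsg.fittingSubgroup G) := by
  have key : ∀ x ∈ Cfsg.fittingSubgroup G, ∀ y ∈ Cfsg.fittingSubgroup G, x * y = y * x := by
    intro x hx y hy
    have h2 : Cfsg.fittingSubgroup G ≤ centralizer ({x} : Set G) := le_of_prime_pow_mem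
      fun q _ y hy hyk => by
        rw [mem_centralizer_singleton_iff]
        have h1 : Cfsg.fittingSubgroup G ≤ centralizer ({y} : Set G) := le_of_prime_pow_mem
          fun r _ z hz hzk => by
            rw [mem_centralizer_singleton_iff]
            rcases eq_or_ne y 1 with rfl | hy1
            · simp
            rcases eq_or_ne z 1 with rfl | hz1
            · simp
            obtain ⟨M, hMn, -, hMab, -, hMS, -⟩ := exists_sylow_min hB hno (Fact.out : q.Prime)
              (fitting_prime_pow hy hyk hy1)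
            obtain ⟨N, hNn, -, -, -, hNS, -⟩ := exists_sylow_min hB hno (Fact.out : r.Prime)
              (fitting_prime_pow hz hzk hz1)
            have hyM := mem_of_sylow_eq hMS hyk
            have hzN := mem_of_sylow_eq hNS hzk
            rcases eq_or_ne q r with rfl | hqr
            · exact congrArg Subtype.val (hMab.is_comm.comm (⟨z, mem_of_sylow_eq hMS hzk⟩ : ↥M) ⟨y, hyM⟩)
            · obtain ⟨S⟩ : Nonempty (Sylow q G) := inferInstance
              obtain ⟨T⟩ : Nonempty (Sylow r G) := inferInstance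
              exact (Subgroup.commute_of_normal_of_disjoint M N hMn hNn
                (hMS S ▸ hNS T ▸ IsPGroup.disjoint_of_ne q r hqr _ _ S.isPGroup' T.isPGroup')
                y z hyM hzN).symm
        exact (mem_centralizer_singleton_iff.mp (h1 hx)).symm
    exact (mem_centralizer_singleton_iff.mp (h2 hy)).symm
  exact ⟨⟨fun a b => Subtype.ext (key a a.2 b b.2)⟩⟩

theorem mem_fitting_of_centralizes [Group.IsSolvable G]
    {c : G} (h : ∀ (q : ℕ) [Fact q.Prime], ∀ x ∈ Cfsg.fittingSubgroup G, (∃ k, orderOf x = q ^ k) →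
      x * c = c * x) : c ∈ Cfsg.fittingSubgroup G := by
  refine Cores.centralizer_fittingSubgroup_le ?_
  rw [mem_centralizer_iff]
  intro x hx
  have hle : Cfsg.fittingSubgroup G ≤ centralizer ({c} : Set G) := le_of_prime_pow_mem
    fun q _ y hy hyk => mem_centralizer_singleton_iff.mpr (h q y hy hyk)
  exact mem_centralizer_singleton_iff.mp (hle hx)

/-- minimal normal subgroups of `G ⧸ F(G)` have prime order -/
theorem minPrime_quotient [Group.IsSolvable G] (hB : ConjAb G) (hno : NoPrimeNormal G) :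
    MinPrime (G ⧸ Cfsg.fittingSubgroup G) := by
  classical
  intro R hRn hR hRmin
  set F := Cfsg.fittingSubgroup G with hF
  set f := QuotientGroup.mk' F
  obtain ⟨hRab, r, hr, hRr, hRexp⟩ := Hall.minimal_normal_of_solvable hR hRmin
  have := Fact.mk hr
  obtain ⟨n, hn⟩ := IsPGroup.iff_card.mp hRr
  rcases n with _ | _ | n
  · exact absurd (Subgroup.card_eq_one.mp (by rw [hn, pow_zero])) hR
  · rw [hn, pow_one]; exact hr
  exfalso
  have hrF : ¬ r ∣ Nat.card ↥F := fun h => hr.not_dvd_one <| by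
    rw [← (fitting_coprime hB hno).gcd_eq_one, Subgroup.index_eq_card]
    exact Nat.dvd_gcd h (((dvd_pow_self r (Nat.succ_ne_zero _)).trans hn.symm.dvd).trans
      (card_subgroup_dvd_card R))
  set Pre := R.comap f
  obtain ⟨S⟩ : Nonempty (Sylow r ↥Pre) := inferInstance
  set Rt := (S : Subgroup ↥Pre).map Pre.subtype
  have hRtp : IsPGroup r ↥Rt := S.isPGroup'.map _
  have hRtF : ∀ c ∈ Rt, f c = 1 → c = 1 := by
    intro c hc h1
    obtain ⟨k, hk⟩ := IsPGroup.iff_orderOf.mp hRtp ⟨c, hc⟩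
    rw [Subgroup.orderOf_mk] at hk
    rcases k with _ | k
    · exact orderOf_eq_one_iff.mp (by rw [hk, pow_zero])
    · exact absurd (((dvd_pow_self r k.succ_ne_zero).trans hk.symm.dvd).trans
        (Subgroup.orderOf_dvd_natCard F ((QuotientGroup.eq_one_iff c).mp h1))) hrF
  have hRtR : Rt.map f ≤ R := (map_mono (map_subtype_le _)).trans (map_comap_le f R)
  have hRtab : ∀ c ∈ Rt, ∀ d ∈ Rt, c * d = d * c := by
    intro c hc d hd
    have h1 := hRtF (c * d * c⁻¹ * d⁻¹) (mul_mem (mul_mem (mul_mem hc hd) (inv_mem hc)) (inv_mem hd)) (by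
      rw [map_mul, map_mul, map_mul, map_inv, map_inv,
        show f c * f d = f d * f c from congrArg Subtype.val (hRab.is_comm.comm
          (⟨f c, hRtR (mem_map_of_mem f hc)⟩ : ↥R) ⟨f d, hRtR (mem_map_of_mem f hd)⟩)]
      group)
    calc c * d = (c * d * c⁻¹ * d⁻¹) * (d * c) := by group
      _ = d * c := by rw [h1, one_mul]
  have hRtexp : ∀ c ∈ Rt, c ^ r = 1 := fun c hc => hRtF _ (pow_mem hc r) (by
    rw [map_pow]; exact hRexp _ (hRtR (mem_map_of_mem f hc)))
  have hRtmap : Rt.map f = R := by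
    refine eq_of_le_of_card_ge hRtR ?_
    have h3 := card_map_mk_mul F Rt
    rw [show Rt ⊓ F = ⊥ from (eq_bot_iff_forall _).mpr fun c hc => hRtF c hc.1
      ((QuotientGroup.eq_one_iff c).mpr hc.2), card_bot, mul_one] at h3
    rw [h3, hn, card_map_of_injective Pre.subtype_injective, S.card_eq_multiplicity]
    apply Nat.pow_le_pow_right hr.pos
    rw [card_comap_mk', Nat.factorization_mul Nat.card_pos.ne' Nat.card_pos.ne', Finsupp.add_apply,
      hn, hr.factorization_pow, Finsupp.single_eq_same]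
    exact Nat.le_add_left _ _
  have hRtcard : Nat.card ↥Rt = r ^ (n + 1 + 1) := by
    rw [← hn, ← hRtmap]
    have h3 := card_map_mk_mul F Rt
    rw [show Rt ⊓ F = ⊥ from (eq_bot_iff_forall _).mpr fun c hc => hRtF c hc.1
      ((QuotientGroup.eq_one_iff c).mpr hc.2), card_bot, mul_one] at h3
    exact h3.symm
  obtain ⟨c0, hc0, hc01⟩ : ∃ c ∈ Rt, c ≠ 1 := by
    by_contra h
    push Not at h
    rw [(eq_bot_iff_forall _).mpr h, card_bot] at hRtcard
    exact absurd hRtcard.symm (Nat.one_lt_pow (Nat.succ_ne_zero _) hr.one_lt).ne'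
  obtain ⟨q, x0, hq, hx0F, hx0k, hx0c⟩ : ∃ (q : ℕ) (x : G), q.Prime ∧ x ∈ F ∧
      (∃ k, orderOf x = q ^ k) ∧ x * c0 ≠ c0 * x := by
    by_contra h
    push Not at h
    exact hc01 (hRtF c0 hc0 ((QuotientGroup.eq_one_iff c0).mpr
      (mem_fitting_of_centralizes fun q hq x hx hk => h q x hq.out hx hk)))
  have := Fact.mk hq
  have hx01 : x0 ≠ 1 := by rintro rfl; simp at hx0c
  obtain ⟨M, hMn, hMF, hMab, hMexp, hMS, hMne⟩ := exists_sylow_min hB hno hq
    (fitting_prime_pow hx0F hx0k hx01)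
  have hx0M : x0 ∈ M := mem_of_sylow_eq hMS hx0k
  have hrq : r ≠ q := fun h => hrF (h ▸ fitting_prime_pow hx0F hx0k hx01)
  let _ : CommGroup ↥M := { (inferInstance : Group ↥M) with mul_comm := hMab.is_comm.comm }
  -- `Rt` acts faithfully on `M`
  have hfaith : ∀ c ∈ Rt, (∀ x ∈ M, c * x = x * c) → c = 1 := by
    intro c hc hcx
    set Cn := (centralizer (M : Set G) ⊓ Pre).map f
    have hCn : Cn.Normal := by
      have : (centralizer (M : Set G) ⊓ Pre).Normal := by infer_instance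
      exact this.map f (QuotientGroup.mk'_surjective F)
    rcases hRmin Cn hCn ((map_mono inf_le_right).trans (map_comap_le f R)) with h | h
    · apply hRtF c hc
      have : f c ∈ Cn := mem_map_of_mem f ⟨mem_centralizer_iff.mpr fun x hx => (hcx x hx).symm,
        show f c ∈ R from hRtR (mem_map_of_mem f hc)⟩
      rwa [h, mem_bot] at this
    · exfalso
      obtain ⟨d, hd, hdc⟩ : f c0 ∈ Cn := h.symm ▸ hRtR (mem_map_of_mem f hc0)
      apply hx0c
      have hdF : d⁻¹ * c0 ∈ F := by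
        rw [← QuotientGroup.eq_one_iff]
        show f (d⁻¹ * c0) = 1
        rw [map_mul, map_inv, hdc, inv_mul_cancel]
      have h2 : x0 * (d⁻¹ * c0) = (d⁻¹ * c0) * x0 :=
        congrArg Subtype.val ((fitting_comm hB hno).is_comm.comm (⟨x0, hx0F⟩ : ↥F) ⟨_, hdF⟩)
      have h3 : x0 * d = d * x0 := mem_centralizer_iff.mp hd.1 x0 hx0M
      calc x0 * c0 = x0 * d * (d⁻¹ * c0) := by group
        _ = d * (x0 * (d⁻¹ * c0)) := by rw [h3, mul_assoc]
        _ = d * (d⁻¹ * c0 * x0) := by rw [h2]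
        _ = c0 * x0 := by group
  -- some non-trivial element of `Rt` has a non-trivial fixed point on `M`
  obtain ⟨e, he, he1, x, hxM, hx1, hex⟩ :
      ∃ e ∈ Rt, e ≠ 1 ∧ ∃ x ∈ M, x ≠ 1 ∧ e * x = x * e := by
    by_contra hfix
    push Not at hfix
    obtain ⟨E, hE⟩ := Sylow.exists_subgroup_card_pow_prime (G := ↥Rt) (n := 2) r
      (hRtcard ▸ pow_dvd_pow r (by omega))
    let φ : ↥E →* MulAut ↥M := (MulAut.conjNormal (H := M)).comp (Rt.subtype.comp E.subtype)
    have : Nontrivial ↥M := (Subgroup.nontrivial_iff_ne_bot M).mpr hMne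
    have hfpf : Frobenius.IsFPF φ := by
      intro u hu m hm
      by_contra hm1
      have h1 := congrArg Subtype.val hm
      simp only [φ, MonoidHom.comp_apply, MulAut.conjNormal_apply, Subgroup.coe_subtype] at h1
      exact hfix _ (u : ↥Rt).2 (fun h => hu (Subtype.ext (Subtype.ext h))) m m.2
        (fun h => hm1 (Subtype.ext h)) (mul_inv_eq_iff_eq_mul.mp h1)
    have hcyc := Frobenius.isCyclic_of_card_sq hfpf r hE
    obtain ⟨u, hu⟩ := hcyc.exists_generator
    have hu2 : orderOf u = r ^ 2 := by rw [orderOf_eq_card_of_forall_mem_zpowers hu, hE]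
    have : u ^ r = 1 := Subtype.ext (Subtype.ext (by simpa using hRtexp _ (u : ↥Rt).2))
    have := Nat.le_of_dvd hr.pos (hu2 ▸ orderOf_dvd_iff_pow_eq_one.mpr this)
    nlinarith [hr.two_le]
  -- the elements of `Rt` fixing `m`
  let D : G → Subgroup G := fun m => Rt ⊓ centralizer ({m} : Set G)
  have hDne : ∀ m ∈ M, m ≠ 1 → ∃ c ∈ D m, c ≠ 1 := by
    intro m hm hm1
    have hox : orderOf x = q := orderOf_eq_prime (hMexp x hxM) hx1
    obtain ⟨g, hg⟩ := hB (zpowers x) (zpowers m) inferInstance inferInstance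
      (by rw [Nat.card_zpowers, Nat.card_zpowers, hox, orderOf_eq_prime (hMexp m hm) hm1])
    obtain ⟨z, ⟨i, rfl⟩, hzm⟩ : m ∈ (zpowers x).map (MulAut.conj g).toMonoidHom :=
      hg ▸ mem_zpowers m
    have hmem : f (g * e * g⁻¹) ∈ R := by
      rw [map_mul, map_mul, map_inv]
      exact hRn.conj_mem _ (hRtR (mem_map_of_mem f he)) _
    obtain ⟨c, hc, hcf⟩ : f (g * e * g⁻¹) ∈ Rt.map f := hRtmap.symm ▸ hmem
    refine ⟨c, ⟨hc, ?_⟩, ?_⟩
    · refine mem_centralizer_singleton_iff.mpr ?_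
      have hd : (g * e * g⁻¹)⁻¹ * c ∈ F := by
        rw [← QuotientGroup.eq_one_iff]
        show f ((g * e * g⁻¹)⁻¹ * c) = 1
        rw [map_mul, map_inv, hcf, inv_mul_cancel]
      have h1 : (g * e * g⁻¹) * m = m * (g * e * g⁻¹) := by
        rw [← hzm]
        show g * e * g⁻¹ * (g * x ^ i * g⁻¹) = g * x ^ i * g⁻¹ * (g * e * g⁻¹)
        have h2 : e * x ^ i = x ^ i * e := ((show Commute e x from hex).zpow_right i).eq
        calc g * e * g⁻¹ * (g * x ^ i * g⁻¹) = g * (e * x ^ i) * g⁻¹ := by group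
          _ = g * (x ^ i * e) * g⁻¹ := by rw [h2]
          _ = g * x ^ i * g⁻¹ * (g * e * g⁻¹) := by group
      have h2 : ((g * e * g⁻¹)⁻¹ * c) * m = m * ((g * e * g⁻¹)⁻¹ * c) :=
        congrArg Subtype.val ((fitting_comm hB hno).is_comm.comm (⟨_, hd⟩ : ↥F) ⟨m, hMF hm⟩)
      calc c * m = (g * e * g⁻¹) * (((g * e * g⁻¹)⁻¹ * c) * m) := by group
        _ = (g * e * g⁻¹) * (m * ((g * e * g⁻¹)⁻¹ * c)) := by rw [h2]
        _ = (g * e * g⁻¹) * m * ((g * e * g⁻¹)⁻¹ * c) := by group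
        _ = m * (g * e * g⁻¹) * ((g * e * g⁻¹)⁻¹ * c) := by rw [h1]
        _ = m * c := by group
    · intro hc1
      apply he1
      apply hRtF e he
      rw [hc1, map_one, map_mul, map_mul, map_inv] at hcf
      exact conj_eq_one_iff.mp hcf.symm
  obtain ⟨⟨m, hm, hm1⟩, hmin⟩ : ∃ m : {m : G // m ∈ M ∧ m ≠ 1},
      ∀ m' : {m : G // m ∈ M ∧ m ≠ 1}, Nat.card ↥(D m) ≤ Nat.card ↥(D m') := by
    have : Nonempty {m : G // m ∈ M ∧ m ≠ 1} := ⟨⟨x, hxM, hx1⟩⟩
    exact Finite.exists_min _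
  obtain ⟨d, ⟨hdR, hdm⟩, hd1⟩ := hDne m hm hm1
  replace hdm := mem_centralizer_singleton_iff.mp hdm
  obtain ⟨w, hwM, hdw⟩ : ∃ w ∈ M, d * w ≠ w * d := by
    by_contra h
    push Not at h
    exact hd1 (hfaith d hdR h)
  -- `φ w = [d, w]`
  set y := d * w * d⁻¹ * w⁻¹ with hy
  have hyM : y ∈ M := mul_mem (hMn.conj_mem w hwM d) (inv_mem hwM)
  have hy1 : y ≠ 1 := fun h => hdw (by
    calc d * w = y * (w * d) := by rw [hy]; group
      _ = w * d := by rw [h, one_mul])
  have hcomm : ∀ a ∈ M, ∀ b ∈ M, Commute a b := fun a ha b hb =>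
    congrArg Subtype.val (hMab.is_comm.comm (⟨a, ha⟩ : ↥M) ⟨b, hb⟩)
  have hker : ∀ v ∈ M, ∀ u ∈ M, d * v * d⁻¹ * v⁻¹ = u → d * u = u * d → u = 1 := by
    intro v hv u hu hvu hdu
    have hstep : ∀ k : ℕ, d ^ k * v * (d ^ k)⁻¹ = v * u ^ k := by
      intro k
      induction k with
      | zero => simp
      | succ k ih =>
        calc d ^ (k + 1) * v * (d ^ (k + 1))⁻¹ = d * (d ^ k * v * (d ^ k)⁻¹) * d⁻¹ := by
              rw [pow_succ']; group
          _ = d * (v * u ^ k) * d⁻¹ := by rw [ih]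
          _ = (d * v * d⁻¹ * v⁻¹) * v * (d * u ^ k * d⁻¹) := by group
          _ = u * v * u ^ k := by
              rw [hvu, ((show Commute d u from hdu).pow_right k).eq, mul_inv_cancel_right]
          _ = v * u ^ (k + 1) := by
              rw [(hcomm u hu v hv).eq, mul_assoc, ← pow_succ']
    have h1 := hstep r
    rw [hRtexp d hdR, one_mul, inv_one, mul_one, left_eq_mul] at h1
    rw [← orderOf_eq_one_iff]
    exact Nat.eq_one_of_dvd_coprimes ((Nat.coprime_primes hr hq).mpr hrq)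
      (orderOf_dvd_iff_pow_eq_one.mpr h1) (orderOf_dvd_iff_pow_eq_one.mpr (hMexp u hu))
  have hdy : d * y ≠ y * d := fun h => hy1 (hker w hwM y hyM rfl h)
  have hmy1 : m * y ≠ 1 := fun h => hdy (by
    rw [eq_inv_of_mul_eq_one_right h]
    exact ((show Commute d m from hdm).inv_right).eq)
  have hsub : D (m * y) < D m := by
    refine lt_of_le_of_ne ?_ fun h => ?_
    · rintro c ⟨hc, hcmy⟩
      replace hcmy := mem_centralizer_singleton_iff.mp hcmy
      refine ⟨hc, ?_⟩
      refine mem_centralizer_singleton_iff.mpr ?_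
      have hm' : c * m * c⁻¹ ∈ M := hMn.conj_mem m hm c
      have hy' : c * y * c⁻¹ ∈ M := hMn.conj_mem y hyM c
      have hcd : Commute c d := hRtab c hc d hdR
      have hfix : Commute d (c * m * c⁻¹) :=
        ((hcd.symm).mul_right hdm).mul_right hcd.symm.inv_right
      -- `m⁻¹ m'` is fixed by `d` and of the form `[d, v]`
      set u := m⁻¹ * (c * m * c⁻¹) with hu
      have huy : u = y * (c * y * c⁻¹)⁻¹ := by
        rw [hu, eq_mul_inv_iff_mul_eq]
        calc m⁻¹ * (c * m * c⁻¹) * (c * y * c⁻¹) = m⁻¹ * (c * (m * y)) * c⁻¹ := by group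
          _ = m⁻¹ * ((m * y) * c) * c⁻¹ := by rw [hcmy]
          _ = y := by group
      have huM : u ∈ M := mul_mem (inv_mem hm) hm'
      have hv : w * (c * w * c⁻¹)⁻¹ ∈ M := mul_mem hwM (inv_mem (hMn.conj_mem w hwM c))
      have hu1 : u = 1 := by
        refine hker _ hv u huM ?_ (((show Commute d m from hdm).inv_right).mul_right hfix).eq
        rw [huy]
        have h1 : d * w * d⁻¹ = y * w := by rw [hy]; group
        have h2 : d * (c * w * c⁻¹) * d⁻¹ = (c * y * c⁻¹) * (c * w * c⁻¹) := by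
          calc d * (c * w * c⁻¹) * d⁻¹ = (d * c) * w * (d * c)⁻¹ := by group
            _ = (c * d) * w * (c * d)⁻¹ := by rw [← hcd.eq]
            _ = c * (d * w * d⁻¹) * c⁻¹ := by group
            _ = _ := by rw [h1]; group
        have hwc := hMn.conj_mem w hwM c
        calc d * (w * (c * w * c⁻¹)⁻¹) * d⁻¹ * (w * (c * w * c⁻¹)⁻¹)⁻¹
            = (d * w * d⁻¹) * (d * (c * w * c⁻¹) * d⁻¹)⁻¹ * ((c * w * c⁻¹) * w⁻¹) := by group
          _ = y * (w * (c * w * c⁻¹)⁻¹) * (c * y * c⁻¹)⁻¹ * ((c * w * c⁻¹) * w⁻¹) := by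
              rw [h1, h2]; group
          _ = y * ((c * y * c⁻¹)⁻¹ * (w * (c * w * c⁻¹)⁻¹)) * ((c * w * c⁻¹) * w⁻¹) := by
              rw [mul_assoc y, (hcomm _ hv _ (inv_mem hy')).eq]
          _ = y * (c * y * c⁻¹)⁻¹ := by group
      rw [hu] at hu1
      have h3 : c * m * c⁻¹ = m := (inv_mul_eq_one.mp hu1).symm
      exact mul_inv_eq_iff_eq_mul.mp h3
    · have hd : d ∈ D m := ⟨hdR, mem_centralizer_singleton_iff.mpr hdm⟩
      rw [← h] at hd
      have h2 : Commute d (m * y) := mem_centralizer_singleton_iff.mp hd.2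
      apply hdy
      have h3 := ((show Commute d m from hdm).inv_right).mul_right h2
      rw [inv_mul_cancel_left] at h3
      exact h3.eq
  have hlt := Set.ncard_lt_ncard (show ((D (m * y) : Subgroup G) : Set G) ⊂ D m from hsub) (Set.toFinite _)
  rw [← Nat.card_coe_set_eq, ← Nat.card_coe_set_eq] at hlt
  exact absurd (hmin ⟨m * y, mul_mem hm hyM, hmy1⟩) (not_le.mpr hlt)

end Cfsg.Agent.H73
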