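import Cfsg.Agent.H73.ConjAbelianQuot
import Cfsg.Agent.S3909
import Cfsg.Agent.Cores.PCore
import Cfsg.Agent.Cores.Fitting
import Cfsg.Agent.Hall.MinimalNormal

/-!
# Quotients of solvable groups with conjugate abelian subgroups
-/

set_option autoImplicit false

namespace Cfsg.Agent.H73

open Subgroup
open scoped Pointwise

variable {G : Type*} [Group G] [Finite G]

omit [Finite G] in
theorem ConjAb.congr {G' : Type*} [Group G'] (e : G ≃* G') (hB : ConjAb G) : ConjAb G' := by
  intro A B hA hB' h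
  have key : ∀ C : Subgroup G', IsMulCommutative ↥C →
      IsMulCommutative ↥(C.map e.symm.toMonoidHom) := fun C hC => ⟨⟨by
    rintro ⟨_, a, ha, rfl⟩ ⟨_, b, hb, rfl⟩
    apply Subtype.ext
    show e.symm a * e.symm b = e.symm b * e.symm a
    rw [← map_mul, ← map_mul]
    exact congrArg e.symm (congrArg Subtype.val (hC.is_comm.comm ⟨a, ha⟩ ⟨b, hb⟩))⟩⟩
  obtain ⟨g, hg⟩ := hB (A.map e.symm.toMonoidHom) (B.map e.symm.toMonoidHom) (key A hA) (key B hB')
    (by rw [card_map_of_injective e.symm.injective, card_map_of_injective e.symm.injective, h])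
  refine ⟨e g, ?_⟩
  apply Subgroup.map_injective (f := e.symm.toMonoidHom) e.symm.injective
  rw [hg, map_map, map_map]
  congr 1
  ext x
  simp

omit [Finite G] in
/-- if `M` has a complement then `G ⧸ M` inherits the property -/
theorem ConjAb.quotient_of_complement (hB : ConjAb G) {M : Subgroup G} [M.Normal] {H : Subgroup G}
    (hH : IsComplement' M H) : ConjAb (G ⧸ M) := by
  set f := QuotientGroup.mk' M
  have hlift : ∀ A : Subgroup (G ⧸ M), IsMulCommutative ↥A →
      IsMulCommutative ↥(A.comap f ⊓ H) ∧ Nat.card ↥(A.comap f ⊓ H) = Nat.card ↥A ∧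
        (A.comap f ⊓ H).map f = A := by
    intro A hA
    have hinj : ∀ u ∈ H, f u = 1 → u = 1 := fun u hu h1 =>
      mem_bot.mp (hH.disjoint.eq_bot ▸ ⟨(QuotientGroup.eq_one_iff u).mp h1, hu⟩)
    have hmap : (A.comap f ⊓ H).map f = A := by
      refine le_antisymm ((map_mono inf_le_left).trans (map_comap_le f A)) fun a ha => ?_
      obtain ⟨g, rfl⟩ := QuotientGroup.mk'_surjective M a
      obtain ⟨⟨⟨m, hm⟩, ⟨h, hh⟩⟩, hgh⟩ := hH.2 g
      have hfh : f h = f g := by
        rw [← hgh]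
        show f h = f (m * h)
        rw [map_mul, show f m = 1 from (QuotientGroup.eq_one_iff m).mpr hm, one_mul]
      exact ⟨h, ⟨show f h ∈ A from hfh ▸ ha, hh⟩, hfh⟩
    refine ⟨⟨⟨?_⟩⟩, ?_, hmap⟩
    · rintro ⟨u, hu⟩ ⟨v, hv⟩
      have h1 := hinj (u * v * u⁻¹ * v⁻¹)
        (mul_mem (mul_mem (mul_mem hu.2 hv.2) (inv_mem hu.2)) (inv_mem hv.2)) (by
          rw [map_mul, map_mul, map_mul, map_inv, map_inv,
            show f u * f v = f v * f u from
              congrArg Subtype.val (hA.is_comm.comm (⟨f u, hu.1⟩ : ↥A) ⟨f v, hv.1⟩)]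
          group)
      refine Subtype.ext ?_
      show u * v = v * u
      calc u * v = (u * v * u⁻¹ * v⁻¹) * (v * u) := by group
        _ = v * u := by rw [h1, one_mul]
    · conv_rhs => rw [← hmap]
      refine Nat.card_congr (Equiv.ofBijective (fun u => ⟨f u.1, mem_map_of_mem f u.2⟩) ⟨?_, ?_⟩)
      · rintro ⟨u, hu⟩ ⟨v, hv⟩ huv
        have h := hinj (u⁻¹ * v) (mul_mem (inv_mem hu.2) hv.2) (by
          rw [map_mul, map_inv, show f u = f v from congrArg Subtype.val huv, inv_mul_cancel])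
        exact Subtype.ext (inv_mul_eq_one.mp h)
      · rintro ⟨_, u, hu, rfl⟩
        exact ⟨⟨u, hu⟩, rfl⟩
  intro A B hA hB' h
  obtain ⟨hA1, hA2, hA3⟩ := hlift A hA
  obtain ⟨hB1, hB2, hB3⟩ := hlift B hB'
  obtain ⟨g, hg⟩ := hB _ _ hA1 hB1 (by rw [hA2, hB2, h])
  refine ⟨f g, ?_⟩
  rw [← hB3, hg, map_map]
  conv_rhs => rw [← hA3, map_map]
  congr 1

omit [Finite G] in
/-- preimage of an abelian group with at most two square roots of `1` is abelian -/
theorem comap_isMulCommutative {M : Subgroup G} [M.Normal] (hMc : ∀ m ∈ M, ∀ x : G, m * x = x * m)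
    (hM2 : ∀ m ∈ M, m ^ 2 = 1) (A : Subgroup (G ⧸ M)) [Finite ↥A] (hA : IsMulCommutative ↥A)
    (h2 : Nat.card {a : ↥A // a ^ 2 = 1} ≤ 2) :
    IsMulCommutative ↥(A.comap (QuotientGroup.mk' M)) := by
  let _ : CommGroup ↥A := { (inferInstance : Group ↥A) with mul_comm := hA.is_comm.comm }
  set f := QuotientGroup.mk' M
  set X := A.comap f
  have hsq : ∀ x ∈ X, ∀ y ∈ X, x ^ 2 * y = y * x ^ 2 := by
    intro x hx y hy
    have hm : y * x * y⁻¹ * x⁻¹ ∈ M := by
      refine (QuotientGroup.eq_one_iff _).mp ?_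
      show f (y * x * y⁻¹ * x⁻¹) = 1
      rw [map_mul, map_mul, map_mul, map_inv, map_inv,
        show f y * f x = f x * f y from
          congrArg Subtype.val (hA.is_comm.comm (⟨f y, hy⟩ : ↥A) ⟨f x, hx⟩)]
      group
    set m := y * x * y⁻¹ * x⁻¹
    have h1 : y * x * y⁻¹ = m * x := by simp [m]
    have h2 : (m * x) ^ 2 = x ^ 2 := by
      rw [(show Commute m x from hMc m hm x).mul_pow, hM2 m hm, one_mul]
    rw [← h1, conj_pow] at h2
    exact (mul_inv_eq_iff_eq_mul.mp h2).symm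
  set sq : ↥A →* ↥A := powMonoidHom 2
  have hidx : sq.range.index ≤ 2 := by
    have h3 : sq.range.index = Nat.card ↥sq.ker := by
      have h4 := Subgroup.card_mul_index sq.range
      have h5 := Subgroup.card_mul_index sq.ker
      rw [Subgroup.index_ker, mul_comm] at h5
      exact Nat.eq_of_mul_eq_mul_left Nat.card_pos (h4.trans h5.symm)
    rw [h3]
    exact h2
  have hcen : ∀ x ∈ X, (∀ ha : f x ∈ A, (⟨f x, ha⟩ : ↥A) ∈ sq.range) →
      ∀ y ∈ X, x * y = y * x := by
    intro x hx hr y hy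
    obtain ⟨b, hb⟩ := hr hx
    obtain ⟨b', hb'⟩ := QuotientGroup.mk'_surjective M (b : G ⧸ M)
    have hb'X : b' ∈ X := show f b' ∈ A from hb'.symm ▸ b.2
    have hm : x * (b' ^ 2)⁻¹ ∈ M := by
      refine (QuotientGroup.eq_one_iff _).mp ?_
      show f (x * (b' ^ 2)⁻¹) = 1
      rw [map_mul, map_inv, map_pow, hb', mul_inv_eq_one]
      exact (congrArg Subtype.val hb).symm
    calc x * y = (x * (b' ^ 2)⁻¹) * (b' ^ 2 * y) := by group
      _ = (x * (b' ^ 2)⁻¹) * y * b' ^ 2 := by rw [hsq b' hb'X y hy]; simp only [mul_assoc]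
      _ = y * (x * (b' ^ 2)⁻¹) * b' ^ 2 := by rw [hMc _ hm y]
      _ = y * x := by group
  refine ⟨⟨fun a b => Subtype.ext ?_⟩⟩
  show (a : G) * b = b * a
  by_cases ha : (⟨f a, a.2⟩ : ↥A) ∈ sq.range
  · exact hcen a a.2 (fun _ => ha) b b.2
  by_cases hb : (⟨f b, b.2⟩ : ↥A) ∈ sq.range
  · exact (hcen b b.2 (fun _ => hb) a a.2).symm
  have hi2 : sq.range.index = 2 := by
    have h1 : sq.range.index ≠ 0 := index_ne_zero_of_finite
    have h1' : sq.range.index ≠ 1 := fun h => ha (index_eq_one.mp h ▸ mem_top _)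
    omega
  have hab : (⟨f a, a.2⟩ : ↥A) * ⟨f b, b.2⟩ ∈ sq.range :=
    (Subgroup.mul_mem_iff_of_index_two hi2).mpr ⟨fun h => absurd h ha, fun h => absurd h hb⟩
  have habX : (a : G) * b ∈ X := mul_mem a.2 b.2
  have h := hcen _ habX (fun hh => by
    convert hab using 1
    exact Subtype.ext (map_mul f _ _)) a a.2
  exact mul_left_cancel (h.symm.trans (mul_assoc _ _ _)) |>.trans rfl

theorem ConjAb.quaternion_small (hB : ConjAb G) [Group.IsSolvable G] (S : Sylow 2 G) {k : ℕ}
    (e : ↥(S : Subgroup G) ≃* QuaternionGroup (2 ^ k)) : Nat.card ↥(S : Subgroup G) ≤ 8 := by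
  classical
  have : Fact (Nat.Prime 2) := ⟨Nat.prime_two⟩
  have : NeZero (2 ^ k) := ⟨by positivity⟩
  have hcardS : Nat.card ↥(S : Subgroup G) = 4 * 2 ^ k := by
    rw [Nat.card_congr e.toEquiv, Nat.card_eq_fintype_card, QuaternionGroup.card]
  rw [hcardS]
  by_contra hbig
  set O := Cfsg.pPrimeCore 2 G
  have hO : Odd (Nat.card ↥O) := Nat.coprime_two_right.mp Cores.coprime_card_pPrimeCore
  have hBq : ConjAb (G ⧸ O) := hB.quotient_of_odd hO
  have : Group.IsSolvable (G ⧸ O) := inferInstance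
  set f := QuotientGroup.mk' O
  set T := (S : Subgroup G).map f with hT
  have hinj : ∀ u ∈ (S : Subgroup G), f u = 1 → u = 1 := by
    intro u hu h1
    exact mem_bot.mp (Cores.disjoint_of_isPGroup_of_coprime S.isPGroup'
      (Cores.coprime_card_pPrimeCore (p := 2) (G := G)) ▸ ⟨hu, (QuotientGroup.eq_one_iff u).mp h1⟩)
  let g : QuaternionGroup (2 ^ k) →* G ⧸ O :=
    f.comp ((S : Subgroup G).subtype.comp e.symm.toMonoidHom)
  have hg : Function.Injective g := by
    rw [injective_iff_map_eq_one]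
    intro a ha
    have := hinj _ (e.symm a).2 ha
    exact e.symm.map_eq_one_iff.mp (Subtype.ext this)
  have hgrange : g.range = T := by
    rw [hT, MonoidHom.range_comp, MonoidHom.range_comp,
      MonoidHom.range_eq_top.mpr e.symm.surjective, ← MonoidHom.range_eq_map, range_subtype]
  have hT2 : IsPGroup 2 ↥T := S.isPGroup'.map f
  let T' : Sylow 2 (G ⧸ O) := S.mapSurjective (QuotientGroup.mk'_surjective O)
  set Q := Cfsg.pCore 2 (G ⧸ O)
  have hQT : Q ≤ T := Cores.pCore_le_sylow T'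
  have hxa : ∀ i, orderOf (g (QuaternionGroup.xa i)) = 4 := fun i => by
    rw [orderOf_injective g hg, QuaternionGroup.orderOf_xa]
  have habs : ∀ {N : Subgroup (G ⧸ O)}, N.Normal → (∃ x ∈ N, orderOf x = 4) → T ≤ N := by
    intro N hN ⟨x, hx, hx4⟩
    rw [← hgrange]
    rintro _ ⟨a, rfl⟩
    have hall : ∀ i, g (QuaternionGroup.xa i) ∈ N := fun i =>
      hBq.mem_of_orderOf hx (by rw [hx4, hxa])
    cases a with
    | xa i => exact hall i
    | a i =>
      have : g (QuaternionGroup.a i) = (g (QuaternionGroup.xa 0))⁻¹ * g (QuaternionGroup.xa i) := by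
        rw [eq_inv_mul_iff_mul_eq, ← map_mul, QuaternionGroup.xa_mul_a, zero_add]
      exact this ▸ mul_mem (inv_mem (hall _)) (hall _)
  by_cases hQbig : ∃ x ∈ Q, x ^ 2 ≠ 1
  · obtain ⟨x, hx, hx2⟩ := hQbig
    obtain ⟨j, hj⟩ := IsPGroup.iff_orderOf.mp (Cores.pCore_isPGroup (p := 2) (G := G ⧸ O)) ⟨x, hx⟩
    rw [Subgroup.orderOf_mk] at hj
    have hj2 : 2 ≤ j := by
      by_contra h
      apply hx2
      rw [← orderOf_dvd_iff_pow_eq_one, hj]
      exact (pow_dvd_pow 2 (by omega : j ≤ 1)).trans (pow_one 2).dvd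
    have hTQ : T = Q := le_antisymm (habs inferInstance ⟨_, pow_mem hx (orderOf x / 4),
      orderOf_pow_orderOf_div (orderOf_pos x).ne' (hj ▸ pow_dvd_pow 2 hj2)⟩) hQT
    set a := g (QuaternionGroup.a 1)
    have ha : orderOf a = 2 * 2 ^ k := by
      rw [orderOf_injective g hg, QuaternionGroup.orderOf_a_one]
    have hN : (zpowers a).Normal := by
      refine ⟨fun n hn y => ?_⟩
      obtain ⟨i, rfl⟩ := mem_zpowers_iff.mp hn
      rw [← conj_zpow]
      refine zpow_mem ?_ i
      have hmem : y * a * y⁻¹ ∈ T :=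
        hTQ ▸ (inferInstance : Q.Normal).conj_mem a (hTQ ▸ hgrange ▸ ⟨_, rfl⟩) y
      rw [← hgrange] at hmem
      obtain ⟨b, hb⟩ := hmem
      have ho : orderOf (g b) = 2 * 2 ^ k := by
        rw [hb, show y * a * y⁻¹ = MulAut.conj y a from rfl, MulEquiv.orderOf_eq, ha]
      cases b with
      | a j =>
        refine ⟨(j.val : ℤ), ?_⟩
        show a ^ (j.val : ℤ) = _
        rw [← hb, zpow_natCast, ← map_pow, QuaternionGroup.a_one_pow, ZMod.natCast_zmod_val]
      | xa j => rw [hxa] at ho; omega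
    have hk : 2 ∣ 2 ^ k := dvd_pow_self 2 (fun h => hbig (by simp [h]))
    have h4 : orderOf (a ^ (orderOf a / 4)) = 4 :=
      orderOf_pow_orderOf_div (orderOf_pos a).ne' (ha ▸ Nat.mul_dvd_mul_left 2 hk)
    have hle := habs hN ⟨_, pow_mem (mem_zpowers a) _, h4⟩
    obtain ⟨i, hi⟩ := hle (hgrange ▸ ⟨QuaternionGroup.xa 0, rfl⟩ : g (QuaternionGroup.xa 0) ∈ T)
    obtain ⟨n, hn⟩ : ∃ n : ℕ, a ^ n = g (QuaternionGroup.xa 0) :=
      mem_powers_iff_mem_zpowers.mpr ⟨i, hi⟩
    rw [← map_pow, QuaternionGroup.a_one_pow] at hn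
    cases hg hn
  · push Not at hQbig
    -- `Q` has exponent two and at most one involution
    have hQc : ∀ x ∈ Q, x ≠ 1 → x = g (QuaternionGroup.a ((2 ^ k : ℕ) : ZMod (2 * 2 ^ k))) := by
      intro x hx hx1
      obtain ⟨b, rfl⟩ : x ∈ g.range := hgrange ▸ hQT hx
      have hb2 : b ^ 2 = 1 := hg (by rw [map_pow, hQbig _ hx, map_one])
      cases b with
      | xa j =>
        exfalso
        have := orderOf_dvd_iff_pow_eq_one.mpr hb2
        rw [QuaternionGroup.orderOf_xa] at this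
        exact absurd (Nat.le_of_dvd two_pos this) (by omega)
      | a j =>
        congr 2
        rw [sq, QuaternionGroup.a_mul_a, QuaternionGroup.one_def] at hb2
        have hj := QuaternionGroup.a.inj hb2
        have hj0 : j ≠ 0 := by rintro rfl; exact hx1 (by rw [QuaternionGroup.a_zero, map_one])
        apply ZMod.val_injective
        have h1 : j = -j := eq_neg_of_add_eq_zero_left hj
        have h3 := congrArg ZMod.val h1
        rw [ZMod.neg_val, if_neg hj0] at h3
        rw [ZMod.val_natCast_of_lt (by have := Nat.two_pow_pos k; omega)]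
        have := ZMod.val_lt j
        omega
    have hF : Cfsg.fittingSubgroup (G ⧸ O) ≤ Q := by
      rw [Cores.iSup_pCore_eq_fittingSubgroup]
      refine iSup_le fun r => ?_
      by_cases hr : (r : ℕ) = 2
      · rw [hr]
      have := Fact.mk r.2
      have h1 : Cfsg.pCore (r : ℕ) (G ⧸ O) ≤ Cfsg.pPrimeCore 2 (G ⧸ O) := by
        refine Cores.le_pPrimeCore ?_
        obtain ⟨n, hn⟩ := IsPGroup.iff_card.mp (Cores.pCore_isPGroup (p := (r : ℕ)) (G := G ⧸ O))
        rw [hn]
        exact Nat.Coprime.pow_left n ((Nat.coprime_primes r.2 Nat.prime_two).mpr hr)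
      rw [Cores.pPrimeCore_quotient_pPrimeCore] at h1
      exact h1.trans bot_le
    have hcen : centralizer (Cfsg.fittingSubgroup (G ⧸ O) : Set (G ⧸ O)) = ⊤ := by
      rw [eq_top_iff]
      intro y _
      rw [mem_centralizer_iff]
      intro x hx
      rcases eq_or_ne x 1 with rfl | hx1
      · simp
      have hy : y * x * y⁻¹ = x := by
        rw [hQc _ (hF hx) hx1]
        rw [← hQc _ (hF hx) hx1]
        refine (hQc _ ((inferInstance : Q.Normal).conj_mem x (hF hx) y) ?_).trans (hQc _ (hF hx) hx1).symm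
        exact fun h => hx1 (conj_eq_one_iff.mp h)
      exact (mul_inv_eq_iff_eq_mul.mp hy).symm
    have hall : ∀ y : G ⧸ O, y ^ 2 = 1 := fun y =>
      hQbig y (hF (Cores.centralizer_fittingSubgroup_le (hcen ▸ mem_top y)))
    have := orderOf_dvd_iff_pow_eq_one.mpr (hall (g (QuaternionGroup.xa 0)))
    rw [hxa] at this
    exact absurd (Nat.le_of_dvd two_pos this) (by omega)

theorem card_comap_mk' {M : Subgroup G} [M.Normal] (A : Subgroup (G ⧸ M)) :
    Nat.card ↥(A.comap (QuotientGroup.mk' M)) = Nat.card ↥M * Nat.card ↥A := by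
  have h1 := Subgroup.card_mul_index (A.comap (QuotientGroup.mk' M))
  rw [Subgroup.index_comap_of_surjective A (QuotientGroup.mk'_surjective M),
    ← Subgroup.card_mul_index M, Subgroup.index_eq_card M, ← Subgroup.card_mul_index A,
    ← mul_assoc] at h1
  exact Nat.eq_of_mul_eq_mul_right (Nat.pos_of_ne_zero index_ne_zero_of_finite) h1

theorem ConjAb.conj_of_abelian_preimage (hB : ConjAb G) {M : Subgroup G} [M.Normal]
    {A B : Subgroup (G ⧸ M)} (hA : IsMulCommutative ↥(A.comap (QuotientGroup.mk' M)))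
    (hB' : IsMulCommutative ↥(B.comap (QuotientGroup.mk' M)))
    (hcard : Nat.card ↥A = Nat.card ↥B) :
    ∃ g : G ⧸ M, B = A.map (MulAut.conj g).toMonoidHom := by
  obtain ⟨g, hg⟩ := hB _ _ hA hB' (by rw [card_comap_mk', card_comap_mk', hcard])
  refine ⟨QuotientGroup.mk' M g, ?_⟩
  rw [← map_comap_eq_self_of_surjective (QuotientGroup.mk'_surjective M) B, hg, map_map]
  conv_rhs => rw [← map_comap_eq_self_of_surjective (QuotientGroup.mk'_surjective M) A, map_map]
  congr 1

theorem four_of_big {L : Type*} [Group L] [Finite L] (T : Sylow 2 L)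
    (hT : IsCyclic ↥(T : Subgroup L) ∨ Nat.card ↥(T : Subgroup L) ≤ 4) {A : Subgroup L}
    (hA : IsMulCommutative ↥A) (hbig : 2 < Nat.card {a : ↥A // a ^ 2 = 1}) :
    Nat.card ↥(T : Subgroup L) = 4 ∧ 4 ∣ Nat.card ↥A := by
  have : Fact (Nat.Prime 2) := ⟨Nat.prime_two⟩
  let _ : CommGroup ↥A := { (inferInstance : Group ↥A) with mul_comm := hA.is_comm.comm }
  set E := (powMonoidHom 2 : ↥A →* ↥A).ker
  have hE2 : IsPGroup 2 ↥(E.map A.subtype) := by
    refine IsPGroup.map (H := E) (fun x => ⟨1, Subtype.ext ?_⟩) A.subtype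
    rw [Subgroup.coe_pow, pow_one]
    exact x.2
  obtain ⟨T₁, hT₁⟩ := hE2.exists_le_sylow
  have hEcard : Nat.card ↥(E.map A.subtype) = Nat.card {a : ↥A // a ^ 2 = 1} :=
    card_map_of_injective A.subtype_injective
  have hsame : Nat.card ↥(T₁ : Subgroup L) = Nat.card ↥(T : Subgroup L) := by
    rw [T₁.card_eq_multiplicity, T.card_eq_multiplicity]
  have hle : Nat.card ↥(E.map A.subtype) ≤ Nat.card ↥(T₁ : Subgroup L) := card_le_of_le hT₁
  rcases hT with hc | h4
  · exfalso
    obtain ⟨g, hg⟩ := MulAction.exists_smul_eq L T T₁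
    have hc1 : IsCyclic ↥(T₁ : Subgroup L) := by
      rw [← hg, Sylow.coe_subgroup_smul]
      exact isCyclic_of_surjective (equivSMul (MulAut.conj g) (T : Subgroup L)).toMonoidHom
        (equivSMul (MulAut.conj g) (T : Subgroup L)).surjective
    classical
    have := Fintype.ofFinite ↥(T₁ : Subgroup L)
    have h3 := IsCyclic.card_pow_eq_one_le (α := ↥(T₁ : Subgroup L)) (n := 2) two_pos
    have h4 : Nat.card ↥(E.map A.subtype) ≤ Nat.card {u : ↥(T₁ : Subgroup L) // u ^ 2 = 1} := by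
      refine Nat.card_le_card_of_injective (fun u => ⟨⟨u.1, hT₁ u.2⟩, ?_⟩) ?_
      · obtain ⟨a, ha, hau⟩ := u.2
        apply Subtype.ext
        show (u : L) ^ 2 = 1
        rw [← hau, ← map_pow, show a ^ 2 = 1 from ha, map_one]
      · intro u v h
        exact Subtype.ext (congrArg (fun w => ((w.1 : ↥(T₁ : Subgroup L)) : L)) h)
    rw [Nat.card_eq_fintype_card (α := {u : ↥(T₁ : Subgroup L) // u ^ 2 = 1}),
      Fintype.card_subtype] at h4
    omega
  · obtain ⟨j, hj⟩ := IsPGroup.iff_card.mp hE2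
    have hj2 : 2 ≤ j := by
      by_contra h
      have : 2 ^ j ≤ 2 ^ 1 := Nat.pow_le_pow_right two_pos (by omega)
      omega
    have : 4 ≤ 2 ^ j := (show (4 : ℕ) = 2 ^ 2 by norm_num) ▸ Nat.pow_le_pow_right two_pos hj2
    refine ⟨by omega, ?_⟩
    have h44 : Nat.card ↥(E.map A.subtype) = 4 := by omega
    exact h44 ▸ card_dvd_of_le (map_subtype_le E)

theorem ConjAb.conj_of_four (hB : ConjAb G) {M : Subgroup G} [M.Normal]
    (hMc : ∀ m ∈ M, ∀ x : G, m * x = x * m) (hM2 : ∀ m ∈ M, m ^ 2 = 1)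
    (T : Sylow 2 (G ⧸ M)) (hT : Nat.card ↥(T : Subgroup (G ⧸ M)) = 4) {A B : Subgroup (G ⧸ M)}
    (hA : IsMulCommutative ↥A) (hB' : IsMulCommutative ↥B) (hcard : Nat.card ↥A = Nat.card ↥B)
    (h4 : 4 ∣ Nat.card ↥A) : ∃ g : G ⧸ M, B = A.map (MulAut.conj g).toMonoidHom := by
  have : Fact (Nat.Prime 2) := ⟨Nat.prime_two⟩
  have hv : (Nat.card (G ⧸ M)).factorization 2 = 2 := by
    have := T.card_eq_multiplicity
    rw [hT, show (4 : ℕ) = 2 ^ 2 by norm_num] at this
    exact (Nat.pow_right_injective le_rfl this).symm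
  have hv2 : ∀ K : Subgroup (G ⧸ M), 4 ∣ Nat.card ↥K → (Nat.card ↥K).factorization 2 = 2 := by
    intro K hK
    refine le_antisymm ?_ ((Nat.prime_two.pow_dvd_iff_le_factorization Nat.card_pos.ne').mp
      (by simpa using hK))
    exact le_of_le_of_eq ((Nat.factorization_le_iff_dvd Nat.card_pos.ne' Nat.card_pos.ne').mpr
      (Subgroup.card_subgroup_dvd_card K) 2) hv
  have hsplit : ∀ K : Subgroup (G ⧸ M), IsMulCommutative ↥K → 4 ∣ Nat.card ↥K →
      ∃ C P : Subgroup (G ⧸ M), C ≤ K ∧ P ≤ K ∧ Nat.card ↥P = 4 ∧ C ⊔ P = K ∧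
        Nat.card ↥C * 4 = Nat.card ↥K ∧ IsMulCommutative ↥(C.comap (QuotientGroup.mk' M)) := by
    intro K hK hK4
    obtain ⟨P⟩ : Nonempty (Sylow 2 ↥K) := inferInstance
    have hPn : (P : Subgroup ↥K).Normal := ⟨fun n hn g => by
      rwa [hK.is_comm.comm g n, mul_inv_cancel_right]⟩
    obtain ⟨C, hC⟩ := exists_right_complement'_of_coprime (N := (P : Subgroup ↥K))
      P.card_coprime_index
    have hPc : Nat.card ↥(P : Subgroup ↥K) = 4 := by
      rw [P.card_eq_multiplicity, hv2 K hK4]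
      norm_num
    have hodd : Odd (Nat.card ↥C) := by
      rw [← hC.symm.index_eq_card]
      exact Nat.coprime_two_left.mp (Nat.Prime.coprime_iff_not_dvd Nat.prime_two |>.mpr P.not_dvd_index)
    refine ⟨C.map K.subtype, (P : Subgroup ↥K).map K.subtype, map_subtype_le _, map_subtype_le _,
      by rw [card_map_of_injective K.subtype_injective, hPc], ?_, ?_, ?_⟩
    · rw [← Subgroup.map_sup, sup_comm, hC.sup_eq_top, ← MonoidHom.range_eq_map, range_subtype]
    · rw [card_map_of_injective K.subtype_injective, ← hPc, mul_comm]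
      exact hC.card_mul_card
    · refine comap_isMulCommutative hMc hM2 _ ⟨⟨?_⟩⟩ ?_
      · rintro ⟨_, a, ha, rfl⟩ ⟨_, b, hb, rfl⟩
        exact Subtype.ext (congrArg (fun t : ↥K => (t : G ⧸ M)) (hK.is_comm.comm a b))
      · have : Subsingleton {a : ↥(C.map K.subtype) // a ^ 2 = 1} := by
          refine ⟨fun a b => ?_⟩
          have key : ∀ c : {a : ↥(C.map K.subtype) // a ^ 2 = 1}, (c : ↥(C.map K.subtype)) = 1 := by
            intro c
            rw [← orderOf_eq_one_iff]
            refine Nat.eq_one_of_dvd_coprimes (Nat.coprime_two_left.mpr hodd)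
              (orderOf_dvd_iff_pow_eq_one.mpr c.2) ?_
            rw [← card_map_of_injective (f := K.subtype) K.subtype_injective]
            exact _root_.orderOf_dvd_natCard _
          exact Subtype.ext ((key a).trans (key b).symm)
        exact (Finite.card_le_one_iff_subsingleton.mpr this).trans one_le_two
  obtain ⟨CA, PA, hCA, hPA, hPAc, hAsup, hAc, hCAab⟩ := hsplit A hA h4
  obtain ⟨CB, PB, hCB, hPB, hPBc, hBsup, hBc, hCBab⟩ := hsplit B hB' (hcard ▸ h4)
  obtain ⟨g, hg⟩ := hB.conj_of_abelian_preimage hCAab hCBab (by omega)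
  set K := centralizer (CB : Set (G ⧸ M))
  set c := (MulAut.conj g).toMonoidHom
  have hPA' : PA.map c ≤ K := by
    rintro _ ⟨p, hp, rfl⟩
    rw [mem_centralizer_iff]
    intro y hy
    rw [hg] at hy
    obtain ⟨a, ha, rfl⟩ := hy
    rw [← map_mul, ← map_mul]
    exact congrArg c (congrArg Subtype.val (hA.is_comm.comm ⟨a, hCA ha⟩ ⟨p, hPA hp⟩))
  have hPB' : PB ≤ K := by
    intro p hp
    rw [mem_centralizer_iff]
    intro y hy
    exact congrArg Subtype.val (hB'.is_comm.comm ⟨y, hCB hy⟩ ⟨p, hPB hp⟩)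
  have hPA'c : Nat.card ↥(PA.map c) = 4 := by
    rw [card_map_of_injective (MulAut.conj g).injective, hPAc]
  have hK4 : 4 ∣ Nat.card ↥K := hPBc ▸ card_dvd_of_le hPB'
  let S₁ : Sylow 2 ↥K := Sylow.ofCard ((PA.map c).subgroupOf K) (by
    rw [Nat.card_congr (subgroupOfEquivOfLe hPA').toEquiv, hPA'c, hv2 K hK4]; norm_num)
  let S₂ : Sylow 2 ↥K := Sylow.ofCard (PB.subgroupOf K) (by
    rw [Nat.card_congr (subgroupOfEquivOfLe hPB').toEquiv, hPBc, hv2 K hK4]; norm_num)
  obtain ⟨k, hk⟩ := MulAction.exists_smul_eq ↥K S₁ S₂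
  refine ⟨(k : G ⧸ M) * g, ?_⟩
  have hk' : PB = (PA.map c).map (MulAut.conj (k : G ⧸ M)).toMonoidHom := by
    have h1 := congrArg (fun s : Sylow 2 ↥K => (s : Subgroup ↥K).map K.subtype) hk
    simp only [Sylow.coe_subgroup_smul] at h1
    rw [show ((S₂ : Sylow 2 ↥K) : Subgroup ↥K) = PB.subgroupOf K from rfl,
      show ((S₁ : Sylow 2 ↥K) : Subgroup ↥K) = (PA.map c).subgroupOf K from rfl,
      map_subgroupOf_eq_of_le hPB'] at h1
    rw [← h1, Subgroup.pointwise_smul_def]
    conv_rhs => rw [← map_subgroupOf_eq_of_le hPA']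
    refine (map_map _ _ _).trans (Eq.trans ?_ (map_map _ _ _).symm)
    congr 1
  have hkC : CB.map (MulAut.conj (k : G ⧸ M)).toMonoidHom = CB := by
    ext y
    constructor
    · rintro ⟨u, hu, rfl⟩
      show (k : G ⧸ M) * u * (k : G ⧸ M)⁻¹ ∈ CB
      rw [← mem_centralizer_iff.mp k.2 u hu, mul_inv_cancel_right]
      exact hu
    · intro hy
      refine ⟨y, hy, ?_⟩
      show (k : G ⧸ M) * y * (k : G ⧸ M)⁻¹ = y
      rw [← mem_centralizer_iff.mp k.2 y hy, mul_inv_cancel_right]
  rw [← hBsup, hk']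
  conv_lhs => rw [← hkC, hg]
  rw [map_map, map_map, ← Subgroup.map_sup, hAsup]
  congr 1
  ext x
  simp [c, mul_assoc]

theorem ConjAb.quotient_of_card_two (hB : ConjAb G) [Group.IsSolvable G] {M : Subgroup G} [M.Normal]
    (hM : Nat.card ↥M = 2) : ConjAb (G ⧸ M) := by
  classical
  have : Fact (Nat.Prime 2) := ⟨Nat.prime_two⟩
  have hMp : IsPGroup 2 ↥M := IsPGroup.of_card (n := 1) (by rw [hM, pow_one])
  obtain ⟨S, hS⟩ := hMp.exists_le_sylow
  have hM2 : ∀ m ∈ M, m ^ 2 = 1 := fun m hm => by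
    rw [← orderOf_dvd_iff_pow_eq_one, ← hM]
    exact Subgroup.orderOf_dvd_natCard M hm
  obtain ⟨m₀, hm₀⟩ := exists_prime_orderOf_dvd_card' (G := ↥M) 2 hM.symm.dvd
  have hMc : ∀ m ∈ M, ∀ x : G, m * x = x * m := by
    intro m hm x
    rcases eq_or_ne m 1 with rfl | hm1
    · simp
    have hu : ∀ u ∈ M, u ≠ 1 → u = m := by
      intro u hu hu1
      by_contra hne
      have h2 : ({1, m, u} : Set G).ncard ≤ (M : Set G).ncard :=
        Set.ncard_le_ncard (by rintro y (rfl | rfl | rfl) <;> [exact one_mem M; exact hm; exact hu])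
          (Set.toFinite _)
      rw [← Nat.card_coe_set_eq (M : Set G), SetLike.coe_sort_coe, hM,
        Set.ncard_eq_three.mpr ⟨1, m, u, hm1.symm, hu1.symm, Ne.symm hne, rfl⟩] at h2
      omega
    have := hu _ ((inferInstance : M.Normal).conj_mem m hm x)
      (fun h => hm1 (conj_eq_one_iff.mp h))
    exact (mul_inv_eq_iff_eq_mul.mp this).symm
  let T : Sylow 2 (G ⧸ M) := S.mapSurjective (QuotientGroup.mk'_surjective M)
  obtain hTcase | hSM : (IsCyclic ↥(T : Subgroup (G ⧸ M)) ∨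
      Nat.card ↥(T : Subgroup (G ⧸ M)) ≤ 4) ∨ (S : Subgroup G) = M := by
    rcases hB.sylow_two S.isPGroup' with hc | he | ⟨k, ⟨e⟩⟩
    · exact Or.inl (Or.inl (isCyclic_of_surjective
        ((QuotientGroup.mk' M).subgroupMap (S : Subgroup G))
        ((QuotientGroup.mk' M).subgroupMap_surjective _)))
    · refine Or.inr (le_antisymm (fun x hx => ?_) hS)
      rcases eq_or_ne x 1 with rfl | hx1
      · exact one_mem M
      refine hB.mem_of_orderOf (m := (m₀ : G)) m₀.2 ?_
      rw [Subgroup.orderOf_coe, hm₀, orderOf_eq_prime (he.2 x hx) hx1]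
    · refine Or.inl (Or.inr ?_)
      have h8 := hB.quaternion_small S e
      have hidx : Nat.card ↥(T : Subgroup (G ⧸ M)) * Nat.card ↥M =
          Nat.card ↥(S : Subgroup G) := by
        have hT' : (T : Subgroup (G ⧸ M)).comap (QuotientGroup.mk' M) = (S : Subgroup G) := by
          show ((S : Subgroup G).map (QuotientGroup.mk' M)).comap (QuotientGroup.mk' M) = _
          rw [comap_map_eq, QuotientGroup.ker_mk', sup_eq_left.mpr hS]
        rw [← hT', card_comap_mk', mul_comm]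
      rw [hM] at hidx
      omega
  swap
  · obtain ⟨H, hH⟩ := Subgroup.exists_right_complement'_of_coprime (N := M)
      (hSM ▸ S.card_coprime_index)
    exact hB.quotient_of_complement hH
  intro A B hA hB' hcard
  by_cases h2A : Nat.card {a : ↥A // a ^ 2 = 1} ≤ 2 ∧ Nat.card {a : ↥B // a ^ 2 = 1} ≤ 2
  · exact hB.conj_of_abelian_preimage (comap_isMulCommutative hMc hM2 A hA h2A.1)
      (comap_isMulCommutative hMc hM2 B hB' h2A.2) hcard
  have h4 : Nat.card ↥(T : Subgroup (G ⧸ M)) = 4 ∧ 4 ∣ Nat.card ↥A := by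
    rw [not_and_or] at h2A
    rcases h2A with h | h
    · exact four_of_big T hTcase hA (not_le.mp h)
    · exact hcard ▸ four_of_big T hTcase hB' (not_le.mp h)
  exact hB.conj_of_four hMc hM2 T h4.1 hA hB' hcard h4.2

theorem ConjAb.quotient_of_solvable_aux (n : ℕ) : ∀ {G : Type*} [Group G] [Finite G],
    Nat.card G = n → Group.IsSolvable G → ConjAb G → ∀ (M : Subgroup G) [M.Normal], ConjAb (G ⧸ M) := by
  induction n using Nat.strong_induction_on with
  | _ n ih =>
    intro G _ _ hn hsol hB M _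
    have := hsol
    by_cases hM : M = ⊥
    · exact hB.quotient_of_complement (H := ⊤) (hM ▸ isComplement'_bot_top)
    obtain ⟨N, hNn, hN, hNM, hNmin⟩ := Hall.exists_minimal_normal_le M hM
    obtain ⟨hNab, q, hq, hNq, hNexp⟩ := Hall.minimal_normal_of_solvable hN hNmin
    have := Fact.mk hq
    obtain ⟨t, ht⟩ := IsPGroup.iff_card.mp hNq
    have hstep : ConjAb (G ⧸ N) := by
      rcases eq_or_ne q 2 with rfl | hq2
      · rcases t with _ | _ | t
        · exact absurd (Subgroup.card_eq_one.mp (by rw [ht, pow_zero])) hN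
        · exact hB.quotient_of_card_two (by rw [ht, pow_one])
        · obtain ⟨S⟩ : Nonempty (Sylow 2 G) := inferInstance
          have hSN : (S : Subgroup G) = N :=
            (S3909.result hB N).2 2 (t + 1 + 1) (by omega) ht ⟨hNab, hNexp⟩ S
          obtain ⟨H, hH⟩ := Subgroup.exists_right_complement'_of_coprime (N := N)
            (hSN ▸ S.card_coprime_index)
          exact hB.quotient_of_complement hH
      · exact hB.quotient_of_odd (ht ▸ (hq.odd_of_ne_two hq2).pow)
    have hlt : Nat.card (G ⧸ N) < n := by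
      rw [← hn, ← Subgroup.index_eq_card, ← Subgroup.card_mul_index N]
      have h2 : 1 < Nat.card ↥N := by
        rw [Finite.one_lt_card_iff_nontrivial, Subgroup.nontrivial_iff_ne_bot]; exact hN
      exact lt_mul_left (Nat.pos_of_ne_zero index_ne_zero_of_finite) h2
    exact ConjAb.congr (QuotientGroup.quotientQuotientEquivQuotient N M hNM)
      (ih _ hlt rfl inferInstance hstep (M.map (QuotientGroup.mk' N)))

end Cfsg.Agent.H73
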