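import Cfsg.Agent.H73.ConjAbelianSolvable
import Cfsg.Agent.Frobenius.Basic

/-!
# Structure of a solvable group with conjugate abelian subgroups and prime order minimal normal
subgroups: every Sylow subgroup is cyclic, or quaternion of order 8 and normal
-/

set_option autoImplicit false

namespace Cfsg.Agent.H73

open Subgroup

variable {L : Type*} [Group L] [Finite L]

/-- every minimal normal subgroup has prime order -/
def MinPrime (L : Type*) [Group L] : Prop :=
  ∀ R : Subgroup L, R.Normal → R ≠ ⊥ →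
    (∀ K : Subgroup L, K.Normal → K ≤ R → K = ⊥ ∨ K = R) → (Nat.card ↥R).Prime

/-- two commuting elements of order `r` generate the same subgroup -/
def UniqueOrder (L : Type*) [Group L] (r : ℕ) : Prop :=
  ∀ x y : L, orderOf x = r → orderOf y = r → x * y = y * x → y ∈ zpowers x

omit [Finite L] in
theorem conjNormal_comm_of_cyclic {O : Subgroup L} [O.Normal] (hO : IsCyclic ↥O)
    (a b : MulAut ↥O) : a * b = b * a := by
  obtain ⟨s, hs⟩ := hO.exists_generator
  obtain ⟨i, hi : s ^ i = a s⟩ := hs (a s)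
  obtain ⟨j, hj : s ^ j = b s⟩ := hs (b s)
  refine MulEquiv.ext fun o => ?_
  obtain ⟨k, rfl⟩ := hs o
  show a (b (s ^ k)) = b (a (s ^ k))
  simp only [map_zpow, ← hi, ← hj, ← zpow_mul]
  congr 1
  ring

omit [Finite L] in
theorem mem_centralizer_of_conjNormal {O : Subgroup L} [O.Normal] {u : L}
    (h : MulAut.conjNormal (H := O) u = 1) : u ∈ centralizer (O : Set L) := by
  rw [mem_centralizer_iff]
  intro o ho
  have := congrArg (fun e : MulAut ↥O => ((e ⟨o, ho⟩ : ↥O) : L)) h
  simp only [MulAut.one_apply, MulAut.conjNormal_apply] at this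
  exact (mul_inv_eq_iff_eq_mul.mp this).symm

theorem uniqueOrder_of_dvd_fitting [Group.IsSolvable L] (hB : ConjAb L) (hmin : MinPrime L) {r : ℕ}
    (hr : r.Prime) (hdvd : r ∣ Nat.card ↥(Cfsg.fittingSubgroup L)) : UniqueOrder L r := by
  have := Fact.mk hr
  have hO : Cfsg.pCore r L ≠ ⊥ := by
    intro h
    have hle : Cfsg.fittingSubgroup L ≤ Cfsg.pPrimeCore r L := by
      rw [Cores.iSup_pCore_eq_fittingSubgroup]
      refine (Cores.iSup_pCore_le_sup r).trans ?_
      rw [h, sup_bot_eq]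
    exact Cores.not_dvd_card_pPrimeCore (hdvd.trans (card_dvd_of_le hle))
  obtain ⟨R, hRn, hR, hRO, hRmin⟩ := Hall.exists_minimal_normal_le _ hO
  obtain ⟨n, hn⟩ := IsPGroup.iff_card.mp ((Cores.pCore_isPGroup (p := r) (G := L)).to_le hRO)
  have hprime := hmin R hRn hR hRmin
  rw [hn] at hprime
  rw [show n = 1 from Nat.Prime.eq_one_of_pow hprime, pow_one] at hn
  obtain ⟨m, hm⟩ := exists_prime_orderOf_dvd_card' (G := ↥R) r hn.symm.dvd
  intro x y hx hy _
  have hxR : x ∈ R := hB.mem_of_orderOf m.2 (by rw [Subgroup.orderOf_coe, hm, hx])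
  have hyR : y ∈ R := hB.mem_of_orderOf m.2 (by rw [Subgroup.orderOf_coe, hm, hy])
  have : zpowers x = R := eq_of_le_of_card_ge (zpowers_le.mpr hxR) (by rw [hn, Nat.card_zpowers, hx])
  exact this ▸ hyR

/-- in a `p`-subgroup, unique order gives at most `p` solutions of `x ^ p = 1` -/
theorem exists_zpowers_of_uniqueOrder {r : ℕ} [Fact r.Prime] (hu : UniqueOrder L r) {P : Subgroup L}
    (hP : IsPGroup r ↥P) [Nontrivial ↥P] :
    ∃ z : ↥P, orderOf z = r ∧ ∀ y : ↥P, y ^ r = 1 → y ∈ zpowers z := by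
  have hZ : Nontrivial (center ↥P) := hP.center_nontrivial
  obtain ⟨n, hn0, hn⟩ := (hP.to_subgroup (center ↥P)).nontrivial_iff_card.mp hZ
  obtain ⟨c, hc⟩ := exists_prime_orderOf_dvd_card' (G := ↥(center ↥P)) r (hn ▸ dvd_pow_self r hn0.ne')
  rw [← Subgroup.orderOf_coe] at hc
  refine ⟨c, hc, fun y hy => ?_⟩
  rcases eq_or_ne y 1 with rfl | hy1
  · exact one_mem _
  obtain ⟨i, hi : ((c : ↥P) : L) ^ i = (y : L)⟩ := hu _ _ (by rw [Subgroup.orderOf_coe, hc])
    (by rw [Subgroup.orderOf_coe, orderOf_eq_prime hy hy1])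
    (congrArg Subtype.val (Subgroup.mem_center_iff.mp c.2 y)).symm
  exact ⟨i, Subtype.ext (by simpa using hi)⟩

theorem cyclic_of_uniqueOrder {r : ℕ} [Fact r.Prime] (hr : r ≠ 2) (hu : UniqueOrder L r)
    {P : Subgroup L} (hP : IsPGroup r ↥P) : IsCyclic ↥P := by
  rcases subsingleton_or_nontrivial ↥P with h | h
  · infer_instance
  obtain ⟨z, hz, hy⟩ := exists_zpowers_of_uniqueOrder hu hP
  refine H61.isCyclic_of_card_pow_eq_one_le hr hP ?_
  calc Nat.card {y : ↥P // y ^ r = 1} ≤ Nat.card ↥(zpowers z) :=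
        Nat.card_le_card_of_injective (fun y => ⟨y.1, hy y.1 y.2⟩)
          (fun a b hab => Subtype.ext (congrArg (fun t : zpowers z => (t : ↥P)) hab))
    _ = r := by rw [Nat.card_zpowers, hz]

theorem cyclic_or_quaternion_of_uniqueOrder [Group.IsSolvable L] (hB : ConjAb L)
    (hu : UniqueOrder L 2) {P : Subgroup L} (hP : IsPGroup 2 ↥P) :
    IsCyclic ↥P ∨ Nonempty (↥P ≃* QuaternionGroup 2) := by
  have : Fact (Nat.Prime 2) := ⟨Nat.prime_two⟩
  have hel : ∀ {X : Subgroup L}, IsPGroup 2 ↥X → Cfsg.IsElementaryAbelian 2 X → IsCyclic ↥X := by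
    intro X hX he
    rcases subsingleton_or_nontrivial ↥X with h | h
    · infer_instance
    obtain ⟨z, hz, hy⟩ := exists_zpowers_of_uniqueOrder hu hX
    exact ⟨⟨z, fun y => hy y (Subtype.ext (by simpa using he.2 y y.2))⟩⟩
  obtain ⟨S, hS⟩ := hP.exists_le_sylow
  have hle : IsCyclic ↥(S : Subgroup L) → IsCyclic ↥P := fun h =>
    isCyclic_of_injective (inclusion hS) (inclusion_injective hS)
  rcases hB.sylow_two S.isPGroup' with h | h | ⟨k, ⟨e⟩⟩
  · exact Or.inl (hle h)
  · exact Or.inl (hle (hel S.isPGroup' h))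
  have h8 := hB.quaternion_small S e
  rcases hB.sylow_two hP with h | h | ⟨j, ⟨e'⟩⟩
  · exact Or.inl h
  · exact Or.inl (hel hP h)
  have : NeZero (2 ^ j) := ⟨by positivity⟩
  have hcardP : Nat.card ↥P = 4 * 2 ^ j := by
    rw [Nat.card_congr e'.toEquiv, Nat.card_eq_fintype_card, QuaternionGroup.card]
  have hle8 := (card_le_of_le hS).trans h8
  rcases j with _ | _ | j
  · left
    have : IsCyclic (QuaternionGroup 1) := QuaternionGroup.quaternionGroup_one_isCyclic
    exact isCyclic_of_surjective (e'.symm.toMonoidHom : QuaternionGroup 1 →* ↥P) e'.symm.surjective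
  · exact Or.inr ⟨e'⟩
  · rw [hcardP, pow_succ, pow_succ] at hle8
    have := Nat.two_pow_pos j
    omega

theorem quaternion_two_facts :
    (∀ a b : QuaternionGroup 2, a ^ 2 ≠ 1 → b ^ 2 ≠ 1 → a ^ 2 = b ^ 2) ∧
    (∀ a : QuaternionGroup 2, ∃ x y, x ^ 2 ≠ 1 ∧ y ^ 2 ≠ 1 ∧ a = x * y) ∧
    (∃ a b : QuaternionGroup 2, a ^ 2 ≠ 1 ∧ b ^ 2 ≠ 1 ∧ (a * b) ^ 2 ≠ 1) ∧
    (∀ a : QuaternionGroup 2, a ^ 2 ≠ 1 → ∃ b c, a ^ 2 = b * c * b⁻¹ * c⁻¹) ∧
    (Fintype.card {v : QuaternionGroup 2 × QuaternionGroup 2 // v.1 * v.2 ≠ v.2 * v.1} = 24) ∧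
    (∀ a b : QuaternionGroup 2, a * b ≠ b * a → ∀ c, ∃ i j : Fin 4, c = a ^ (i : ℕ) * b ^ (j : ℕ)) := by
  decide

omit [Finite L] in
/-- elements of coprime odd square order cannot act faithfully on the quaternion group -/
theorem exists_trivial_on_quaternion {O : Subgroup L} (eO : ↥O ≃* QuaternionGroup 2)
    {E : Type*} [Group E] [Finite E] {r : ℕ} [hr : Fact r.Prime] (hE : Nat.card E = r ^ 2) (hr2 : r ≠ 2)
    (φ : E →* MulAut ↥O) : ∃ u : E, u ≠ 1 ∧ φ u = 1 := by
  by_contra hno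
  push Not at hno
  obtain ⟨-, -, -, -, h24, hgen⟩ := quaternion_two_facts
  let ψ : E →* MulAut (QuaternionGroup 2) := (MulAut.congr eO).toMonoidHom.comp φ
  let _ : MulAction E {v : QuaternionGroup 2 × QuaternionGroup 2 // v.1 * v.2 ≠ v.2 * v.1} :=
    { smul := fun u v => ⟨(ψ u v.1.1, ψ u v.1.2), fun h => v.2 ((ψ u).injective (by
        rw [map_mul, map_mul]; exact h))⟩
      one_smul := fun v => by
        apply Subtype.ext
        show (ψ 1 v.1.1, ψ 1 v.1.2) = v.1
        simp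
      mul_smul := fun u w v => by
        apply Subtype.ext
        show (ψ (u * w) v.1.1, ψ (u * w) v.1.2) = (ψ u (ψ w v.1.1), ψ u (ψ w v.1.2))
        simp }
  have hdvd := Frobenius.dvd_card_of_free E
    (X := {v : QuaternionGroup 2 × QuaternionGroup 2 // v.1 * v.2 ≠ v.2 * v.1}) fun u v huv => by
    have h1 : ψ u v.1.1 = v.1.1 := congrArg (fun w => w.1.1) huv
    have h2 : ψ u v.1.2 = v.1.2 := congrArg (fun w => w.1.2) huv
    by_contra hu
    apply hno u hu
    have : ψ u = 1 := by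
      refine MulEquiv.ext fun c => ?_
      obtain ⟨i, j, rfl⟩ := hgen _ _ v.2 c
      rw [map_mul, map_pow, map_pow, h1, h2]
      rfl
    have h3 := congrArg (MulAut.congr eO).symm this
    rw [map_one] at h3
    rw [← h3]
    exact ((MulAut.congr eO).symm_apply_apply _).symm
  rw [hE, Nat.card_eq_fintype_card, h24] at hdvd
  have hle : r ≤ 4 := by
    have := Nat.le_of_dvd (by norm_num) hdvd
    nlinarith
  have := hr.out.two_le
  interval_cases r <;>
    first
    | exact hr2 rfl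
    | exact absurd hdvd (by decide)

theorem uniqueOrder_all [Group.IsSolvable L] (hB : ConjAb L) (hmin : MinPrime L) {r : ℕ}
    (hr : r.Prime) : UniqueOrder L r := by
  by_cases hdvd : r ∣ Nat.card ↥(Cfsg.fittingSubgroup L)
  · exact uniqueOrder_of_dvd_fitting hB hmin hr hdvd
  have := Fact.mk hr
  intro x y hx hy hxy
  by_contra hyx
  apply hdvd
  suffices hcen : ∀ s : Nat.Primes, x ∈ centralizer (Cfsg.pCore (s : ℕ) L : Set L) by
    have hxF : x ∈ Cfsg.fittingSubgroup L := by
      refine Cores.centralizer_fittingSubgroup_le ?_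
      rw [mem_centralizer_iff]
      intro o ho
      have hle : Cfsg.fittingSubgroup L ≤ centralizer ({x} : Set L) := by
        rw [Cores.iSup_pCore_eq_fittingSubgroup]
        refine iSup_le fun s o' ho' => ?_
        rw [mem_centralizer_singleton_iff]
        exact mem_centralizer_iff.mp (hcen s) o' ho'
      exact mem_centralizer_singleton_iff.mp (hle ho)
    exact hx ▸ Subgroup.orderOf_dvd_natCard _ hxF
  intro s
  have := Fact.mk s.2
  set O := Cfsg.pCore (s : ℕ) L
  have : O.Normal := inferInstance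
  by_cases hO : O = ⊥
  · rw [hO, mem_centralizer_iff]
    intro o ho
    rw [SetLike.mem_coe, mem_bot] at ho
    simp [ho]
  -- it is enough that some non-trivial element of `⟨x, y⟩` centralises `O`
  suffices key : ∃ u : L, u ∈ centralizer (O : Set L) ∧ orderOf u = r by
    obtain ⟨u, hu, hur⟩ := key
    exact hB.mem_of_orderOf hu (hur.trans hx.symm)
  have hsdvd : (s : ℕ) ∣ Nat.card ↥(Cfsg.fittingSubgroup L) := by
    obtain ⟨n, hn⟩ := IsPGroup.iff_card.mp (Cores.pCore_isPGroup (p := (s : ℕ)) (G := L))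
    have hn0 : n ≠ 0 := fun h => hO (Subgroup.card_eq_one.mp (by rw [hn, h, pow_zero]))
    exact ((dvd_pow_self _ hn0).trans hn.symm.dvd).trans
      (card_dvd_of_le (Cores.pCore_le_fittingSubgroup s.2))
  have husO := uniqueOrder_of_dvd_fitting hB hmin s.2 hsdvd
  set φ : L →* MulAut ↥O := MulAut.conjNormal
  have hcase : IsCyclic ↥O ∨ ((s : ℕ) = 2 ∧ Nonempty (↥O ≃* QuaternionGroup 2)) := by
    by_cases hs : (s : ℕ) = 2
    · have hp : IsPGroup 2 ↥O := by
        intro u
        obtain ⟨n, hn⟩ := Cores.pCore_isPGroup (p := (s : ℕ)) (G := L) u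
        exact ⟨n, hs ▸ hn⟩
      rcases cyclic_or_quaternion_of_uniqueOrder hB (hs ▸ husO) hp with h | h
      · exact Or.inl h
      · exact Or.inr ⟨hs, h⟩
    · exact Or.inl (cyclic_of_uniqueOrder hs husO Cores.pCore_isPGroup)
  rcases hcase with hcyc | ⟨hs2, ⟨eO⟩⟩
  · obtain ⟨g, hg⟩ := hB (zpowers x) (zpowers y) inferInstance inferInstance
      (by rw [Nat.card_zpowers, Nat.card_zpowers, hx, hy])
    obtain ⟨z, ⟨t, rfl⟩, hz⟩ : y ∈ (zpowers x).map (MulAut.conj g).toMonoidHom :=
      hg ▸ mem_zpowers y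
    have hφy : φ y = φ (x ^ t) := by
      rw [← hz]
      show φ (g * x ^ t * g⁻¹) = _
      rw [map_mul, map_mul, conjNormal_comm_of_cyclic hcyc (φ g), mul_assoc, ← map_mul,
        mul_inv_cancel, map_one, mul_one]
    refine ⟨y * (x ^ t)⁻¹, mem_centralizer_of_conjNormal ?_, ?_⟩
    · show φ (y * (x ^ t)⁻¹) = 1
      rw [map_mul, map_inv, hφy, mul_inv_cancel]
    · refine orderOf_eq_prime ?_ fun h => hyx ?_
      · have hc : Commute y (x ^ t)⁻¹ := ((show Commute y x from hxy.symm).zpow_right t).inv_right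
        rw [hc.mul_pow, ← hy, pow_orderOf_eq_one, one_mul, inv_pow, ← zpow_natCast, ← zpow_mul,
          mul_comm, zpow_mul, zpow_natCast, hy, ← hx, pow_orderOf_eq_one, one_zpow, inv_one]
      · exact (mul_inv_eq_one.mp h) ▸ zpow_mem (mem_zpowers x) t
  · let f := MonoidHom.noncommCoprod (zpowers x).subtype (zpowers y).subtype (by
      intro a b
      obtain ⟨i, hi⟩ := a.2
      obtain ⟨j, hj⟩ := b.2
      show Commute (a : L) (b : L)
      rw [← show x ^ i = a from hi, ← show y ^ j = b from hj]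
      exact (show Commute x y from hxy).zpow_zpow i j)
    obtain ⟨u, hu1, hu⟩ := exists_trivial_on_quaternion eO (E := ↥(zpowers x) × ↥(zpowers y))
      (r := r) (by rw [Nat.card_prod, Nat.card_zpowers, Nat.card_zpowers, hx, hy, sq])
      (fun h => hdvd (by rw [h, ← hs2]; exact hsdvd)) (φ.comp f)
    refine ⟨f u, mem_centralizer_of_conjNormal hu, ?_⟩
    have hfu : f u ≠ 1 := by
      intro h
      apply hu1
      obtain ⟨⟨a, ha⟩, ⟨b, hb⟩⟩ := u
      have hab : a * b = 1 := h
      have hb1 : b = 1 := by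
        by_contra hb1
        apply hyx
        have hbx : b ∈ zpowers x := by rw [eq_inv_of_mul_eq_one_right hab]; exact inv_mem ha
        have hob : orderOf b = r := by
          refine (Nat.prime_def.mp hr).2 _ ?_ |>.resolve_left fun h1 => hb1 (orderOf_eq_one_iff.mp h1)
          exact hy ▸ (Nat.card_zpowers y) ▸ Subgroup.orderOf_dvd_natCard _ hb
        have : zpowers b = zpowers y := eq_of_le_of_card_ge (zpowers_le.mpr hb)
          (by rw [Nat.card_zpowers, Nat.card_zpowers, hob, hy])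
        exact zpowers_le.mpr hbx (this.symm ▸ mem_zpowers y)
      rw [hb1, mul_one] at hab
      subst hb1 hab
      rfl
    refine orderOf_eq_prime ?_ hfu
    rw [← map_pow]
    have h1 : u ^ r = 1 := by
      refine Prod.ext ?_ ?_
      · show u.1 ^ r = 1
        rw [← hx, ← Nat.card_zpowers]
        exact pow_card_eq_one'
      · show u.2 ^ r = 1
        rw [← hy, ← Nat.card_zpowers]
        exact pow_card_eq_one'
    rw [h1, map_one]

/-- if a Sylow `2`-subgroup is quaternion, it is normal -/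
theorem quaternion_normal [Group.IsSolvable L] (hB : ConjAb L) (hmin : MinPrime L) {Q : Subgroup L}
    (eQ : ↥Q ≃* QuaternionGroup 2) : Q.Normal := by
  classical
  have : Fact (Nat.Prime 2) := ⟨Nat.prime_two⟩
  have hu2 := uniqueOrder_all hB hmin Nat.prime_two
  obtain ⟨hsq, hprod, ⟨a, b, ha, hb, hab⟩, hcomm, -, -⟩ := quaternion_two_facts
  have hQcard : Nat.card ↥Q = 8 := by
    rw [Nat.card_congr eQ.toEquiv, Nat.card_eq_fintype_card, QuaternionGroup.card]
  let g : QuaternionGroup 2 →* L := Q.subtype.comp eQ.symm.toMonoidHom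
  have hg : Function.Injective g := Q.subtype_injective.comp eQ.symm.injective
  have hgr : ∀ c, g c ∈ Q := fun c => (eQ.symm c).2
  have hgs : ∀ x ∈ Q, ∃ c, g c = x := fun x hx => ⟨eQ ⟨x, hx⟩, by simp [g]⟩
  have hord : ∀ c : QuaternionGroup 2, c ^ 2 ≠ 1 → orderOf (g c) = 4 := by
    intro c hc
    rw [orderOf_injective g hg]
    refine orderOf_eq_prime_pow (p := 2) (n := 1) (by simpa using hc) ?_
    revert hc c
    decide
  set O := Cfsg.pCore 2 L
  have hOn : O.Normal := inferInstance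
  have hQ2 : IsPGroup 2 ↥Q := IsPGroup.of_card (n := 3) (by rw [hQcard]; norm_num)
  obtain ⟨S, hS⟩ := hQ2.exists_le_sylow
  have hSQ : (S : Subgroup L) = Q := by
    rcases cyclic_or_quaternion_of_uniqueOrder hB hu2 S.isPGroup' with h | h
    · exfalso
      have hc : IsCyclic ↥Q := isCyclic_of_injective (inclusion hS) (inclusion_injective hS)
      have := hc.commGroup
      exact (show ¬ ∀ u v : QuaternionGroup 2, u * v = v * u by decide) fun u v =>
        eQ.symm.injective (by rw [map_mul, map_mul]; exact mul_comm' _ _)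
    · obtain ⟨e⟩ := h
      exact (eq_of_le_of_card_ge hS (by
        rw [hQcard, Nat.card_congr e.toEquiv, Nat.card_eq_fintype_card, QuaternionGroup.card])).symm
  have hOQ : O ≤ Q := hSQ ▸ Cores.pCore_le_sylow S
  by_cases hbig : ∃ x ∈ O, x ^ 2 ≠ 1
  · obtain ⟨x, hxO, hx2⟩ := hbig
    have hQO : Q ≤ O := by
      intro q hq
      obtain ⟨c, rfl⟩ := hgs q hq
      obtain ⟨d, rfl⟩ := hgs x (hOQ hxO)
      obtain ⟨u, v, hu, hv, rfl⟩ := hprod c
      have hd : d ^ 2 ≠ 1 := fun h => hx2 (by rw [← map_pow, h, map_one])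
      rw [map_mul]
      exact mul_mem (hB.mem_of_orderOf hxO (by rw [hord _ hd, hord _ hu]))
        (hB.mem_of_orderOf hxO (by rw [hord _ hd, hord _ hv]))
    exact le_antisymm hOQ hQO ▸ hOn
  exfalso
  push Not at hbig
  -- now `Q` centralises the Fitting subgroup
  suffices hcen : Q ≤ centralizer (Cfsg.fittingSubgroup L : Set L) by
    have h := Cores.le_pCore_of_le_sup (q := 2) hQ2
      ((hcen.trans Cores.centralizer_fittingSubgroup_le).trans
        (Cores.iSup_pCore_eq_fittingSubgroup (G := L) ▸ Cores.iSup_pCore_le_sup 2))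
    exact ha (hg (by rw [map_one, map_pow]; exact hbig _ (h (hgr a))))
  rw [← Subgroup.le_centralizer_iff, Cores.iSup_pCore_eq_fittingSubgroup]
  refine iSup_le fun s => ?_
  rw [Subgroup.le_centralizer_iff]
  have := Fact.mk s.2
  set P := Cfsg.pCore (s : ℕ) L
  have : P.Normal := inferInstance
  rcases subsingleton_or_nontrivial ↥P with h | h
  · intro q _
    rw [mem_centralizer_iff]
    intro o ho
    have : o = 1 := congrArg Subtype.val (Subsingleton.elim (⟨o, ho⟩ : ↥P) 1)
    simp [this]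
  have hcyc : IsCyclic ↥P := by
    by_cases hs : (s : ℕ) = 2
    · have hu : UniqueOrder L (s : ℕ) := hs ▸ hu2
      obtain ⟨z, -, hy⟩ := exists_zpowers_of_uniqueOrder hu
        (Cores.pCore_isPGroup (p := (s : ℕ)) (G := L))
      refine ⟨⟨z, fun y => hy y (Subtype.ext ?_)⟩⟩
      rw [Subgroup.coe_pow, Subgroup.coe_one, hs]
      exact hbig _ (hs ▸ (y.2 : (y : L) ∈ Cfsg.pCore (s : ℕ) L) : (y : L) ∈ Cfsg.pCore 2 L)
    · exact cyclic_of_uniqueOrder hs (uniqueOrder_all hB hmin s.2) Cores.pCore_isPGroup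
  set φ : L →* MulAut ↥P := MulAut.conjNormal
  have hcl : ∀ g' x', φ (g' * x' * g'⁻¹) = φ x' := fun g' x' => by
    rw [map_mul, map_mul, conjNormal_comm_of_cyclic hcyc (φ g'), mul_assoc, ← map_mul,
      mul_inv_cancel, map_one, mul_one]
  have hsq1 : ∀ c : QuaternionGroup 2, c ^ 2 ≠ 1 → φ (g c) ^ 2 = 1 := by
    intro c hc
    obtain ⟨u, v, huv⟩ := hcomm c hc
    rw [← map_pow, ← map_pow, huv, map_mul g, map_mul g, map_mul g, map_inv g, map_inv g,
      map_mul φ, hcl, ← map_mul φ, mul_inv_cancel, map_one]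
  have hsame : ∀ c d : QuaternionGroup 2, c ^ 2 ≠ 1 → d ^ 2 ≠ 1 → φ (g c) = φ (g d) := by
    intro c d hc hd
    obtain ⟨g', hg'⟩ := hB (zpowers (g c)) (zpowers (g d)) inferInstance inferInstance
      (by rw [Nat.card_zpowers, Nat.card_zpowers, hord c hc, hord d hd])
    obtain ⟨z, ⟨t, rfl⟩, hz⟩ : g d ∈ (zpowers (g c)).map (MulAut.conj g').toMonoidHom :=
      hg' ▸ mem_zpowers (g d)
    have h1 : φ (g d) = φ (g c) ^ t := by
      rw [← map_zpow, ← hz]
      exact hcl g' _
    rcases Int.even_or_odd t with ⟨k, rfl⟩ | ⟨k, rfl⟩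
    · exfalso
      have h2 : (g c ^ (k + k)) ^ 2 = 1 := by
        rw [← zpow_natCast, ← zpow_mul, show (k + k) * ((2 : ℕ) : ℤ) = ((4 : ℕ) : ℤ) * k by push_cast; ring,
          zpow_mul, zpow_natCast, ← hord c hc, pow_orderOf_eq_one, one_zpow]
      have h3 : g d ^ 2 = 1 := by
        rw [← hz, ← map_pow, h2, map_one]
      exact hd (hg (by rw [map_pow, map_one, h3]))
    · rw [h1, zpow_add, zpow_mul, show (2 : ℤ) = ((2 : ℕ) : ℤ) from rfl, zpow_natCast, hsq1 c hc,
        one_zpow, one_mul, zpow_one]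
  intro q hq
  obtain ⟨c, rfl⟩ := hgs q hq
  apply mem_centralizer_of_conjNormal
  show φ (g c) = 1
  have hone : ∀ d, d ^ 2 ≠ 1 → φ (g d) = 1 := by
    have h := hsame a (a * b) ha hab
    rw [map_mul, map_mul, ← hsame a b ha hb] at h
    intro d hd
    rw [← hsame a d ha hd]
    exact mul_eq_left.mp h.symm
  obtain ⟨u, v, hu, hv, rfl⟩ := hprod c
  rw [map_mul, map_mul, hone u hu, hone v hv, mul_one]

end Cfsg.Agent.H73
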