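import Mathlib.NumberTheory.Multiplicity
import Mathlib.Data.ZMod.Basic

/-!
# Geometric sums `1 + r + ⋯ + r^(t-1)` for `r ≡ 1` modulo an odd prime
-/

set_option autoImplicit false

namespace Cfsg.Agent.H73

/-- `1 + r + ⋯ + r^(t-1)`. -/
def geo (r t : ℕ) : ℕ := ∑ i ∈ Finset.range t, r ^ i

theorem geo_zero (r : ℕ) : geo r 0 = 0 := rfl

theorem geo_succ (r t : ℕ) : geo r (t + 1) = geo r t + r ^ t := Finset.sum_range_succ _ _

theorem geo_add (r s t : ℕ) : geo r (s + t) = geo r s + r ^ s * geo r t := by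
  induction t with
  | zero => simp [geo_zero]
  | succ t ih => rw [← add_assoc, geo_succ, geo_succ, ih, pow_add]; ring

theorem geo_mul (r s t : ℕ) : geo r (s * t) = geo r s * geo (r ^ s) t := by
  induction t with
  | zero => simp [geo_zero]
  | succ t ih => rw [mul_add_one, geo_add, ih, geo_succ, ← pow_mul]; ring

theorem mul_geo_add_one (c t : ℕ) : c * geo (c + 1) t + 1 = (c + 1) ^ t := by
  induction t with
  | zero => simp [geo_zero]
  | succ t ih => rw [geo_succ, mul_add, add_right_comm, ih, pow_succ]; ring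

theorem geo_one (t : ℕ) : geo 1 t = t := by simp [geo]

variable {p : ℕ} [hp : Fact p.Prime]

theorem geo_cast (r t : ℕ) (hr : (r : ZMod p) = 1) : (geo r t : ZMod p) = t := by
  simp [geo, hr]

theorem geo_prime (hp2 : p ≠ 2) (r : ℕ) (hr : (r : ZMod p) = 1) :
    ∃ u : ℕ, geo r p = p * u ∧ ¬ p ∣ u := by
  have hpo : Odd p := hp.out.odd_of_ne_two hp2
  have h1 : p ∣ geo r p := by
    rw [← ZMod.natCast_eq_zero_iff] <;> simp [geo_cast r p hr]
  obtain ⟨u, hu⟩ := h1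
  refine ⟨u, hu, ?_⟩
  rintro ⟨v, rfl⟩
  have hd : ((p : ℤ)) ∣ (r : ℤ) - 1 := by
    rw [← ZMod.intCast_zmod_eq_zero_iff_dvd]; simp [hr]
  obtain ⟨b, hb⟩ := hd
  have h2 := odd_sq_dvd_geom_sum₂_sub (R := ℤ) (1 : ℤ) b hpo
  have h3 : (∑ i ∈ Finset.range p, ((1 : ℤ) + (p : ℤ) * b) ^ i * (1 : ℤ) ^ (p - 1 - i)) = (geo r p : ℤ) := by
    rw [← hb, add_sub_cancel]
    simp [geo]
  rw [h3, hu, one_pow, mul_one] at h2
  have h4 : (p : ℤ) ^ 2 ∣ (p : ℤ) := by
    have h5 : (p : ℤ) ^ 2 ∣ ((p * (p * v) : ℕ) : ℤ) := ⟨v, by push_cast; ring⟩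
    simpa using Int.dvd_sub h5 h2
  have h6 : p ^ 2 ∣ p := by exact_mod_cast h4
  have := Nat.le_of_dvd hp.out.pos h6
  have := hp.out.two_le
  nlinarith

theorem dvd_geo_iff (hp2 : p ≠ 2) (n : ℕ) : ∀ (r t : ℕ), (r : ZMod p) = 1 →
    (p ^ n ∣ geo r t ↔ p ^ n ∣ t) := by
  induction n with
  | zero => simp
  | succ n ih =>
    intro r t hr
    have key : p ∣ t → (p ^ (n + 1) ∣ geo r t ↔ p ^ (n + 1) ∣ t) := by
      rintro ⟨t', rfl⟩
      obtain ⟨u, hu, hnu⟩ := geo_prime hp2 r hr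
      have hr' : ((r ^ p : ℕ) : ZMod p) = 1 := by simp [hr]
      rw [geo_mul, hu, pow_succ', mul_assoc, Nat.mul_dvd_mul_iff_left hp.out.pos,
        Nat.mul_dvd_mul_iff_left hp.out.pos]
      exact ((Nat.Coprime.pow_left n (hp.out.coprime_iff_not_dvd.mpr hnu)).dvd_mul_left).trans
        (ih _ t' hr')
    have e : p ∣ geo r t ↔ p ∣ t := by
      rw [← ZMod.natCast_eq_zero_iff, geo_cast r t hr, ZMod.natCast_eq_zero_iff]
    refine ⟨fun h => ?_, fun h => ?_⟩
    · exact (key (e.mp ((dvd_pow_self p n.succ_ne_zero).trans h))).mp h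
    · exact (key ((dvd_pow_self p n.succ_ne_zero).trans h)).mpr h

theorem geo_bijective (hp2 : p ≠ 2) (n r : ℕ) (hr : (r : ZMod p) = 1) (x : ZMod (p ^ n)) :
    ∃ t : ℕ, (geo r t : ZMod (p ^ n)) = x := by
  haveI : NeZero (p ^ n) := ⟨pow_ne_zero n hp.out.ne_zero⟩
  have hru : IsUnit (r : ZMod (p ^ n)) := by
    rw [ZMod.isUnit_iff_coprime]
    refine Nat.Coprime.pow_right n (hp.out.coprime_iff_not_dvd.mpr fun h => ?_).symm
    rw [← ZMod.natCast_eq_zero_iff, hr] at h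
    exact one_ne_zero h
  let f : Fin (p ^ n) → ZMod (p ^ n) := fun t => (geo r (t : ℕ) : ZMod (p ^ n))
  have key : ∀ i j : Fin (p ^ n), (i : ℕ) ≤ j → f i = f j → i = j := by
    intro i j hij h
    obtain ⟨d, hd⟩ := Nat.exists_eq_add_of_le hij
    simp only [f, hd, geo_add, Nat.cast_add, Nat.cast_mul, Nat.cast_pow] at h
    have h1 : (geo r d : ZMod (p ^ n)) = 0 :=
      (hru.pow (i : ℕ)).mul_right_eq_zero.mp (add_eq_left.mp h.symm)
    rw [ZMod.natCast_eq_zero_iff, dvd_geo_iff hp2 n r d hr] at h1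
    have : d = 0 := Nat.eq_zero_of_dvd_of_lt h1 (by have := j.2; omega)
    exact Fin.ext (by omega)
  have hinj : Function.Injective f := fun i j h =>
    (le_total (i : ℕ) j).elim (fun h' => key i j h' h) fun h' => (key j i h' h.symm).symm
  obtain ⟨t, ht⟩ := (hinj.bijective_of_nat_card_le (by simp [Nat.card_zmod])).2 x
  exact ⟨t, ht⟩

end Cfsg.Agent.H73
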