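import Mathlib

/-!
# An abelian group of exponent `q` irreducible under an endomorphism `σ` with `σ ^ (q ^ e) = σ`
-/

set_option autoImplicit false

namespace Cfsg.Agent.H73

open Polynomial

variable {M : Type*} [AddCommGroup M]

theorem card_le_of_commRing [Finite M] [Nontrivial M] {R : Type*} [CommRing R] {n : ℕ} (hn : 1 < n)
    (ψ : R →+* AddMonoid.End M) (hψ : Function.Injective ψ) (s : R) (σ : AddMonoid.End M)
    (hs : ψ s = σ) (hfrob : ∀ r : R, r ^ n = r)
    (hirr : ∀ S : AddSubgroup M, (∀ m ∈ S, σ m ∈ S) → S = ⊥ ∨ S = ⊤) : Nat.card M ≤ n := by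
  classical
  have hcomm : ∀ r : R, ∀ m : M, ψ r (σ m) = σ (ψ r m) := by
    intro r m
    rw [← hs]
    show (ψ r * ψ s) m = (ψ s * ψ r) m
    rw [← map_mul, ← map_mul, mul_comm]
  have hker : ∀ r : R, r ≠ 0 → ∀ m : M, ψ r m = 0 → m = 0 := by
    intro r hr
    let S : AddSubgroup M := AddMonoidHom.ker (ψ r : M →+ M)
    rcases hirr S (fun m hm => by
      replace hm : ψ r m = 0 := hm
      show ψ r (σ m) = 0
      rw [hcomm, hm, map_zero]) with h | h
    · intro m hm
      have : m ∈ S := hm
      rwa [h, AddSubgroup.mem_bot] at this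
    · exfalso
      apply hr
      apply hψ
      rw [map_zero]
      ext m
      exact (h ▸ AddSubgroup.mem_top m : m ∈ S)
  obtain ⟨v, hv⟩ := exists_ne (0 : M)
  let ev : R →+ M :=
    { toFun := fun r => ψ r v
      map_zero' := by rw [map_zero]; rfl
      map_add' := fun a b => by rw [map_add]; rfl }
  have hev : Function.Bijective ev := by
    refine ⟨(injective_iff_map_eq_zero ev).mpr fun r hr => ?_, ?_⟩
    · by_contra hr0
      exact hv (hker r hr0 v hr)
    · rcases hirr ev.range (by
        rintro _ ⟨r, rfl⟩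
        refine ⟨s * r, ?_⟩
        show ψ (s * r) v = σ (ψ r v)
        rw [map_mul, hs]
        rfl) with h | h
      · exfalso
        apply hv
        have : ev 1 ∈ ev.range := ⟨1, rfl⟩
        rw [h, AddSubgroup.mem_bot] at this
        simpa [ev] using this
      · exact AddMonoidHom.range_eq_top.mp h
  have hnt : Nontrivial R := hev.2.nontrivial
  have : NoZeroDivisors R := by
    refine ⟨fun {a b} hab => ?_⟩
    by_contra hne
    push Not at hne
    have h2 : ψ a (ψ b v) = 0 := by
      show (ψ a * ψ b) v = 0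
      rw [← map_mul, hab, map_zero]
      rfl
    exact hv (hker b hne.2 v (hker a hne.1 _ h2))
  have : IsDomain R := NoZeroDivisors.to_isDomain R
  have : Finite R := Finite.of_injective ev hev.1
  have := Fintype.ofFinite R
  rw [← Nat.card_congr (Equiv.ofBijective ev hev), Nat.card_eq_fintype_card]
  have hdeg : (X ^ n - X : R[X]).natDegree = n := by
    rw [natDegree_sub_eq_left_of_natDegree_lt (by rw [natDegree_X_pow, natDegree_X]; exact hn), natDegree_X_pow]
  have hpoly : (X ^ n - X : R[X]) ≠ 0 := fun h => by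
    rw [h, natDegree_zero] at hdeg
    omega
  calc Fintype.card R ≤ (X ^ n - X : R[X]).roots.toFinset.card := by
        refine Finset.card_le_card fun r _ => ?_
        rw [Multiset.mem_toFinset, mem_roots hpoly, IsRoot, eval_sub, eval_pow, eval_X, hfrob r, sub_self]
    _ ≤ (X ^ n - X : R[X]).roots.card := Multiset.toFinset_card_le _
    _ ≤ (X ^ n - X : R[X]).natDegree := card_roots' _
    _ = n := hdeg

theorem frob_eq_self {R : Type*} [CommRing R] {q : ℕ} [Fact q.Prime] [CharP R q] (e : ℕ) {s : R}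
    (hs : s ^ (q ^ e) = s) (hgen : ∀ r : R, ∃ f : ℤ[X], f.eval₂ (Int.castRingHom R) s = r) (r : R) :
    r ^ (q ^ e) = r := by
  obtain ⟨f, rfl⟩ := hgen r
  induction f using Polynomial.induction_on' with
  | add a b ha hb => rw [eval₂_add, add_pow_char_pow, ha, hb]
  | monomial k n =>
    rw [eval₂_monomial, mul_pow, ← pow_mul, mul_comm k, pow_mul, hs]
    congr 1
    rw [eq_intCast, ← map_intCast (ZMod.castHom (dvd_refl q) R) n, ← map_pow, ZMod.pow_card_pow]

/-- If an endomorphism `σ` of a group of exponent `q` with `σ ^ (q ^ e) = σ` leaves no proper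
non-trivial subgroup invariant, then the group has at most `q ^ e` elements. -/
theorem card_le_of_irreducible_end [Finite M] [Nontrivial M] {q e : ℕ} [hq : Fact q.Prime]
    (he : e ≠ 0) (hchar : ∀ m : M, q • m = 0) (σ : AddMonoid.End M) (hσ : σ ^ (q ^ e) = σ)
    (hirr : ∀ S : AddSubgroup M, (∀ m ∈ S, σ m ∈ S) → S = ⊥ ∨ S = ⊤) : Nat.card M ≤ q ^ e := by
  set φ : ℤ[X] →+* AddMonoid.End M :=
    eval₂RingHom' (Int.castRingHom (AddMonoid.End M)) σ (fun n => Int.cast_commute n σ)
  set ψ := RingHom.kerLift φ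
  have hψ : Function.Injective ψ := RingHom.kerLift_injective φ
  set s := Ideal.Quotient.mk (RingHom.ker φ) X
  have hs : ψ s = σ := by
    show φ X = σ
    simp [φ]
  obtain ⟨v, hv⟩ := exists_ne (0 : M)
  have hq0 : (q : ℤ[X] ⧸ RingHom.ker φ) = 0 := by
    apply hψ
    rw [map_natCast, map_zero]
    ext m
    show (q : AddMonoid.End M) m = 0
    rw [AddMonoid.End.natCast_apply]
    exact hchar m
  have : Nontrivial (ℤ[X] ⧸ RingHom.ker φ) := ⟨1, 0, fun h => hv (by
    have := congrArg (fun r => ψ r v) h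
    simpa using this)⟩
  have : CharP (ℤ[X] ⧸ RingHom.ker φ) q := (CharP.charP_iff_prime_eq_zero hq.out).mpr hq0
  have hs' : s ^ (q ^ e) = s := hψ (by rw [map_pow, hs, hσ])
  refine card_le_of_commRing (Nat.one_lt_pow he hq.out.one_lt) ψ hψ s σ hs
    (frob_eq_self e hs' fun r => ?_) hirr
  obtain ⟨f, rfl⟩ := Ideal.Quotient.mk_surjective r
  refine ⟨f, ?_⟩
  show _ = Ideal.Quotient.mk (RingHom.ker φ) f
  conv_rhs => rw [← eval₂_C_X (p := f), hom_eval₂]
  congr 1

end Cfsg.Agent.H73
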