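import Cfsg.Agent.H73.LowerCentralSoluble
import Cfsg.Agent.H41.Nilpotent
import Cfsg.Agent.Fusion.Frobenius
import Cfsg.Agent.Thompson.BaerSuzuki
import Cfsg.Agent.Cores.GlaubermanZStar

/-!
The order condition forces solubility, given that groups of odd order are soluble; the criterion
for nilpotency of a term of the lower central series.
-/

set_option autoImplicit false

namespace Cfsg.Agent.H73.BW

open Subgroup Cfsg

universe u

variable {G : Type u} [Group G] [Finite G]

/-- A stabiliser containing all odd elements and a Sylow 2-subgroup is everything. -/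
theorem eq_top_of_odd_mem {H : Type*} [Group H] [Finite H] {C : Subgroup H}
    (T : Sylow 2 H) (hT : (T : Subgroup H) ≤ C)
    (h : ∀ g : H, (orderOf g).Coprime 2 → g ∈ C) : C = ⊤ := by
  rw [eq_top_iff]
  intro g _
  refine (index_eq_one.mp ?_ : C = ⊤) ▸ mem_top g
  by_contra hne
  obtain ⟨r, hr, hrd⟩ := Nat.exists_prime_and_dvd hne
  haveI : Fact r.Prime := ⟨hr⟩
  by_cases h2 : r = 2
  · subst h2
    exact T.not_dvd_index (hrd.trans (index_dvd_of_le hT))
  · obtain ⟨R⟩ : Nonempty (Sylow r H) := inferInstance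
    refine R.not_dvd_index (hrd.trans (index_dvd_of_le fun x hx => h x ?_))
    obtain ⟨j, hj⟩ := R.isPGroup' ⟨x, hx⟩
    exact coprime_orderOf_of_pow Nat.prime_two hr h2 (congrArg Subtype.val hj)

/-- The fusion step: if the odd elements normalising `V` centralise it, a Sylow 2-subgroup of
`N(V)` fixing `z ∈ V` makes all of `N(V)` fix it. -/
theorem commute_of_sylow_fix {X : Type*} [Group X] [Finite X] {V : Subgroup X} {z : X} (hz : z ∈ V)
    (hodd : ∀ g ∈ normalizer (V : Set X), (orderOf g).Coprime 2 → g ∈ centralizer (V : Set X))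
    {H : Subgroup X} (hH : H ≤ normalizer (V : Set X)) (T : Sylow 2 H)
    (hT : ∀ t ∈ (T : Subgroup H), Commute (t : X) z) {g : X} (hg : g ∈ H) : Commute g z := by
  have := eq_top_of_odd_mem (C := (centralizer {z}).subgroupOf H) T
    (fun t ht => by rw [mem_subgroupOf, mem_centralizer_singleton_iff]; exact hT t ht)
    (fun t ht => by
      rw [mem_subgroupOf, mem_centralizer_singleton_iff]
      exact (mem_centralizer_iff.mp (hodd t (hH t.2) (by rwa [Subgroup.orderOf_coe])) z hz).symm)
  have hmem : (⟨g, hg⟩ : H) ∈ (centralizer {z}).subgroupOf H := this ▸ mem_top _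
  rwa [mem_subgroupOf, mem_centralizer_singleton_iff] at hmem

/-- The elements squaring to `1` of the centre of `R`, as a subgroup of the ambient group. -/
def omegaZ {X : Type*} [Group X] (R : Subgroup X) : Subgroup X where
  carrier := {x | x ∈ R ∧ x ^ 2 = 1 ∧ ∀ r ∈ R, r * x = x * r}
  one_mem' := ⟨R.one_mem, one_pow 2, fun r _ => by simp⟩
  mul_mem' := by
    rintro a b ⟨ha, ha2, hac⟩ ⟨hb, hb2, hbc⟩
    refine ⟨R.mul_mem ha hb, ?_, fun r hr => ?_⟩
    · rw [(Commute.mul_pow (show Commute a b from hbc a ha) 2), ha2, hb2, one_mul]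
    · rw [← mul_assoc, hac r hr, mul_assoc, hbc r hr, mul_assoc]
  inv_mem' := by
    rintro a ⟨ha, ha2, hac⟩
    exact ⟨R.inv_mem ha, by rw [inv_pow, ha2, inv_one], fun r hr => (Commute.inv_right (hac r hr)).eq⟩

theorem normalizer_le_omegaZ {X : Type*} [Group X] (R : Subgroup X) :
    normalizer (R : Set X) ≤ normalizer (omegaZ R : Set X) := by
  intro g hg
  have hfwd : ∀ g ∈ normalizer (R : Set X), ∀ x ∈ omegaZ R, g * x * g⁻¹ ∈ omegaZ R := by
    rintro g hg x ⟨hx, hx2, hxc⟩
    refine ⟨(mem_normalizer_iff.mp hg x).mp hx, by rw [conj_pow, hx2]; group, fun r hr => ?_⟩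
    have h1 : g⁻¹ * r * g ∈ R := by
      simpa using (mem_normalizer_iff.mp (inv_mem hg) r).mp hr
    calc r * (g * x * g⁻¹) = g * ((g⁻¹ * r * g) * x) * g⁻¹ := by group
      _ = g * (x * (g⁻¹ * r * g)) * g⁻¹ := by rw [hxc _ h1]
      _ = g * x * g⁻¹ * r := by group
  exact mem_normalizer_iff.mpr fun x => ⟨hfwd g hg x, fun hx => by
    simpa [mul_assoc] using hfwd g⁻¹ (inv_mem hg) _ hx⟩

/-- In a nonabelian simple group of even order some elementary abelian 2-subgroup has an odd
automorphism induced. -/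
theorem exists_elementary_odd_action {X : Type u} [Group X] [Finite X]
    (hsimple : ∀ N : Subgroup X, N.Normal → N = ⊥ ∨ N = ⊤) (heven : 2 ∣ Nat.card X)
    (hZ : center X = ⊥) :
    ∃ (V : Subgroup X), (∀ v ∈ V, v ^ 2 = 1) ∧ IsPGroup 2 V ∧
      ∃ g ∈ normalizer (V : Set X), (orderOf g).Coprime 2 ∧ g ∉ centralizer (V : Set X) := by
  haveI : Fact (Nat.Prime 2) := ⟨Nat.prime_two⟩
  by_contra hcon
  push Not at hcon
  have hodd : ∀ R : Subgroup X, IsPGroup 2 R → ∀ g ∈ normalizer (omegaZ R : Set X),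
      (orderOf g).Coprime 2 → g ∈ centralizer (omegaZ R : Set X) :=
    fun R hR => hcon _ (fun v hv => hv.2.1) (hR.to_le fun v hv => hv.1)
  obtain ⟨S⟩ : Nonempty (Sylow 2 X) := inferInstance
  -- a central involution of `S`
  obtain ⟨z, hzS, hz2, hzc⟩ : ∃ z ∈ (S : Subgroup X), orderOf z = 2 ∧
      ∀ s ∈ (S : Subgroup X), s * z = z * s := by
    haveI : Nontrivial S := (S : Subgroup X).nontrivial_iff_ne_bot.mpr
      (S.ne_bot_of_dvd_card heven)
    haveI : Nontrivial (center S) := S.isPGroup'.center_nontrivial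
    have hd : 2 ∣ Nat.card (center S) := by
      obtain ⟨j, hj, hj'⟩ := (S.isPGroup'.to_subgroup (center S)).nontrivial_iff_card.mp inferInstance
      rw [hj']
      exact dvd_pow_self 2 hj.ne'
    obtain ⟨w, hw⟩ := exists_prime_orderOf_dvd_card' 2 hd
    refine ⟨((w : S) : X), (w : S).2, by rwa [Subgroup.orderOf_coe, Subgroup.orderOf_coe], ?_⟩
    intro s hs
    exact congrArg Subtype.val (mem_center_iff.mp w.2 ⟨s, hs⟩)
  -- its conjugates
  set D : Set X := {x | ∃ g : X, g * z * g⁻¹ = x} with hD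
  by_cases hnc : ∃ (T : Sylow 2 X) (x : X), x ∈ D ∧ x ∈ (T : Subgroup X) ∧
      ¬ (T : Subgroup X) ≤ centralizer {x}
  · -- maximal centraliser among the noncentral pairs
    classical
    set s : Set (Sylow 2 X × X) :=
      {P | P.2 ∈ D ∧ P.2 ∈ (P.1 : Subgroup X) ∧ ¬ (P.1 : Subgroup X) ≤ centralizer {P.2}}
    have hs : s.Nonempty := by
      obtain ⟨T, x, h⟩ := hnc
      exact ⟨(T, x), h⟩
    obtain ⟨⟨T, x⟩, ⟨hxD, hxT, hxc⟩, hmax⟩ := Set.exists_max_image s
      (fun P => Nat.card ↥((P.1 : Subgroup X) ⊓ centralizer {P.2})) (Set.toFinite s) hs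
    set R := (T : Subgroup X) ⊓ centralizer {x} with hR
    have hRp : IsPGroup 2 R := T.isPGroup'.to_le inf_le_left
    have hx2 : x ^ 2 = 1 := by
      obtain ⟨g, rfl⟩ := hxD
      rw [conj_pow, ← hz2, pow_orderOf_eq_one]; group
    have hxR : x ∈ R := ⟨hxT, mem_centralizer_singleton_iff.mpr rfl⟩
    have hxV : x ∈ omegaZ R :=
      ⟨hxR, hx2, fun r hr => mem_centralizer_singleton_iff.mp hr.2⟩
    -- `R` is properly inside a conjugate of `S` centralising `x`
    obtain ⟨T', hT'c, hRT'⟩ : ∃ T' : Sylow 2 X, (T' : Subgroup X) ≤ centralizer {x} ∧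
        R ≤ (T' : Subgroup X) := by
      obtain ⟨g, rfl⟩ := hxD
      set C := centralizer ({g * z * g⁻¹} : Set X) with hC
      have hgS : ((g • S : Sylow 2 X) : Subgroup X) ≤ C := by
        intro y hy
        rw [Sylow.coe_subgroup_smul, mem_pointwise_smul_iff_inv_smul_mem] at hy
        have hy' : g⁻¹ * y * g ∈ (S : Subgroup X) := by simpa using hy
        rw [hC, mem_centralizer_singleton_iff]
        calc y * (g * z * g⁻¹) = g * ((g⁻¹ * y * g) * z) * g⁻¹ := by group
          _ = g * (z * (g⁻¹ * y * g)) * g⁻¹ := by rw [hzc _ hy']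
          _ = g * z * g⁻¹ * y := by group
      obtain ⟨c, hc⟩ := ((hRp.comap_subtype (K := C)).exists_le_sylow)
      set S0 : Sylow 2 C := (g • S).subtype hgS
      obtain ⟨c', hc'⟩ := MulAction.exists_smul_eq C S0 c
      refine ⟨(c' : X) • (g • S), ?_, ?_⟩
      · intro y hy
        rw [Sylow.coe_subgroup_smul, mem_pointwise_smul_iff_inv_smul_mem] at hy
        have h3 := hgS hy
        simp only [MulAut.smul_def, MulAut.conj_inv_apply] at h3
        have h4 := C.mul_mem (C.mul_mem c'.2 h3) (C.inv_mem c'.2)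
        simpa [mul_assoc] using h4
      · intro y hy
        have h3 : (⟨y, (show R ≤ C from inf_le_right) hy⟩ : C) ∈
            ((c' • S0 : Sylow 2 C) : Subgroup C) := by
          rw [hc']
          exact hc hy
        rw [Sylow.coe_subgroup_smul, mem_pointwise_smul_iff_inv_smul_mem] at h3
        rw [Sylow.coe_subgroup_smul, mem_pointwise_smul_iff_inv_smul_mem]
        simpa [S0, mem_subgroupOf] using h3
    -- both normalisers grow
    have hgrow : ∀ U : Sylow 2 X, R ≤ (U : Subgroup X) → R ≠ (U : Subgroup X) →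
        ∃ t ∈ (U : Subgroup X), t ∈ normalizer (R : Set X) ∧ t ∉ R := by
      intro U hRU hne
      haveI : Group.IsNilpotent (U : Subgroup X) := U.isPGroup'.isNilpotent
      have hlt : R.subgroupOf (U : Subgroup X) < ⊤ := by
        rw [lt_top_iff_ne_top, Ne, subgroupOf_eq_top]
        exact fun h => hne (le_antisymm hRU h)
      obtain ⟨t, ht, htR⟩ := SetLike.exists_of_lt
        (Group.normalizerCondition_of_isNilpotent _ hlt)
      refine ⟨t, t.2, mem_normalizer_iff.mpr fun y => ?_, htR⟩
      constructor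
      · intro hy
        exact (mem_normalizer_iff.mp ht ⟨y, hRU hy⟩).mp hy
      · intro hy
        have hyU : y ∈ (U : Subgroup X) := by
          have h5 := mul_mem (mul_mem (inv_mem t.2) (hRU hy)) t.2
          simpa [mul_assoc] using h5
        exact (mem_normalizer_iff.mp ht ⟨y, hyU⟩).mpr hy
    have hRT : R ≠ (T : Subgroup X) := fun h => hxc (h ▸ inf_le_right)
    have hRT'' : R ≠ (T' : Subgroup X) := fun h => hRT (Subgroup.eq_of_le_of_card_ge inf_le_left (by
      rw [h, Sylow.card_eq_multiplicity, Sylow.card_eq_multiplicity]))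
    obtain ⟨t, htT, htN, htR⟩ := hgrow T inf_le_left hRT
    -- a Sylow of the normaliser containing `N_{T'}(R)`
    set H := normalizer (R : Set X) with hH
    obtain ⟨T1, hT1⟩ := (T'.isPGroup'.comap_subtype (K := H)).exists_le_sylow
    by_cases hfix : ∀ y ∈ (T1 : Subgroup H), Commute (y : X) x
    · exact htR ⟨htT, mem_centralizer_singleton_iff.mpr
        (commute_of_sylow_fix hxV (hodd R hRp) (normalizer_le_omegaZ R) T1 hfix htN).eq⟩
    · push Not at hfix
      obtain ⟨y, hyT1, hy⟩ := hfix
      obtain ⟨T3, hT3⟩ := (T1.isPGroup'.map H.subtype).exists_le_sylow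
      obtain ⟨t', ht'T', ht'N, ht'R⟩ := hgrow T' hRT' hRT''
      have hin : R ≤ (T3 : Subgroup X) := fun r hr =>
        hT3 ⟨⟨r, le_normalizer hr⟩, hT1 (hRT' hr), rfl⟩
      have hlt : R < (T3 : Subgroup X) ⊓ centralizer {x} := by
        refine lt_of_le_of_ne (le_inf hin inf_le_right) fun h => ht'R ?_
        rw [h]
        exact ⟨hT3 ⟨⟨t', ht'N⟩, hT1 ht'T', rfl⟩, hT'c ht'T'⟩
      have hmem : (T3, x) ∈ s := ⟨hxD, hin hxR, fun hle => hy
        (mem_centralizer_singleton_iff.mp (hle (hT3 ⟨y, hyT1, rfl⟩)))⟩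
      have hge := hmax (T3, x) hmem
      exact absurd (Subgroup.eq_of_le_of_card_ge hlt.le hge) hlt.ne
  · -- all conjugates are central: Burnside
    push Not at hnc
    have hiso : ∀ g : X, g * z * g⁻¹ ∈ (S : Subgroup X) → g * z * g⁻¹ = z := by
      intro g hg
      have hc1 : z ∈ centralizer ((S : Subgroup X) : Set X) := mem_centralizer_iff.mpr hzc
      have hc2 : g * z * g⁻¹ ∈ centralizer ((S : Subgroup X) : Set X) :=
        mem_centralizer_iff.mpr fun r hr =>
          mem_centralizer_singleton_iff.mp (hnc S _ ⟨g, rfl⟩ hg hr)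
      obtain ⟨n, hn, hnz⟩ := S.conj_eq_normalizer_conj_of_mem_centralizer z g⁻¹ hc1
        (by rwa [inv_inv])
      rw [inv_inv] at hnz
      rw [hnz]
      have hzV : z ∈ omegaZ (S : Subgroup X) :=
        ⟨hzS, by rw [← hz2, pow_orderOf_eq_one], hzc⟩
      have := commute_of_sylow_fix hzV (hodd _ S.isPGroup') (normalizer_le_omegaZ _)
        (S.subtype le_normalizer) (fun t ht => hzc t ht) hn
      rw [mul_assoc, ← this.eq, inv_mul_cancel_left]
    have hcore : oddCore X = ⊥ := (hsimple _ inferInstance).resolve_right fun h => by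
      have := Cores.odd_card_oddCore (G := X)
      rw [h, card_top] at this
      exact (Nat.not_even_iff_odd.mpr this) (even_iff_two_dvd.mpr heven)
    have hzcen : z ∈ center X := mem_center_iff.mpr fun g => by
      have := Cores.glaubermanZStar S hz2 hzS hiso g
      rw [hcore, mem_bot, mul_inv_eq_one, mul_inv_eq_iff_eq_mul] at this
      exact this.symm
    rw [hZ, mem_bot] at hzcen
    rw [hzcen, orderOf_one] at hz2
    exact absurd hz2 (by norm_num)

/-- Lifting an action in a quotient to a value outside the kernel. -/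
theorem exists_value_not_mem {k p : ℕ} [Fact p.Prime] {N : Subgroup G} [N.Normal]
    {W : Subgroup (G ⧸ N)} (hW : IsPGroup p W) {c : G ⧸ N} (hc : c ∈ normalizer (W : Set (G ⧸ N)))
    (hcp : (orderOf c).Coprime p) (hcc : c ∉ centralizer (W : Set (G ⧸ N))) :
    ∃ x ∈ V G k, (∃ e, orderOf x = p ^ e) ∧ x ∉ N ∧ QuotientGroup.mk' N x ∈ W := by
  have hp : p.Prime := Fact.out
  set π := QuotientGroup.mk' N with hπ
  set K := W.comap π with hK
  obtain ⟨P⟩ : Nonempty (Sylow p K) := inferInstance
  set P0 := (P : Subgroup K).map K.subtype with hP0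
  have hmapP : P0.map π = W := by
    refine le_antisymm (by rw [map_le_iff_le_comap, ← hK]; exact map_subtype_le _) ?_
    have hs : (P : Subgroup K).map (π.subgroupMap K) = ⊤ := by
      obtain ⟨d, hd⟩ := IsPGroup.iff_card.mp
        (show IsPGroup p (K.map π) by
          rwa [hK, map_comap_eq_self_of_surjective (QuotientGroup.mk'_surjective N)])
      rw [← index_eq_one]
      refine Nat.eq_one_of_dvd_coprimes
        ((hp.coprime_iff_not_dvd.mpr P.not_dvd_index).pow_left d) ?_
        (index_map_dvd _ (π.subgroupMap_surjective K))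
      exact hd ▸ index_dvd_card _
    intro y hy
    obtain ⟨g, rfl⟩ := QuotientGroup.mk'_surjective N y
    have : (⟨π g, g, hy, rfl⟩ : K.map π) ∈ (P : Subgroup K).map (π.subgroupMap K) :=
      hs ▸ mem_top _
    obtain ⟨a, ha, hae⟩ := this
    exact ⟨a, ⟨a, ha, rfl⟩, congrArg Subtype.val hae⟩
  -- move `c` into the normaliser of `P0`
  set L := (normalizer (W : Set (G ⧸ N))).comap π with hL
  have hKL : K ≤ L := comap_mono le_normalizer
  haveI : (K.subgroupOf L).Normal := by
    refine ⟨fun a ha g => ?_⟩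
    rw [mem_subgroupOf, hK, mem_comap] at ha ⊢
    simpa using (mem_normalizer_iff.mp g.2 _).mp ha
  obtain ⟨g, hg⟩ := QuotientGroup.mk'_surjective N c
  have hgL : g ∈ L := by rw [hL, mem_comap, hg]; exact hc
  obtain ⟨w, hw, hwc⟩ : ∃ w ∈ normalizer (P0 : Set G), π w = c := by
    obtain ⟨P1⟩ : Nonempty (Sylow p K) := ⟨P⟩
    let conjg : K →* G := (MulAut.conj g).toMonoidHom.comp K.subtype
    have hmem : ∀ a : K, g * a * g⁻¹ ∈ K := fun a => by
      have := (inferInstance : (K.subgroupOf L).Normal).conj_mem ⟨a, hKL a.2⟩ a.2 ⟨g, hgL⟩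
      exact this
    have hmem' : ∀ a : K, g⁻¹ * a * g ∈ K := fun a => by
      have := (inferInstance : (K.subgroupOf L).Normal).conj_mem ⟨a, hKL a.2⟩ a.2 ⟨g⁻¹, inv_mem hgL⟩
      simpa [mem_subgroupOf] using this
    let e : K ≃* K :=
      { toFun := fun a => ⟨g * a * g⁻¹, hmem a⟩
        invFun := fun a => ⟨g⁻¹ * a * g, hmem' a⟩
        left_inv := fun a => Subtype.ext (by simp [mul_assoc])
        right_inv := fun a => Subtype.ext (by simp [mul_assoc])
        map_mul' := fun a b => Subtype.ext (by simp [mul_assoc]) }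
    set Q : Sylow p K := P.mapSurjective (f := e.toMonoidHom) e.surjective with hQ
    obtain ⟨a, ha⟩ := MulAction.exists_smul_eq K Q P
    -- `w0 = a g` normalises `P0`
    have hfix : ∀ y : K, y ∈ (P : Subgroup K) → a * e y * a⁻¹ ∈ (P : Subgroup K) := by
      intro y hy
      rw [← ha, Sylow.coe_subgroup_smul, mem_pointwise_smul_iff_inv_smul_mem]
      simpa [mul_assoc] using (show e y ∈ (Q : Subgroup K) from ⟨y, hy, rfl⟩)
    set w0 : G := (a : G) * g with hw0
    have hw0N : w0 ∈ normalizer (P0 : Set G) := by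
      have hle : P0.map (MulAut.conj w0).toMonoidHom ≤ P0 := by
        rintro _ ⟨_, ⟨y, hy, rfl⟩, rfl⟩
        exact ⟨_, hfix y hy, by simp [e, hw0, mul_assoc]⟩
      have hcard : Nat.card (P0.map (MulAut.conj w0).toMonoidHom) = Nat.card P0 :=
        card_map_of_injective (f := (MulAut.conj w0).toMonoidHom) (MulAut.conj w0).injective
      have heq : P0.map (MulAut.conj w0).toMonoidHom = P0 := eq_of_le_of_card_ge hle hcard.ge
      refine mem_normalizer_iff.mpr fun y => ⟨fun hy => heq ▸ ⟨y, hy, rfl⟩, fun hy => ?_⟩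
      rw [← heq] at hy
      obtain ⟨y', hy', hyy⟩ := hy
      have : y' = y := (MulAut.conj w0).injective hyy
      exact this ▸ hy'
    obtain ⟨b, hb, hba⟩ : π (a : G) ∈ P0.map π := hmapP.symm ▸ a.2
    refine ⟨b⁻¹ * w0, mul_mem (inv_mem (le_normalizer hb)) hw0N, ?_⟩
    rw [map_mul, map_inv, hba, hw0, map_mul, inv_mul_cancel_left]
    exact hg
  -- the `p'`-part of `w`
  obtain ⟨w', hw', hw'c, hw'p⟩ : ∃ w' ∈ normalizer (P0 : Set G), π w' = c ∧
      (orderOf w').Coprime p := by
    obtain ⟨e, m, hpm, hem⟩ :=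
      Nat.exists_eq_pow_mul_and_not_dvd (orderOf_pos w).ne' p hp.ne_one
    have hcop : (p ^ e).Coprime m := (hp.coprime_iff_not_dvd.mpr hpm).pow_left e
    obtain ⟨n, hn1, hn0⟩ := Nat.chineseRemainder hcop 0 1
    refine ⟨w ^ n, pow_mem hw n, ?_, ?_⟩
    · have hcd : orderOf c ∣ m := by
        have hd : orderOf c ∣ p ^ e * m := by rw [← hem, ← hwc]; exact orderOf_map_dvd π w
        exact (hcp.pow_right e).dvd_of_dvd_mul_left hd
      rw [map_pow, hwc]
      conv_rhs => rw [← pow_one c]
      exact pow_eq_pow_iff_modEq.mpr (hn0.of_dvd hcd)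
    · have hd : orderOf (w ^ n) ∣ m := by
        apply orderOf_dvd_of_pow_eq_one
        rw [← pow_mul, ← orderOf_dvd_iff_pow_eq_one, hem]
        exact mul_dvd_mul_right (Nat.modEq_zero_iff_dvd.mp hn1) m
      exact (hp.coprime_iff_not_dvd.mpr hpm).symm.coprime_dvd_left hd
  obtain ⟨zb, hzb, hne⟩ : ∃ zb ∈ W, ¬ Commute zb c := by
    by_contra h
    push Not at h
    exact hcc (mem_centralizer_iff.mpr fun y hy => (h y hy).eq)
  obtain ⟨z, hz, rfl⟩ : zb ∈ P0.map π := hmapP.symm ▸ hzb
  have hnorm' : ∀ y ∈ P0, w' * y * w'⁻¹ ∈ P0 := fun y hy => (mem_normalizer_iff.mp hw' y).mp hy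
  have hxP : iterC z w' k ∈ P0 := iterC_mem hz hnorm' k
  refine ⟨_, iterC_mem_V z w' k, ?_, fun hxN => hne ?_, hmapP ▸ mem_map_of_mem π hxP⟩
  · obtain ⟨j, hj⟩ := (P.isPGroup'.map K.subtype) ⟨_, hxP⟩
    obtain ⟨i, -, hi⟩ := (Nat.dvd_prime_pow hp).mp
      (orderOf_dvd_of_pow_eq_one (congrArg Subtype.val hj))
    exact ⟨i, hi⟩
  · refine commute_of_iterC (n := k) hW (fun y hy => (mem_normalizer_iff.mp hc y).mp hy) hcp hzb ?_
    rw [← hw'c, ← map_iterC, hπ, QuotientGroup.mk'_apply]
    exact (QuotientGroup.eq_one_iff _).mpr hxN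

end Cfsg.Agent.H73.BW

namespace Cfsg.Agent.H73.BW

open Subgroup Cfsg

universe u

/-- The order condition forces solubility, given the odd order theorem. -/
theorem solvable_of_key {k : ℕ}
    (hFT : ∀ (H : Type u) [Group H] [Finite H], Odd (Nat.card H) → Group.IsSolvable H) :
    ∀ (n : ℕ) (G : Type u) [Group G] [Finite G],
      Nat.card G = n → Key k G → Group.IsSolvable G := by
  intro n
  induction n using Nat.strong_induction_on with
  | _ n ih =>
    intro G _ _ hn hk
    by_contra hns
    have hsub : ∀ M : Subgroup G, M ≠ ⊤ → Group.IsSolvable M := fun M hM =>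
      ih _ (hn ▸ lt_of_le_of_ne (Subgroup.card_le_card_group M)
        fun h => hM (Subgroup.eq_top_of_card_eq _ h)) M rfl (hk.subgroup M)
    haveI : Nontrivial G := not_subsingleton_iff_nontrivial.mp fun h => hns inferInstance
    -- perfect
    have hperf : ⁅(⊤ : Subgroup G), (⊤ : Subgroup G)⁆ = ⊤ := by
      by_contra h
      haveI := hsub _ h
      haveI : IsMulCommutative (G ⧸ ⁅(⊤ : Subgroup G), (⊤ : Subgroup G)⁆) := ⟨⟨fun a b => by
        obtain ⟨a, rfl⟩ := QuotientGroup.mk'_surjective _ a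
        obtain ⟨b, rfl⟩ := QuotientGroup.mk'_surjective _ b
        simp only [QuotientGroup.mk'_apply, ← QuotientGroup.mk_mul]
        rw [QuotientGroup.eq]
        simpa [commutatorElement_def, mul_assoc] using
          commutator_mem_commutator (mem_top b⁻¹) (mem_top a⁻¹)⟩⟩
      exact hns ((Group.isSolvable_iff_subgroup_quotient ⁅(⊤ : Subgroup G), (⊤ : Subgroup G)⁆).mpr
        ⟨inferInstance, Group.isSolvable_of_comm fun a b => IsMulCommutative.is_comm.comm a b⟩)
    have hlcs : ∀ j, (⊤ : Subgroup G).lowerCentralSeries j = ⊤ := by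
      intro j
      induction j with
      | zero => rfl
      | succ j ih => rw [Subgroup.lowerCentralSeries_succ, ih, hperf]
    -- the quotient by the Frattini subgroup is simple
    have hmax : ∀ N : Subgroup G, N.Normal → N ≠ ⊤ → N ≤ frattini G := by
      intro N hN hNt
      rw [frattini, Order.radical]
      refine le_iInf₂ fun M hM => ?_
      by_contra hle
      have hMN : M ⊔ N = ⊤ := hM.2 _ (lt_of_le_of_ne le_sup_left fun h => hle (h ▸ le_sup_right))
      haveI := hsub N hNt
      haveI := hsub M hM.1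
      have hs : Function.Surjective ((QuotientGroup.mk' N).comp M.subtype) := by
        rw [← MonoidHom.range_eq_top, MonoidHom.range_comp, range_subtype]
        have := congrArg (Subgroup.map (QuotientGroup.mk' N)) hMN
        rwa [Subgroup.map_sup, QuotientGroup.map_mk'_self, sup_bot_eq,
          map_top_of_surjective _ (QuotientGroup.mk'_surjective N)] at this
      haveI : Group.IsSolvable (G ⧸ N) := solvable_of_surjective hs
      exact hns ((Group.isSolvable_iff_subgroup_quotient N).mpr ⟨inferInstance, inferInstance⟩)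
    set Φ := frattini G with hΦ
    have hne : Φ ≠ ⊤ := fun h => (bot_ne_top (α := Subgroup G))
      (frattini_nongenerating (show (⊥ : Subgroup G) ⊔ frattini G = ⊤ by rw [← hΦ, h, bot_sup_eq]))
    haveI hΦnil : Group.IsNilpotent Φ := frattini_nilpotent
    haveI : Group.IsSolvable Φ := inferInstance
    have hXns : ¬ Group.IsSolvable (G ⧸ Φ) := fun h => hns
      ((Group.isSolvable_iff_subgroup_quotient Φ).mpr ⟨inferInstance, h⟩)
    have hXsimple : ∀ M : Subgroup (G ⧸ Φ), M.Normal → M = ⊥ ∨ M = ⊤ := by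
      intro M hM
      by_cases h : M.comap (QuotientGroup.mk' Φ) = ⊤
      · exact Or.inr (top_le_iff.mp fun y _ => by
          obtain ⟨x, rfl⟩ := QuotientGroup.mk'_surjective _ y
          exact (h ▸ mem_top x : x ∈ M.comap (QuotientGroup.mk' Φ)))
      · refine Or.inl (eq_bot_iff.mpr fun y hy => ?_)
        obtain ⟨x, rfl⟩ := QuotientGroup.mk'_surjective _ y
        exact (QuotientGroup.eq_one_iff x).mpr (hmax _ (hM.comap _) h hy)
    have hXZ : center (G ⧸ Φ) = ⊥ := (hXsimple _ inferInstance).resolve_right fun h => by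
      refine hXns ?_
      haveI : IsMulCommutative (G ⧸ Φ) :=
        ⟨⟨fun a b => (mem_center_iff.mp (h ▸ mem_top a) b).symm⟩⟩
      exact Group.isSolvable_of_comm fun a b => IsMulCommutative.is_comm.comm a b
    have hXeven : 2 ∣ Nat.card (G ⧸ Φ) := by
      by_contra h
      exact hXns (hFT _ (Nat.odd_iff.mpr (Nat.two_dvd_ne_zero.mp h)))
    have hXnp : ∀ p : ℕ, p.Prime → ¬ IsPGroup p (G ⧸ Φ) := fun p hp h => hXns (by
      haveI : Fact p.Prime := ⟨hp⟩
      haveI := h.isNilpotent
      infer_instance)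
    -- values of prime power order outside `Φ`
    have hvalue : ∀ r : ℕ, r.Prime → r ∣ Nat.card (G ⧸ Φ) →
        ∃ x ∈ V G k, (∃ e, orderOf x = r ^ e) ∧ x ∉ Φ := by
      intro r hr hrd
      haveI : Fact r.Prime := ⟨hr⟩
      obtain ⟨S⟩ : Nonempty (Sylow r (G ⧸ Φ)) := inferInstance
      have hnot : ¬ HasNormalPComplement r (G ⧸ Φ) := by
        intro h
        have hd := Fusion.hasNormalPComplement_iff_pResidual.mp h
        haveI : (pResidual r (G ⧸ Φ)).Normal := normal_closure_of_inv fun x hx g => by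
          show (orderOf (g * x * g⁻¹)).Coprime r
          rw [show orderOf (g * x * g⁻¹) = orderOf x from (MulAut.conj g).orderOf_eq x]; exact hx
        rcases hXsimple (pResidual r (G ⧸ Φ)) inferInstance with h' | h'
        · refine hXnp r hr (IsPGroup.of_equiv S.isPGroup' ?_)
          have hc := Fusion.isComplement'_pResidual h S
          rw [h', isComplement'_bot_left] at hc
          exact (MulEquiv.subgroupCongr hc).trans topEquiv
        · rw [h', card_top] at hd
          exact hd hrd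
      rw [Fusion.frobenius_criterion S] at hnot
      push Not at hnot
      obtain ⟨Q, hQ, g, hg, hgp, hgc⟩ := hnot
      obtain ⟨x, hx, hxe, hxΦ, -⟩ :=
        exists_value_not_mem (k := k) (S.isPGroup'.to_le hQ) hg hgp hgc
      exact ⟨x, hx, hxe, hxΦ⟩
    -- `Φ` is central
    have hΦcen : Φ ≤ center G := by
      intro a ha
      refine mem_of_prime_powers fun p hp i hi => ?_
      obtain ⟨e, he⟩ := hi
      haveI : Fact p.Prime := ⟨hp⟩
      obtain ⟨r, hr, hrd, hrp⟩ : ∃ r, r.Prime ∧ r ∣ Nat.card (G ⧸ Φ) ∧ r ≠ p := by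
        by_contra h
        push Not at h
        refine hXnp p hp (IsPGroup.of_card (n := (Nat.card (G ⧸ Φ)).factorization p) ?_)
        refine Nat.eq_pow_of_factorization_eq_single Nat.card_pos.ne' ?_
        ext r
        rcases eq_or_ne r p with rfl | hne'
        · simp
        · rw [Finsupp.single_eq_of_ne hne']
          by_cases hr : r.Prime
          · exact Nat.factorization_eq_zero_of_not_dvd fun hd => hne' (h r hr hd)
          · exact Nat.factorization_eq_zero_of_not_prime _ hr
      obtain ⟨v, hv, ⟨ev, hev⟩, hvΦ⟩ := hvalue r hr hrd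
      obtain ⟨P⟩ : Nonempty (Sylow p Φ) := inferInstance
      set P0 := (P : Subgroup Φ).map Φ.subtype with hP0
      haveI hP0n : P0.Normal := by
        rw [← normalizer_eq_top_iff]
        exact frattini_nongenerating (Sylow.normalizer_sup_eq_top P)
      have hmem : a ^ i ∈ P0 := by
        have h1 : IsPGroup p (zpowers (⟨a ^ i, Φ.pow_mem ha i⟩ : Φ)) := by
          obtain ⟨j, -, hj⟩ := (Nat.dvd_prime_pow hp).mp (orderOf_dvd_of_pow_eq_one he)
          exact IsPGroup.of_card (n := j) (by rw [Nat.card_zpowers, Subgroup.orderOf_mk, hj])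
        obtain ⟨Q, hQ⟩ := h1.exists_le_sylow
        haveI := Sylow.unique_of_normal P (inferInstance : (P : Subgroup Φ).Normal)
        rw [Subsingleton.elim Q P] at hQ
        exact ⟨_, hQ (mem_zpowers _), rfl⟩
      have hvC : v ∈ centralizer (P0 : Set G) := mem_centralizer_iff.mpr fun z hz =>
        (Key.commute hk (P.isPGroup'.map _) hv (fun w hw => hP0n.conj_mem w hw v)
          (coprime_orderOf_of_pow hp hr hrp (hev ▸ pow_orderOf_eq_one v)) hz).eq
      have htop : centralizer (P0 : Set G) = ⊤ := by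
        by_contra h
        exact hvΦ (hmax _ inferInstance h hvC)
      refine mem_center_iff.mpr fun g => ?_
      exact (mem_centralizer_iff.mp (htop ▸ mem_top g) _ hmem).symm
    -- a 2-element value which is an involution modulo `Φ`
    haveI : Fact (Nat.Prime 2) := ⟨Nat.prime_two⟩
    obtain ⟨W, hW2, hWp, c, hc, hcp, hcc⟩ := exists_elementary_odd_action hXsimple hXeven hXZ
    obtain ⟨x, hxV, ⟨ex, hxe⟩, hxΦ, hxW⟩ := exists_value_not_mem (k := k) hWp hc hcp hcc
    have hxx : x ^ 2 ∈ Φ := by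
      have := hW2 _ hxW
      rwa [← map_pow, QuotientGroup.mk'_apply, QuotientGroup.eq_one_iff] at this
    set π := QuotientGroup.mk' Φ with hπ
    obtain ⟨gb, hgb⟩ : ∃ gb : G ⧸ Φ, ¬ IsPGroup 2 (closure ({π x, gb * π x * gb⁻¹} : Set (G ⧸ Φ))) := by
      by_contra h
      push Not at h
      obtain ⟨N, hN, hNp, hxN⟩ := Thompson.baer_suzuki h
      rcases hXsimple N hN with h' | h'
      · rw [h', mem_bot] at hxN
        exact hxΦ ((QuotientGroup.eq_one_iff x).mp hxN)
      · exact hXnp 2 Nat.prime_two (hNp.of_equiv ((MulEquiv.subgroupCongr h').trans topEquiv))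
    obtain ⟨g, rfl⟩ := QuotientGroup.mk'_surjective Φ gb
    set u := cm x g with hu
    have hinv : x * u * x⁻¹ = u⁻¹ := by
      have h2 : g * (x * x) * g⁻¹ = x * x := by
        rw [mem_center_iff.mp (hΦcen (pow_two x ▸ hxx)) g, mul_inv_cancel_right]
      calc x * u * x⁻¹ = (x * x) * g * x⁻¹ * g⁻¹ * x⁻¹ := by rw [hu]; simp [cm, mul_assoc]
        _ = (g * (x * x) * g⁻¹) * g * x⁻¹ * g⁻¹ * x⁻¹ := by rw [h2]
        _ = g * x * g⁻¹ * x⁻¹ := by group
        _ = u⁻¹ := by rw [hu]; simp [cm, mul_assoc]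
    -- the odd part of `u`
    obtain ⟨e, m, hm2, hem⟩ :=
      Nat.exists_eq_pow_mul_and_not_dvd (orderOf_pos u).ne' 2 (by norm_num)
    set w := u ^ 2 ^ e with hw
    have hwo : orderOf w = m := by
      rw [hw, orderOf_pow_of_dvd (by positivity) (hem ▸ dvd_mul_right _ _), hem,
        Nat.mul_div_cancel_left _ (by positivity)]
    have hwinv : x * w * x⁻¹ = w⁻¹ := by rw [hw, ← conj_pow, hinv, inv_pow]
    have hsq : ∀ v : G, x * v * x⁻¹ = v⁻¹ → cm v x = v ^ 2 := by
      intro v hv
      have hv' : x * v⁻¹ * x⁻¹ = v := by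
        rw [← inv_inv v] at hv
        simpa [mul_assoc] using congrArg Inv.inv hv
      calc cm v x = v * (x * v⁻¹ * x⁻¹) := by simp [cm, mul_assoc]
        _ = v ^ 2 := by rw [hv', pow_two]
    have hodd : m.Coprime 2 := (Nat.prime_two.coprime_iff_not_dvd.mpr hm2).symm
    obtain ⟨t, ht⟩ := exists_pow_eq_self_of_coprime (x := w) (n := 2 ^ k)
      (hwo ▸ (hodd.symm.pow_left k))
    have hwV : w ∈ V G k := by
      have hit : ∀ j, iterC (w ^ t) x j = (w ^ t) ^ 2 ^ j := by
        intro j
        induction j with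
        | zero => simp [iterC]
        | succ j ih =>
          rw [iterC, ih, hsq _ (by rw [← conj_pow, ← conj_pow, hwinv, inv_pow, inv_pow]),
            pow_succ 2 j, pow_mul]
      have hmem := iterC_mem_V (w ^ t) x k
      rwa [hit, ← pow_mul, mul_comm, pow_mul, ht] at hmem
    have hw1 : w = 1 := by
      refine hk x w hxV hwV ?_ ?_
      · rw [hxe, hwo]
        exact (hodd.symm).pow_left ex
      · obtain ⟨s, hs⟩ := exists_pow_eq_self_of_coprime (x := w) (n := 2) (hwo ▸ hodd.symm)
        set v := w ^ s with hv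
        have hvw : v ^ 2 = w := by
          rw [hv, ← pow_mul, mul_comm, pow_mul, hs]
        have hvinv : x * v * x⁻¹ = v⁻¹ := by rw [hv, ← conj_pow, hwinv, inv_pow]
        have hconj : x * w = MulAut.conj v⁻¹ x := by
          rw [MulAut.conj_apply, inv_inv, ← hvinv, ← hvw, pow_two]
          group
        rw [hconj, MulEquiv.orderOf_eq]
    -- so the conjugates generate a 2-group
    apply hgb
    have hup : IsPGroup 2 (zpowers (π u)) := by
      obtain ⟨j, -, hj⟩ := (Nat.dvd_prime_pow Nat.prime_two).mp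
        (orderOf_dvd_of_pow_eq_one (show (π u) ^ 2 ^ e = 1 by rw [← map_pow, ← hw, hw1, map_one]))
      exact IsPGroup.of_card (n := j) (by rw [Nat.card_zpowers, hj])
    have hxp : IsPGroup 2 (zpowers (π x)) := by
      obtain ⟨j, -, hj⟩ := (Nat.dvd_prime_pow Nat.prime_two).mp
        (hxe ▸ orderOf_map_dvd π x)
      exact IsPGroup.of_card (n := j) (by rw [Nat.card_zpowers, hj])
    have hxn : zpowers (π x) ≤ normalizer (zpowers (π u) : Set (G ⧸ Φ)) := by
      rw [zpowers_le, mem_normalizer_iff]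
      intro y
      have hi : π x * π u * (π x)⁻¹ = (π u)⁻¹ := by
        rw [← map_inv, ← map_mul, ← map_mul, hinv, map_inv]
      constructor
      · rintro ⟨n, rfl⟩
        exact ⟨-n, by simp only; rw [← conj_zpow, hi, inv_zpow, zpow_neg]⟩
      · rintro ⟨n, hn⟩
        refine ⟨-n, ?_⟩
        have : π x * (π u) ^ (-n) * (π x)⁻¹ = (π u) ^ n := by
          rw [← conj_zpow, hi, inv_zpow, zpow_neg, inv_inv]
        exact mul_left_cancel (mul_right_cancel (this.trans hn))
    refine (hxp.to_sup_of_normal_right' hup hxn).to_le ((closure_le _).mpr ?_)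
    rintro y (rfl | rfl)
    · exact mem_sup_left (mem_zpowers _)
    · have hxinv : (π x)⁻¹ = π x := by
        rw [inv_eq_iff_mul_eq_one, ← pow_two, ← map_pow]
        exact (QuotientGroup.eq_one_iff _).mpr hxx
      have : π g * π x * (π g)⁻¹ = (π x)⁻¹ * π u := by
        conv_lhs => rw [← hxinv]
        rw [hu, map_cm]
        simp [cm, mul_assoc]
      rw [this]
      exact mul_mem (mem_sup_left (inv_mem (mem_zpowers _))) (mem_sup_right (mem_zpowers _))

/-- The criterion, given the odd order theorem. -/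
theorem nilpotent_lcs_iff {G : Type u} [Group G] [Finite G] (k : ℕ)
    (hFT : ∀ (H : Type u) [Group H] [Finite H], Odd (Nat.card H) → Group.IsSolvable H) :
    Group.IsNilpotent ↥((⊤ : Subgroup G).lowerCentralSeries k) ↔
      ∀ x y : G, (∃ f : Fin (k + 1) → G, x = ((List.ofFn f).tail).foldl (fun a b => a * b * a⁻¹ * b⁻¹) (f 0)) → (∃ f : Fin (k + 1) → G, y = ((List.ofFn f).tail).foldl (fun a b => a * b * a⁻¹ * b⁻¹) (f 0)) → (orderOf x).Coprime (orderOf y) →
        (∀ r : ℕ, r.Prime → r ∣ orderOf x * orderOf y → r ∣ orderOf (x * y)) ∨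
          orderOf x * orderOf y ≤ orderOf (x * y) := by
  simp only [foldl_iff]
  constructor
  · intro h x y hx hy hxy
    have hc : Commute x y :=
      H41.commute_of_coprime_of_isNilpotent h (V_subset_lcs hx) (V_subset_lcs hy) hxy
    exact Or.inr (hc.orderOf_mul_eq_mul_orderOf_of_coprime hxy).ge
  · intro h
    have hk := key_of_cond h
    exact nilpotent_of_key _ G rfl (solvable_of_key hFT _ G rfl hk) hk

end Cfsg.Agent.H73.BW
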