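import Cfsg.Agent.H73.LowerCentralValues
import Cfsg.Agent.Hall.MinimalNormal
import Cfsg.Agent.Fusion.PComplement

/-!
A soluble group satisfying the order condition has a nilpotent lower central term.
-/

set_option autoImplicit false

namespace Cfsg.Agent.H73.BW

open Subgroup Cfsg

universe u

variable {G : Type u} [Group G]

theorem normal_closure_of_inv {s : Set G} (h : ∀ x ∈ s, ∀ g : G, g * x * g⁻¹ ∈ s) :
    (closure s).Normal := by
  refine ⟨fun x hx g => ?_⟩
  have : (closure s).map (MulAut.conj g).toMonoidHom ≤ closure s := by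
    rw [MonoidHom.map_closure, closure_le]
    rintro _ ⟨y, hy, rfl⟩
    exact subset_closure (h y hy g)
  exact this ⟨x, hx, rfl⟩

/-- An element is in a subgroup as soon as its powers of prime power order are. -/
theorem mem_of_prime_powers [Finite G] {C : Subgroup G} :
    ∀ {a : G}, (∀ (q : ℕ), q.Prime → ∀ i : ℕ, (∃ e, (a ^ i) ^ q ^ e = 1) → a ^ i ∈ C) → a ∈ C := by
  intro a
  induction hn : orderOf a using Nat.strong_induction_on generalizing a with
  | _ n ih =>
    subst hn
    intro h
    by_cases h1 : orderOf a = 1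
    · rw [orderOf_eq_one_iff.mp h1]; exact C.one_mem
    obtain ⟨q, hq, hqd⟩ := Nat.exists_prime_and_dvd h1
    obtain ⟨e, m, hqm, hem⟩ :=
      Nat.exists_eq_pow_mul_and_not_dvd (orderOf_pos a).ne' q hq.ne_one
    have hm : a ^ m ∈ C := h q hq m ⟨e, by rw [← pow_mul, mul_comm, ← hem, pow_orderOf_eq_one]⟩
    have hm0 : 0 < m := Nat.pos_of_ne_zero fun h0 => hqm (h0 ▸ dvd_zero q)
    have he : e ≠ 0 := fun h0 => hqm (by rw [h0, pow_zero, one_mul] at hem; exact hem ▸ hqd)
    have hqe : a ^ q ^ e ∈ C := by
      refine ih _ ?_ rfl fun r hr i hi => ?_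
      · rw [orderOf_pow_of_dvd (pow_ne_zero _ hq.ne_zero) (hem ▸ dvd_mul_right _ _), hem,
          Nat.mul_div_cancel_left _ (pow_pos hq.pos e)]
        exact lt_mul_left hm0 (Nat.one_lt_pow he hq.one_lt)
      · rw [← pow_mul] at hi ⊢
        exact h r hr _ hi
    have hb := Nat.gcd_eq_gcd_ab m (q ^ e)
    rw [((hq.coprime_iff_not_dvd.mpr hqm).symm.pow_right e).gcd_eq_one, Nat.cast_one] at hb
    rw [← zpow_one a, hb, zpow_add, zpow_mul, zpow_mul, zpow_natCast, zpow_natCast]
    exact C.mul_mem (C.zpow_mem hm _) (C.zpow_mem hqe _)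

theorem coprime_orderOf_of_pow [Finite G] {p q : ℕ} (hp : p.Prime) (hq : q.Prime) (hne : q ≠ p)
    {a : G} {e : ℕ} (h : a ^ q ^ e = 1) : (orderOf a).Coprime p :=
  ((Nat.coprime_primes hq hp).mpr hne |>.pow_left e).coprime_dvd_left (orderOf_dvd_of_pow_eq_one h)

/-- In a group `M` with nilpotent `γ_k(M)`, the `p'`-part of `γ_k(M)` lies in a normal subgroup
containing all `p'`-values. -/
theorem mem_of_values_mem [Finite G] {k p : ℕ} [Fact p.Prime] {C : Subgroup G} [C.Normal]
    (hA : Group.IsNilpotent ((⊤ : Subgroup G).lowerCentralSeries k))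
    (hC : ∀ v ∈ V G k, (orderOf v).Coprime p → v ∈ C)
    {a : G} (ha : a ∈ (⊤ : Subgroup G).lowerCentralSeries k) (hap : (orderOf a).Coprime p) :
    a ∈ C := by
  classical
  have hp : p.Prime := Fact.out
  set A := (⊤ : Subgroup G).lowerCentralSeries k with hAdef
  have hAn : A.Normal := inferInstance
  have hcj : ∀ x g : G, orderOf (g * x * g⁻¹) = orderOf x := fun x g =>
    (MulAut.conj g).orderOf_eq x
  -- the `p`-part and the `p'`-part
  set Ap : Subgroup G := closure {x | x ∈ A ∧ ∃ e, orderOf x = p ^ e} with hApdef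
  set B : Subgroup G := closure {x | x ∈ A ∧ (orderOf x).Coprime p} with hBdef
  have hApn : Ap.Normal := normal_closure_of_inv fun x hx g =>
    ⟨hAn.conj_mem x hx.1 g, by simpa only [hcj] using hx.2⟩
  have hBn : B.Normal := normal_closure_of_inv fun x hx g =>
    ⟨hAn.conj_mem x hx.1 g, by rw [hcj]; exact hx.2⟩
  have hApp : IsPGroup p Ap := by
    obtain ⟨P⟩ : Nonempty (Sylow p A) := inferInstance
    refine (P.isPGroup'.map A.subtype).to_le ((closure_le _).mpr ?_)
    rintro x ⟨hxA, e, he⟩
    have h1 : IsPGroup p (zpowers (⟨x, hxA⟩ : A)) :=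
      IsPGroup.of_card (n := e) (by rw [Nat.card_zpowers, Subgroup.orderOf_mk, he])
    obtain ⟨Q, hQ⟩ := h1.exists_le_sylow
    haveI := Sylow.unique_of_normal P (inferInstance : (P : Subgroup A).Normal)
    rw [Subsingleton.elim Q P] at hQ
    exact ⟨⟨x, hxA⟩, hQ (mem_zpowers _), rfl⟩
  have hBp : ∀ x ∈ B, x ∈ A ∧ (orderOf x).Coprime p := by
    have hle : B ≤ (pResidual p A).map A.subtype := (closure_le _).mpr fun x hx =>
      ⟨⟨x, hx.1⟩, subset_closure (by simpa using hx.2), rfl⟩
    intro x hx
    obtain ⟨y, hy, rfl⟩ := hle hx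
    refine ⟨y.2, ?_⟩
    rw [Subgroup.coe_subtype, Subgroup.orderOf_coe]
    exact (Fusion.mem_pResidual_iff_of_hasNormalPComplement
      Fusion.hasNormalPComplement_of_isNilpotent).mp hy
  set L := C ⊔ Ap with hLdef
  have hLn : L.Normal := inferInstance
  -- `M / L` is nilpotent
  have hX : Group.IsNilpotent (G ⧸ L) := by
    refine isNilpotent_of_lcs_le_ucs (k := k) ?_
    intro y hy
    have hy' : y ∈ A.map (QuotientGroup.mk' L) := by
      rw [hAdef, map_lowerCentralSeries, map_top_of_surjective _ (QuotientGroup.mk'_surjective L)]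
      exact hy
    obtain ⟨x, hx, rfl⟩ := hy'
    change x ∈ (Subgroup.upperCentralSeries (G ⧸ L) k).comap (QuotientGroup.mk' L)
    refine mem_of_prime_powers fun q hq i hi => ?_
    obtain ⟨e, he⟩ := hi
    rw [Subgroup.mem_comap]
    by_cases hqp : q = p
    · have hmem : x ^ i ∈ Ap := by
        obtain ⟨j, -, hj⟩ := (Nat.dvd_prime_pow hq).mp (orderOf_dvd_of_pow_eq_one he)
        exact subset_closure ⟨A.pow_mem hx i, j, hqp ▸ hj⟩
      rw [QuotientGroup.mk'_apply, (QuotientGroup.eq_one_iff _).mpr (mem_sup_right hmem)]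
      exact one_mem _
    · refine mem_upperCentralSeries fun z hz => ?_
      obtain ⟨w, hw, rfl⟩ := W_lift (QuotientGroup.mk'_surjective L) hz
      have hxB : x ^ i ∈ B :=
        subset_closure ⟨A.pow_mem hx i, coprime_orderOf_of_pow hp hq hqp he⟩
      exact (QuotientGroup.eq_one_iff _).mpr (mem_sup_left (hC w
        (W_subset (j := 0) (Set.mem_univ _) hw) (hBp _ (W_mem_normal hBn hxB hw)).2))
  refine mem_of_prime_powers fun q hq i hi => ?_
  obtain ⟨e, he⟩ := hi
  by_cases hqp : q = p
  · have hone : a ^ i = 1 := by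
      refine orderOf_eq_one_iff.mp (Nat.eq_one_of_dvd_coprimes
        (hap.pow_right e) (orderOf_pow_dvd i) ?_)
      exact orderOf_dvd_of_pow_eq_one (hqp ▸ he)
    rw [hone]; exact one_mem _
  haveI : Fact q.Prime := ⟨hq⟩
  have hg : a ^ i ∈ A := A.pow_mem ha i
  generalize a ^ i = g at hg he
  obtain ⟨j, -, hj⟩ := (Nat.dvd_prime_pow hq).mp (orderOf_dvd_of_pow_eq_one he)
  have h1 : IsPGroup q (zpowers g) := IsPGroup.of_card (n := j) (by rw [Nat.card_zpowers, hj])
  obtain ⟨S, hS⟩ := h1.exists_le_sylow
  have hgS : g ∈ (S : Subgroup G) := hS (mem_zpowers g)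
  have hnpc : HasNormalPComplement q (G ⧸ L) := Fusion.hasNormalPComplement_of_isNilpotent
  set N := (pResidual q (G ⧸ L)).comap (QuotientGroup.mk' L) with hN
  have hqpow : ∀ x ∈ (S : Subgroup G), ∃ d, x ^ q ^ d = 1 := fun x hx => by
    obtain ⟨d, hd⟩ := S.isPGroup' ⟨x, hx⟩
    exact ⟨d, congrArg Subtype.val hd⟩
  obtain ⟨P'⟩ : Nonempty (Sylow q (G ⧸ L)) := inferInstance
  have hNidx : ∃ d, N.index = q ^ d := by
    rw [hN, Subgroup.index_comap_of_surjective _ (QuotientGroup.mk'_surjective L),
      (Fusion.isComplement'_pResidual hnpc P').symm.index_eq_card]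
    exact IsPGroup.iff_card.mp P'.isPGroup'
  have htop : (S : Subgroup G) ⊔ N = ⊤ := by
    obtain ⟨d, hd⟩ := hNidx
    rw [← Subgroup.index_eq_one]
    exact Nat.eq_one_of_dvd_coprimes ((hq.coprime_iff_not_dvd.mpr S.not_dvd_index).pow_left d)
      (hd ▸ Subgroup.index_dvd_of_le le_sup_right) (Subgroup.index_dvd_of_le le_sup_left)
  have hmapS : (S : Subgroup G).map (QuotientGroup.mk' N) = ⊤ := by
    have h2 := congrArg (Subgroup.map (QuotientGroup.mk' N)) htop
    rwa [Subgroup.map_sup, QuotientGroup.map_mk'_self, sup_bot_eq,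
      map_top_of_surjective _ (QuotientGroup.mk'_surjective N)] at h2
  have hρ : QuotientGroup.mk' N g ∈
      ((S : Subgroup G).lowerCentralSeries k).map (QuotientGroup.mk' N) := by
    rw [map_lowerCentralSeries, hmapS, ← map_top_of_surjective _ (QuotientGroup.mk'_surjective N),
      ← map_lowerCentralSeries]
    exact ⟨g, hg, rfl⟩
  obtain ⟨s, hs, hsg⟩ := hρ
  have hn : s⁻¹ * g ∈ N := QuotientGroup.eq.mp hsg
  have hsS : s ∈ (S : Subgroup G) := lowerCentralSeries_le_self _ k hs
  have hsC : s ∈ C := by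
    rw [← top_subtype_lowerCentralSeries] at hs
    obtain ⟨t, ht, rfl⟩ := hs
    have hcl : closure (V (S : Subgroup G) k) ≤ C.comap (S : Subgroup G).subtype := by
      refine (closure_le _).mpr fun v hv => hC _ (V_map _ hv) ?_
      obtain ⟨d, hd⟩ := hqpow v v.2
      exact coprime_orderOf_of_pow hp hq hqp hd
    exact hcl (lcs_le_closure k ht)
  have hnS : s⁻¹ * g ∈ (S : Subgroup G) := mul_mem (inv_mem hsS) hgS
  have hnL : s⁻¹ * g ∈ L := by
    refine (QuotientGroup.eq_one_iff _).mp (orderOf_eq_one_iff.mp ?_)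
    obtain ⟨d, hd⟩ := hqpow _ hnS
    exact Nat.eq_one_of_dvd_coprimes
      (((Fusion.mem_pResidual_iff_of_hasNormalPComplement hnpc).mp hn).pow_right d) dvd_rfl
      (orderOf_dvd_of_pow_eq_one (by rw [← QuotientGroup.mk_pow, hd, QuotientGroup.mk_one]))
  have hnC : s⁻¹ * g ∈ C := by
    obtain ⟨d, hd⟩ := hqpow _ hnS
    refine (QuotientGroup.eq_one_iff _).mp (orderOf_eq_one_iff.mp ?_)
    have hmem : QuotientGroup.mk' C (s⁻¹ * g) ∈ Ap.map (QuotientGroup.mk' C) := by
      have := mem_map_of_mem (QuotientGroup.mk' C) hnL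
      rwa [Subgroup.map_sup, QuotientGroup.map_mk'_self, bot_sup_eq] at this
    obtain ⟨f, hf⟩ := (hApp.map (QuotientGroup.mk' C)) ⟨_, hmem⟩
    exact Nat.eq_one_of_dvd_coprimes (((Nat.coprime_primes hq hp).mpr hqp).pow d f)
      (orderOf_dvd_of_pow_eq_one (by rw [← QuotientGroup.mk_pow, hd, QuotientGroup.mk_one]))
      (orderOf_dvd_of_pow_eq_one (congrArg Subtype.val hf))
  simpa using C.mul_mem hsC hnC

end Cfsg.Agent.H73.BW

namespace Cfsg.Agent.H73.BW

open Subgroup Cfsg

universe u

/-- The image of a nilpotent subgroup is nilpotent. -/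
theorem nilpotent_map {G H : Type*} [Group G] [Group H] (f : G →* H) {K : Subgroup G}
    (h : Group.IsNilpotent K) : Group.IsNilpotent (K.map f) :=
  Group.nilpotent_of_surjective (h := h) (f.subgroupMap K) (f.subgroupMap_surjective K)

/-- A subgroup of a nilpotent subgroup is nilpotent. -/
theorem nilpotent_of_le {G : Type*} [Group G] {H K : Subgroup G} (hle : H ≤ K)
    (h : Group.IsNilpotent K) : Group.IsNilpotent H :=
  Group.nilpotent_of_surjective (h := Subgroup.isNilpotent (H.subgroupOf K))
    (subgroupOfEquivOfLe hle).toMonoidHom (subgroupOfEquivOfLe hle).surjective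

/-- A finite soluble group has a normal `p`-subgroup outside the Frattini subgroup. -/
theorem exists_normal_pgroup_not_le_frattini {G : Type u} [Group G] [Finite G]
    [Group.IsSolvable G] [Nontrivial G] :
    ∃ (P : Subgroup G) (p : ℕ), p.Prime ∧ P.Normal ∧ IsPGroup p P ∧ ¬ P ≤ frattini G := by
  have hne : frattini G ≠ ⊤ := fun h => (bot_ne_top (α := Subgroup G))
    (frattini_nongenerating (by rw [h, bot_sup_eq]))
  haveI : Nontrivial (G ⧸ frattini G) := QuotientGroup.nontrivial_iff.mpr hne
  haveI : Group.IsSolvable (G ⧸ frattini G) :=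
    solvable_of_surjective (QuotientGroup.mk'_surjective (frattini G))
  obtain ⟨M, p, hMn, hM, hp, hMp, -, -⟩ :=
    Hall.exists_minimal_normal_pgroup (G := G ⧸ frattini G)
  haveI : Fact p.Prime := ⟨hp⟩
  set N := M.comap (QuotientGroup.mk' (frattini G)) with hN
  haveI : N.Normal := hMn.comap _
  have hΦN : frattini G ≤ N := fun x hx => by
    rw [hN, mem_comap, QuotientGroup.mk'_apply, (QuotientGroup.eq_one_iff x).mpr hx]
    exact M.one_mem
  obtain ⟨P⟩ : Nonempty (Sylow p N) := inferInstance
  set P0 := (P : Subgroup N).map N.subtype with hP0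
  set q := (QuotientGroup.mk' (frattini G)).subgroupMap N with hq
  have hNP : (P : Subgroup N) ⊔ (frattini G).subgroupOf N = ⊤ := by
    haveI : ((frattini G).subgroupOf N).Normal := inferInstance
    have hidx : ∃ d, ((frattini G).subgroupOf N).index = p ^ d := by
      have hker : q.ker = (frattini G).subgroupOf N := by
        ext x
        rw [MonoidHom.mem_ker, mem_subgroupOf, ← QuotientGroup.eq_one_iff, Subtype.ext_iff]
        rfl
      rw [← hker, index_ker, MonoidHom.range_eq_top.mpr
        (MonoidHom.subgroupMap_surjective _ N), card_top, hN,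
        map_comap_eq_self_of_surjective (QuotientGroup.mk'_surjective _)]
      exact IsPGroup.iff_card.mp hMp
    obtain ⟨d, hd⟩ := hidx
    rw [← index_eq_one]
    exact Nat.eq_one_of_dvd_coprimes ((hp.coprime_iff_not_dvd.mpr P.not_dvd_index).pow_left d)
      (hd ▸ index_dvd_of_le le_sup_right) (index_dvd_of_le le_sup_left)
  have hNle : N ≤ P0 ⊔ frattini G := by
    intro x hx
    have : (⟨x, hx⟩ : N) ∈ (P : Subgroup N) ⊔ (frattini G).subgroupOf N := hNP ▸ mem_top _
    have := mem_map_of_mem N.subtype this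
    rw [Subgroup.map_sup, subgroupOf_map_subtype, inf_of_le_left hΦN] at this
    exact this
  have hnorm : normalizer (P0 : Set G) = ⊤ := by
    refine frattini_nongenerating (top_le_iff.mp ?_)
    rw [← Sylow.normalizer_sup_eq_top P]
    exact sup_le le_sup_left (hNle.trans (sup_le_sup_right le_normalizer _))
  refine ⟨P0, p, hp, normalizer_eq_top_iff.mp hnorm, P.isPGroup'.map _, fun hle => hM ?_⟩
  have hNΦ : N ≤ frattini G := hNle.trans (sup_le hle le_rfl)
  rw [eq_bot_iff]
  intro y hy
  obtain ⟨x, rfl⟩ := QuotientGroup.mk'_surjective _ y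
  exact (QuotientGroup.eq_one_iff x).mpr (hNΦ hy)

/-- The soluble case. -/
theorem nilpotent_of_key {k : ℕ} : ∀ (n : ℕ) (G : Type u) [Group G] [Finite G],
    Nat.card G = n → Group.IsSolvable G → Key k G →
      Group.IsNilpotent ((⊤ : Subgroup G).lowerCentralSeries k) := by
  intro n
  induction n using Nat.strong_induction_on with
  | _ n ih =>
    intro G _ _ hn hs hk
    rcases subsingleton_or_nontrivial G with h1 | h1
    · infer_instance
    obtain ⟨P, p, hp, hPn, hPp, hPΦ⟩ := exists_normal_pgroup_not_le_frattini (G := G)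
    haveI : Fact p.Prime := ⟨hp⟩
    obtain ⟨M, hM, hPM⟩ : ∃ M : Subgroup G, IsCoatom M ∧ ¬ P ≤ M := by
      by_contra hcon
      push Not at hcon
      refine hPΦ ?_
      rw [frattini, Order.radical]
      exact le_iInf₂ fun M hM => hcon M hM
    have hMP : M ⊔ P = ⊤ :=
      hM.2 _ (lt_of_le_of_ne le_sup_left fun h => hPM (h ▸ le_sup_right))
    have hlt : Nat.card M < n := by
      rw [← hn]
      exact lt_of_le_of_ne (Subgroup.card_le_card_group M)
        fun h => hM.1 (Subgroup.eq_top_of_card_eq _ h)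
    haveI hsM : Group.IsSolvable M := inferInstance
    have hA : Group.IsNilpotent ((⊤ : Subgroup M).lowerCentralSeries k) :=
      ih _ hlt M rfl hsM (hk.subgroup M)
    set A := (⊤ : Subgroup M).lowerCentralSeries k with hAdef
    set C := (centralizer (P : Set G)).subgroupOf M with hCdef
    haveI : C.Normal := inferInstance
    have hval : ∀ v ∈ V M k, (orderOf v).Coprime p → v ∈ C := by
      intro v hv hvp
      rw [hCdef, mem_subgroupOf, mem_centralizer_iff]
      intro z hz
      exact (Key.commute hk hPp (V_map M.subtype hv) (fun w hw => hPn.conj_mem w hw _)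
        (by rwa [Subgroup.coe_subtype, Subgroup.orderOf_coe]) hz).eq
    have hAC : ∀ a ∈ A, (orderOf a).Coprime p → a ∈ C :=
      fun a ha hap => mem_of_values_mem hA hval ha hap
    -- the two parts
    obtain ⟨Q⟩ : Nonempty (Sylow p A) := inferInstance
    set P1 := P ⊔ ((Q : Subgroup A).map A.subtype).map M.subtype with hP1
    set B := (((pResidual p A)).map A.subtype).map M.subtype with hB
    have hP1p : IsPGroup p P1 :=
      hPp.to_sup_of_normal_left ((Q.isPGroup'.map _).map _)
    have hcomm : ∀ x ∈ P1, ∀ y ∈ B, Commute x y := by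
      intro x hx y hy
      obtain ⟨_, ⟨b, hb, rfl⟩, rfl⟩ := hy
      have hbp : (orderOf b).Coprime p := (Fusion.mem_pResidual_iff_of_hasNormalPComplement
        Fusion.hasNormalPComplement_of_isNilpotent).mp hb
      have hle : P1 ≤ centralizer {((b : M) : G)} := by
        refine sup_le (fun z hz => ?_) ?_
        · rw [mem_centralizer_singleton_iff]
          have := hAC b b.2 (by rwa [Subgroup.orderOf_coe])
          rw [hCdef, mem_subgroupOf, mem_centralizer_iff] at this
          exact this z hz
        · rintro _ ⟨_, ⟨c, hc, rfl⟩, rfl⟩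
          rw [mem_centralizer_singleton_iff]
          exact congrArg (fun w : A => ((w : M) : G))
            (Fusion.commute_of_hasNormalPComplement Fusion.hasNormalPComplement_of_isNilpotent
              Q.isPGroup' hbp hc).symm
      exact mem_centralizer_singleton_iff.mp (hle hx)
    have hc' : ∀ (x : P1) (y : B), Commute (P1.subtype x) (B.subtype y) :=
      fun x y => hcomm x x.2 y y.2
    let f : P1 × B →* G := P1.subtype.noncommCoprod B.subtype hc'
    haveI : Group.IsNilpotent P1 := hP1p.isNilpotent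
    haveI hBnil : Group.IsNilpotent B :=
      nilpotent_map M.subtype (nilpotent_map A.subtype inferInstance)
    haveI : Group.IsNilpotent f.range :=
      Group.nilpotent_of_surjective f.rangeRestrict f.rangeRestrict_surjective
    have hrange : f.range = P1 ⊔ B := by
      show (P1.subtype.noncommCoprod B.subtype hc').range = _
      rw [MonoidHom.noncommCoprod_range, range_subtype, range_subtype]
    set T := P ⊔ A.map M.subtype with hT
    have hAle : A.map M.subtype ≤ P1 ⊔ B := by
      have hA2 : (⊤ : Subgroup A) ≤ pResidual p A ⊔ (Q : Subgroup A) :=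
        (Fusion.isComplement'_pResidual Fusion.hasNormalPComplement_of_isNilpotent Q).sup_eq_top.ge
      rintro _ ⟨a, ha, rfl⟩
      have := mem_map_of_mem M.subtype (mem_map_of_mem A.subtype (hA2 (mem_top (⟨a, ha⟩ : A))))
      rw [Subgroup.map_sup, Subgroup.map_sup] at this
      exact (sup_le le_sup_right (le_sup_right.trans le_sup_left) :
        B ⊔ ((Q : Subgroup A).map A.subtype).map M.subtype ≤ P1 ⊔ B) this
    have hTle : T ≤ f.range :=
      hrange ▸ sup_le (le_sup_left.trans le_sup_left) hAle
    haveI hTn : T.Normal := by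
      rw [← normalizer_eq_top_iff, eq_top_iff, ← hMP]
      refine sup_le (fun m hm => ?_) (le_sup_left.trans le_normalizer)
      rw [mem_normalizer_iff]
      intro x
      have key : ∀ g ∈ M, ∀ y ∈ T, g * y * g⁻¹ ∈ T := by
        intro g hg y hy
        have hmap : T.map (MulAut.conj g).toMonoidHom ≤ T := by
          rw [hT, Subgroup.map_sup]
          refine sup_le ?_ ?_
          · rintro _ ⟨z, hz, rfl⟩
            exact mem_sup_left (hPn.conj_mem z hz g)
          · rintro _ ⟨_, ⟨a, ha, rfl⟩, rfl⟩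
            exact mem_sup_right ⟨⟨g, hg⟩ * a * ⟨g, hg⟩⁻¹,
              (inferInstance : A.Normal).conj_mem a ha _, rfl⟩
        exact hmap ⟨y, hy, rfl⟩
      exact ⟨key m hm x, fun hx => by simpa [mul_assoc] using key m⁻¹ (M.inv_mem hm) _ hx⟩
    have hle : (⊤ : Subgroup G).lowerCentralSeries k ≤ T := by
      intro x hx
      rw [← QuotientGroup.eq_one_iff]
      have hM' : M.map (QuotientGroup.mk' T) = ⊤ := by
        have := congrArg (Subgroup.map (QuotientGroup.mk' T)) hMP
        rwa [Subgroup.map_sup, map_top_of_surjective _ (QuotientGroup.mk'_surjective T),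
          show P.map (QuotientGroup.mk' T) = ⊥ from (Subgroup.map_eq_bot_iff P).mpr (by
            rw [QuotientGroup.ker_mk']; exact le_sup_left), sup_bot_eq] at this
      have h2 : QuotientGroup.mk' T x ∈ (M.lowerCentralSeries k).map (QuotientGroup.mk' T) := by
        rw [map_lowerCentralSeries, hM', ← map_top_of_surjective _ (QuotientGroup.mk'_surjective T),
          ← map_lowerCentralSeries]
        exact ⟨x, hx, rfl⟩
      obtain ⟨y, hy, hyx⟩ := h2
      rw [← top_subtype_lowerCentralSeries] at hy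
      change QuotientGroup.mk' T x = 1
      rw [← hyx]
      exact (QuotientGroup.eq_one_iff y).mpr (mem_sup_right hy)
    exact nilpotent_of_le (hle.trans hTle) inferInstance

end Cfsg.Agent.H73.BW
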