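import Mathlib

/-!
Left normed commutator values generate the terms of the lower central series; the key consequence
of the order condition of Baumslag–Wiegold type.
-/

set_option autoImplicit false

namespace Cfsg.Agent.H73.BW

open Subgroup

variable {G : Type*} [Group G]

/-- The commutator `[a, g]`. -/
abbrev cm (a g : G) : G := a * g * a⁻¹ * g⁻¹

/-- The left normed commutator values of length `k + 1`. -/
def V (G : Type*) [Group G] : ℕ → Set G
  | 0 => Set.univ
  | k + 1 => {x | ∃ a ∈ V G k, ∃ g : G, x = cm a g}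

/-- The values of length `k + 1` with prescribed first entry `a`. -/
def W : ℕ → G → Set G
  | 0, a => {a}
  | k + 1, a => {x | ∃ g : G, x ∈ W k (cm a g)}

theorem map_cm {H : Type*} [Group H] (f : G →* H) (a g : G) : f (cm a g) = cm (f a) (f g) := by
  simp [cm]

theorem conj_cm (c a g : G) : c * cm a g * c⁻¹ = cm (c * a * c⁻¹) (c * g * c⁻¹) := by
  simp only [cm, mul_inv_rev, inv_inv]; group

theorem V_succ_subset (k : ℕ) : V G (k + 1) ⊆ V G k := by
  induction k with
  | zero => exact Set.subset_univ _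
  | succ k ih =>
    rintro x ⟨a, ha, g, rfl⟩
    exact ⟨a, ih ha, g, rfl⟩

theorem V_map {H : Type*} [Group H] (f : G →* H) {k : ℕ} {x : G} (hx : x ∈ V G k) :
    f x ∈ V H k := by
  induction k generalizing x with
  | zero => exact Set.mem_univ _
  | succ k ih =>
    obtain ⟨a, ha, g, rfl⟩ := hx
    exact ⟨f a, ih ha, f g, map_cm f a g⟩

theorem V_conj {k : ℕ} {x : G} (hx : x ∈ V G k) (c : G) : c * x * c⁻¹ ∈ V G k :=
  V_map (MulAut.conj c).toMonoidHom hx

theorem V_subset_lcs {k : ℕ} {x : G} (hx : x ∈ V G k) :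
    x ∈ (⊤ : Subgroup G).lowerCentralSeries k := by
  induction k generalizing x with
  | zero => exact Subgroup.mem_top x
  | succ k ih =>
    obtain ⟨a, ha, g, rfl⟩ := hx
    exact Subgroup.commutator_mem_commutator (ih ha) (Subgroup.mem_top g)

theorem lcs_le_closure (k : ℕ) :
    (⊤ : Subgroup G).lowerCentralSeries k ≤ Subgroup.closure (V G k) := by
  induction k with
  | zero => exact fun x _ => Subgroup.subset_closure (Set.mem_univ x)
  | succ k ih =>
    have hn : (Subgroup.closure (V G (k + 1))).Normal := ⟨fun x hx c => by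
      refine Subgroup.closure_induction (p := fun w _ => c * w * c⁻¹ ∈ Subgroup.closure (V G (k + 1)))
        (fun w hw => Subgroup.subset_closure (V_conj hw c)) (by simp) (fun u v _ _ hu hv => ?_)
        (fun u _ hu => ?_) hx
      · rw [show c * (u * v) * c⁻¹ = (c * u * c⁻¹) * (c * v * c⁻¹) by group]
        exact Subgroup.mul_mem _ hu hv
      · rw [show c * u⁻¹ * c⁻¹ = (c * u * c⁻¹)⁻¹ by group]
        exact Subgroup.inv_mem _ hu⟩
    rw [Subgroup.lowerCentralSeries_succ, Subgroup.commutator_le]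
    intro a ha g _
    have hle : Subgroup.closure (V G k) ≤ (Subgroup.center (G ⧸ Subgroup.closure (V G (k + 1)))).comap
        (QuotientGroup.mk' _) := by
      rw [Subgroup.closure_le]
      intro b hb
      rw [SetLike.mem_coe, Subgroup.mem_comap, Subgroup.mem_center_iff]
      intro c
      obtain ⟨c, rfl⟩ := QuotientGroup.mk'_surjective _ c
      have h := (QuotientGroup.eq_one_iff (N := Subgroup.closure (V G (k + 1))) (cm b c)).mpr
        (Subgroup.subset_closure (show cm b c ∈ V G (k + 1) from ⟨b, hb, c, rfl⟩))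
      rw [QuotientGroup.mk_mul, QuotientGroup.mk_mul, QuotientGroup.mk_mul, QuotientGroup.mk_inv,
        QuotientGroup.mk_inv, mul_inv_eq_one, mul_inv_eq_iff_eq_mul] at h
      exact h.symm
    have h := Subgroup.mem_center_iff.mp (Subgroup.mem_comap.mp (hle (ih ha))) (QuotientGroup.mk' _ g)
    rw [← QuotientGroup.eq_one_iff, commutatorElement_def, QuotientGroup.mk_mul, QuotientGroup.mk_mul,
      QuotientGroup.mk_mul, QuotientGroup.mk_inv, QuotientGroup.mk_inv, mul_inv_eq_one,
      mul_inv_eq_iff_eq_mul]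
    exact h.symm

theorem foldl_iff {k : ℕ} {x : G} :
    (∃ f : Fin (k + 1) → G, x = ((List.ofFn f).tail).foldl (fun a b => a * b * a⁻¹ * b⁻¹) (f 0)) ↔
      x ∈ V G k := by
  have key : ∀ (k : ℕ) (x : G), x ∈ V G k ↔
      ∃ (a : G) (f : Fin k → G), x = (List.ofFn f).foldl (fun a b => a * b * a⁻¹ * b⁻¹) a := by
    intro k
    induction k with
    | zero => exact fun x => ⟨fun _ => ⟨x, Fin.elim0, by simp⟩, fun _ => Set.mem_univ _⟩
    | succ k ih =>
      intro x
      constructor
      · rintro ⟨b, hb, g, rfl⟩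
        obtain ⟨a, f, rfl⟩ := (ih b).mp hb
        refine ⟨a, Fin.snoc f g, ?_⟩
        rw [List.ofFn_succ', List.concat_eq_append, List.foldl_append]
        simp [cm]
      · rintro ⟨a, f, rfl⟩
        rw [List.ofFn_succ', List.concat_eq_append, List.foldl_append]
        exact ⟨_, (ih _).mpr ⟨a, fun i => f i.castSucc, rfl⟩, f (Fin.last k), rfl⟩
  constructor
  · rintro ⟨f, rfl⟩
    rw [List.ofFn_succ, List.tail_cons]
    exact (key k _).mpr ⟨f 0, fun i => f i.succ, rfl⟩
  · intro hx
    obtain ⟨a, f, rfl⟩ := (key k x).mp hx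
    exact ⟨Fin.cons a f, by simp [List.ofFn_succ]⟩

theorem W_subset {k j : ℕ} {a : G} (ha : a ∈ V G j) {x : G} (hx : x ∈ W k a) : x ∈ V G (k + j) := by
  induction k generalizing a j with
  | zero => rw [Set.mem_singleton_iff.mp hx, Nat.zero_add]; exact ha
  | succ k ih =>
    obtain ⟨g, hg⟩ := hx
    have := ih (j := j + 1) ⟨a, ha, g, rfl⟩ hg
    rwa [show k + 1 + j = k + (j + 1) by omega]

theorem W_mem_normal {A : Subgroup G} (hA : A.Normal) {k : ℕ} {a : G} (ha : a ∈ A) {x : G}
    (hx : x ∈ W k a) : x ∈ A := by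
  induction k generalizing a with
  | zero => rw [Set.mem_singleton_iff.mp hx]; exact ha
  | succ k ih =>
    obtain ⟨g, hg⟩ := hx
    refine ih ?_ hg
    rw [show cm a g = a * (g * a⁻¹ * g⁻¹) by simp [cm, mul_assoc]]
    exact A.mul_mem ha (hA.conj_mem _ (A.inv_mem ha) g)

theorem W_lift {H : Type*} [Group H] {f : G →* H} (hf : Function.Surjective f) {k : ℕ} {a : G}
    {x : H} (hx : x ∈ W k (f a)) : ∃ y ∈ W k a, f y = x := by
  induction k generalizing a with
  | zero => exact ⟨a, rfl, (Set.mem_singleton_iff.mp hx).symm⟩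
  | succ k ih =>
    obtain ⟨h, hh⟩ := hx
    obtain ⟨g, rfl⟩ := hf h
    obtain ⟨y, hy, hy'⟩ := ih (a := cm a g) (by rwa [map_cm])
    exact ⟨y, ⟨g, hy⟩, hy'⟩

theorem mem_upperCentralSeries {k : ℕ} {a : G} (h : ∀ x ∈ W k a, x = 1) :
    a ∈ Subgroup.upperCentralSeries G k := by
  induction k generalizing a with
  | zero => rw [Subgroup.upperCentralSeries_zero, Subgroup.mem_bot]; exact h a rfl
  | succ k ih => exact fun g => ih fun x hx => h x ⟨g, hx⟩

theorem isNilpotent_of_lcs_le_ucs {k : ℕ}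
    (h : (⊤ : Subgroup G).lowerCentralSeries k ≤ Subgroup.upperCentralSeries G k) :
    Group.IsNilpotent G := by
  have key : ∀ j ≤ k, (⊤ : Subgroup G).lowerCentralSeries (k + j) ≤
      Subgroup.upperCentralSeries G (k - j) := by
    intro j
    induction j with
    | zero => exact fun _ => by simpa using h
    | succ j ih =>
      intro hj
      rw [← Nat.add_assoc, Subgroup.lowerCentralSeries_succ, Subgroup.commutator_le]
      intro a ha g _
      have := ih (by omega) ha
      rw [show k - j = (k - (j + 1)) + 1 by omega] at this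
      exact this g
  refine Subgroup.nilpotent_iff_lowerCentralSeries.mpr ⟨k + k, le_bot_iff.mp ?_⟩
  simpa using key k le_rfl

/-- The consequence of the order condition that is used. -/
def Key (k : ℕ) (G : Type*) [Group G] : Prop :=
  ∀ x y : G, x ∈ V G k → y ∈ V G k → (orderOf x).Coprime (orderOf y) →
    orderOf (x * y) = orderOf x → y = 1

theorem key_of_cond [Finite G] {k : ℕ}
    (h : ∀ x y : G, x ∈ V G k → y ∈ V G k → (orderOf x).Coprime (orderOf y) →
      (∀ r : ℕ, r.Prime → r ∣ orderOf x * orderOf y → r ∣ orderOf (x * y)) ∨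
        orderOf x * orderOf y ≤ orderOf (x * y)) : Key k G := by
  intro x y hx hy hc he
  rw [← orderOf_eq_one_iff]
  by_contra hne
  rcases h x y hx hy hc with h' | h'
  · obtain ⟨r, hr, hd⟩ := Nat.exists_prime_and_dvd hne
    have := h' r hr (hd.trans (dvd_mul_left _ _))
    rw [he] at this
    exact hr.one_lt.ne' (Nat.dvd_one.mp (hc ▸ Nat.dvd_gcd this hd))
  · rw [he] at h'
    exact hne (le_antisymm (Nat.le_of_mul_le_mul_left (h'.trans_eq (mul_one _).symm) (orderOf_pos x))
      (orderOf_pos y))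

theorem Key.subgroup {k : ℕ} (h : Key k G) (H : Subgroup G) : Key k H := by
  intro x y hx hy hc he
  refine Subtype.ext (h x y (V_map H.subtype hx) (V_map H.subtype hy) ?_ ?_)
  · rwa [Subgroup.orderOf_coe, Subgroup.orderOf_coe]
  · rw [← Subgroup.coe_mul, Subgroup.orderOf_coe, Subgroup.orderOf_coe]; exact he

/-- `[[…[z, v], …], v]`. -/
def iterC (z v : G) : ℕ → G
  | 0 => z
  | i + 1 => cm (iterC z v i) v

theorem iterC_mem_V (z v : G) : ∀ i : ℕ, iterC z v i ∈ V G i
  | 0 => Set.mem_univ _
  | i + 1 => ⟨_, iterC_mem_V z v i, v, rfl⟩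

theorem iterC_mem {P : Subgroup G} {z v : G} (hz : z ∈ P) (hv : ∀ w ∈ P, v * w * v⁻¹ ∈ P) :
    ∀ i : ℕ, iterC z v i ∈ P
  | 0 => hz
  | i + 1 => by
    have h := iterC_mem hz hv i
    rw [iterC, show cm (iterC z v i) v = iterC z v i * (v * (iterC z v i)⁻¹ * v⁻¹) by
      simp [cm, mul_assoc]]
    exact P.mul_mem h (hv _ (P.inv_mem h))

theorem map_iterC {H : Type*} [Group H] (f : G →* H) (z v : G) :
    ∀ i : ℕ, f (iterC z v i) = iterC (f z) (f v) i
  | 0 => rfl
  | i + 1 => by rw [iterC, iterC, map_cm, map_iterC f z v i]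

/-- A coprime element acting with an Engel sink commutes. -/
theorem commute_of_iterC [Finite G] {p : ℕ} {P : Subgroup G} (hP : IsPGroup p P) {z v : G}
    (hv : ∀ w ∈ P, v * w * v⁻¹ ∈ P) (hcop : (orderOf v).Coprime p) (hz : z ∈ P)
    {n : ℕ} (hn : iterC z v n = 1) : Commute z v := by
  have step : ∀ w ∈ P, Commute (cm w v) v → Commute w v := by
    intro w hw hc
    have hwP : cm w v ∈ P := iterC_mem hw hv 1
    have hpow : ∀ i : ℕ, v ^ i * w⁻¹ * (v ^ i)⁻¹ = w⁻¹ * cm w v ^ i := by
      intro i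
      induction i with
      | zero => simp
      | succ i ih =>
        calc v ^ (i + 1) * w⁻¹ * (v ^ (i + 1))⁻¹
            = v * (v ^ i * w⁻¹ * (v ^ i)⁻¹) * v⁻¹ := by group
          _ = v * (w⁻¹ * cm w v ^ i) * v⁻¹ := by rw [ih]
          _ = (v * w⁻¹ * v⁻¹) * (v * cm w v ^ i * v⁻¹) := by group
          _ = w⁻¹ * cm w v ^ (i + 1) := by
            rw [((hc.pow_left i).symm).eq, mul_assoc (cm w v ^ i) v v⁻¹, mul_inv_cancel, mul_one,
              pow_succ']
            simp [cm, mul_assoc]
    have h1 := hpow (orderOf v)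
    rw [pow_orderOf_eq_one, one_mul, inv_one, mul_one, left_eq_mul] at h1
    obtain ⟨j, hj⟩ := hP ⟨_, hwP⟩
    have h2 : cm w v ^ p ^ j = 1 := congrArg Subtype.val hj
    have : cm w v = 1 := orderOf_eq_one_iff.mp (Nat.eq_one_of_dvd_coprimes (hcop.pow_right j)
      (orderOf_dvd_of_pow_eq_one h1) (orderOf_dvd_of_pow_eq_one h2))
    rw [cm, mul_inv_eq_one, mul_inv_eq_iff_eq_mul] at this
    exact this
  induction n generalizing z with
  | zero => rw [show z = 1 from hn]; exact Commute.one_left v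
  | succ n ih =>
    refine step z hz (ih (iterC_mem hz hv 1) ?_)
    have : ∀ i, iterC (cm z v) v i = iterC z v (i + 1) := by
      intro i
      induction i with
      | zero => rfl
      | succ i ih' => rw [iterC, ih']; rfl
    rw [this]
    exact hn

/-- A p'-value centralises every p-subgroup it normalises. -/
theorem Key.commute [Finite G] {k : ℕ} (h : Key k G) {p : ℕ} {P : Subgroup G} (hP : IsPGroup p P)
    {v : G} (hv : v ∈ V G k) (hnorm : ∀ w ∈ P, v * w * v⁻¹ ∈ P)
    (hcop : (orderOf v).Coprime p) {z : G} (hz : z ∈ P) : Commute z v := by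
  refine commute_of_iterC hP hnorm hcop hz (n := k + 1) ?_
  set y := iterC z v (k + 1) with hy
  have hyP : y ∈ P := iterC_mem hz hnorm (k + 1)
  obtain ⟨j, hj⟩ := hP ⟨y, hyP⟩
  have hyj : y ^ p ^ j = 1 := congrArg Subtype.val hj
  refine h v y hv (V_succ_subset k (iterC_mem_V z v (k + 1)))
    (Nat.Coprime.coprime_dvd_right (orderOf_dvd_of_pow_eq_one hyj) (hcop.pow_right j)) ?_
  have e : v * y = MulAut.conj (v * iterC z v k) v := by
    rw [MulAut.conj_apply, hy, iterC, cm]
    simp only [mul_inv_rev]; group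
  rw [e, MulEquiv.orderOf_eq]

end Cfsg.Agent.H73.BW
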