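import Cfsg.Agent.Components.Fitting
import Cfsg.Agent.Fusion.PComplement
import Cfsg.Agent.Thompson.NormalPComplement
import Cfsg.Agent.Frobenius.Sylow
import Cfsg.Agent.Frobenius.Basic

/-!
Groups whose noncentral elements have centralisers that are maximal among the subgroups invariant
under the automorphisms fixing the element.
-/

set_option autoImplicit false

namespace Cfsg.Agent.H73.MaxCen

open Subgroup

variable {W : Type*} [Group W]

/-- The centralizer of an element. -/
abbrev cen (x : W) : Subgroup W := Subgroup.centralizer ({x} : Set W)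

theorem mem_cen {x w : W} : w ∈ cen x ↔ w * x = x * w := Subgroup.mem_centralizer_singleton_iff

theorem mem_cen_comm {x w : W} (h : w ∈ cen x) : x ∈ cen w := mem_cen.mpr (mem_cen.mp h).symm

theorem self_mem_cen (x : W) : x ∈ cen x := mem_cen.mpr rfl

theorem cen_ne_top {x : W} (hx : x ∉ center W) : cen x ≠ ⊤ := fun h => hx
  (Subgroup.mem_center_iff.mpr fun g => mem_cen.mp (h ▸ Subgroup.mem_top g))

theorem center_le_cen (x : W) : center W ≤ cen x := Subgroup.center_le_centralizer _

theorem cen_center_mul {z : W} (hz : z ∈ center W) (x : W) : cen (z * x) = cen x := by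
  ext w
  rw [mem_cen, mem_cen, ← mul_assoc, Subgroup.mem_center_iff.mp hz w, mul_assoc, mul_assoc]
  exact ⟨fun h => mul_left_cancel h, fun h => by rw [h]⟩

theorem cen_mul_center {z : W} (hz : z ∈ center W) (x : W) : cen (x * z) = cen x := by
  rw [Subgroup.mem_center_iff.mp hz x, cen_center_mul hz]

theorem conj_mem_cen {x w g : W} (h : w ∈ cen x) : g * w * g⁻¹ ∈ cen (g * x * g⁻¹) := by
  have h' := mem_cen.mp h
  rw [mem_cen]
  calc g * w * g⁻¹ * (g * x * g⁻¹) = g * (w * x) * g⁻¹ := by group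
    _ = g * (x * w) * g⁻¹ := by rw [h']
    _ = g * x * g⁻¹ * (g * w * g⁻¹) := by group

theorem map_mem_cen (φ : MulAut W) {x w : W} (h : w ∈ cen x) : φ w ∈ cen (φ x) := by
  rw [mem_cen, ← map_mul, ← map_mul, mem_cen.mp h]

/-- An element of p-power order. -/
def PEl (p : ℕ) (x : W) : Prop := ∃ k : ℕ, x ^ p ^ k = 1

theorem PEl.of_mem {p : ℕ} {S : Subgroup W} (hS : IsPGroup p S) {x : W} (hx : x ∈ S) : PEl p x := by
  obtain ⟨k, hk⟩ := hS ⟨x, hx⟩
  exact ⟨k, congrArg Subtype.val hk⟩

theorem PEl.map {p : ℕ} {x : W} (h : PEl p x) {H : Type*} [Group H] (f : W →* H) : PEl p (f x) := by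
  obtain ⟨k, hk⟩ := h
  exact ⟨k, by rw [← map_pow, hk, map_one]⟩

theorem PEl.conj {p : ℕ} {x : W} (h : PEl p x) (g : W) : PEl p (g * x * g⁻¹) :=
  h.map (MulAut.conj g).toMonoidHom

theorem PEl.pow {p : ℕ} {x : W} (h : PEl p x) (n : ℕ) : PEl p (x ^ n) := by
  obtain ⟨k, hk⟩ := h
  exact ⟨k, by rw [← pow_mul, mul_comm, pow_mul, hk, one_pow]⟩

theorem PEl.isPGroup {p : ℕ} [Fact p.Prime] {x : W} (h : PEl p x) :
    IsPGroup p (Subgroup.zpowers x) := by
  obtain ⟨k, hk⟩ := h
  obtain ⟨i, -, hi⟩ := (Nat.dvd_prime_pow Fact.out).mp (orderOf_dvd_of_pow_eq_one hk)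
  exact IsPGroup.of_card (n := i) (by rw [Nat.card_zpowers, hi])

theorem PEl.coprime {p q : ℕ} (hp : p.Prime) (hq : q.Prime) (hpq : p ≠ q) {x y : W} (hx : PEl p x)
    (hy : PEl q y) : (orderOf x).Coprime (orderOf y) := by
  obtain ⟨i, hi⟩ := hx
  obtain ⟨j, hj⟩ := hy
  exact Nat.Coprime.coprime_dvd_left (orderOf_dvd_of_pow_eq_one hi)
    (Nat.Coprime.coprime_dvd_right (orderOf_dvd_of_pow_eq_one hj)
      (((Nat.coprime_primes hp hq).mpr hpq).pow i j))

variable [Finite W]

/-- A subgroup is contained in one containing all its elements of prime power order. -/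
theorem le_of_pEl {D T : Subgroup W}
    (h : ∀ p : ℕ, p.Prime → ∀ x ∈ D, PEl p x → x ∈ T) : D ≤ T := by
  rw [← Subgroup.subgroupOf_eq_top]
  refine Components.eq_top_of_forall_sylow _ fun p hp => ⟨Classical.arbitrary _, fun a ha => ?_⟩
  exact h p hp.out a a.2 ((PEl.of_mem (Sylow.isPGroup' _) ha).map D.subtype)

theorem exists_sylow_mem {p : ℕ} [Fact p.Prime] {x : W} (hx : PEl p x) :
    ∃ P : Sylow p W, x ∈ (P : Subgroup W) := by
  obtain ⟨P, hP⟩ := hx.isPGroup.exists_le_sylow
  exact ⟨P, hP (Subgroup.mem_zpowers x)⟩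

theorem mem_of_normal_sylow {p : ℕ} [Fact p.Prime] (P : Sylow p W) (hn : (P : Subgroup W).Normal)
    {x : W} (hx : PEl p x) : x ∈ (P : Subgroup W) := by
  obtain ⟨Q, hQ⟩ := exists_sylow_mem hx
  have := Sylow.unique_of_normal P hn
  rwa [Subsingleton.elim P Q]

/-- The intersection of the Sylow p-subgroups. -/
def op (p : ℕ) (W : Type*) [Group W] : Subgroup W := ⨅ P : Sylow p W, (P : Subgroup W)

theorem op_isPGroup (p : ℕ) : IsPGroup p (op p W) :=
  (Classical.arbitrary (Sylow p W)).isPGroup'.to_le (iInf_le _ _)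

theorem op_invariant (p : ℕ) [Fact p.Prime] (φ : MulAut W) {x : W} (hx : x ∈ op p W) :
    φ x ∈ op p W := by
  rw [op, Subgroup.mem_iInf] at hx ⊢
  intro P
  obtain ⟨Q, hQ⟩ := (P.isPGroup'.map φ.symm.toMonoidHom).exists_le_sylow
  have hPQ : Nat.card (Q : Subgroup W) ≤ Nat.card ((P : Subgroup W).map φ.symm.toMonoidHom) := by
    rw [Subgroup.card_map_of_injective φ.symm.injective, Nat.card_congr (Sylow.equiv Q P).toEquiv]
  obtain ⟨y, hy, hyx⟩ := (Subgroup.eq_of_le_of_card_ge hQ hPQ).ge (hx Q)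
  have : φ x = y := by rw [← hyx]; exact φ.apply_symm_apply y
  rw [this]
  exact hy

theorem op_normal (p : ℕ) [Fact p.Prime] : (op p W).Normal :=
  ⟨fun _ hx g => op_invariant p (MulAut.conj g) hx⟩

theorem le_op {p : ℕ} [Fact p.Prime] {N : Subgroup W} (hn : N.Normal) (hN : IsPGroup p N) :
    N ≤ op p W := by
  refine le_iInf fun P => ?_
  have h := P.is_maximal' (P.isPGroup'.to_sup_of_normal_right hN) le_sup_left
  exact sup_eq_left.mp h

/-- The hypothesis: centralisers of powers, and maximality. -/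
structure Hyp (W : Type*) [Group W] : Prop where
  pow : ∀ (x : W) (k : ℕ), x ^ k ∉ center W → cen (x ^ k) = cen x
  max : ∀ x : W, x ∉ center W → ∀ K : Subgroup W, cen x ≤ K →
    (∀ φ : MulAut W, φ x = x → ∀ k ∈ K, φ k ∈ K) → K = cen x ∨ K = ⊤

variable (H : Hyp W)
include H

theorem cen_eq_of_coprime {x y : W} (hx : x ∉ center W) (hy : y ∉ center W) (hc : Commute x y)
    (hcop : (orderOf x).Coprime (orderOf y)) : cen x = cen y := by
  obtain ⟨k, hk⟩ := exists_pow_eq_self_of_coprime hcop.symm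
  obtain ⟨l, hl⟩ := exists_pow_eq_self_of_coprime hcop
  have e1 : (x * y) ^ (orderOf y * k) = x := by
    rw [pow_mul, hc.mul_pow, pow_orderOf_eq_one, mul_one, hk]
  have e2 : (x * y) ^ (orderOf x * l) = y := by
    rw [pow_mul, hc.mul_pow, pow_orderOf_eq_one, one_mul, hl]
  have h1 := H.pow (x * y) (orderOf y * k) (by rw [e1]; exact hx)
  have h2 := H.pow (x * y) (orderOf x * l) (by rw [e2]; exact hy)
  rw [e1] at h1
  rw [e2] at h2
  rw [h1, h2]

theorem central_part {p q : ℕ} (hp : p.Prime) (hq : q.Prime) (hpq : p ≠ q) {y w : W} (hy : PEl p y)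
    (hync : y ∉ center W) (hw : w ∈ cen y) (hwq : PEl q w) {u : W} (hu : u ∈ cen y) :
    u * w = w * u := by
  by_cases hwz : w ∈ center W
  · exact Subgroup.mem_center_iff.mp hwz u
  · have h := cen_eq_of_coprime H hync hwz (mem_cen.mp hw).symm (hy.coprime hp hq hpq hwq)
    exact mem_cen.mp (h ▸ hu)

theorem exists_part {p : ℕ} [Fact p.Prime] {y : W} (hy : PEl p y) (hync : y ∉ center W) :
    ∃ S : Subgroup W, IsPGroup p S ∧ ∀ w, w ∈ S ↔ w ∈ cen y ∧ PEl p w := by
  let P : Sylow p (cen y) := Classical.arbitrary _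
  have hn : (P : Subgroup (cen y)).Normal := by
    rw [← Subgroup.normalizer_eq_top_iff]
    refine Components.eq_top_of_forall_sylow _ fun q hq => ?_
    by_cases hqp : q = p
    · subst hqp
      exact ⟨P, Subgroup.le_normalizer⟩
    · refine ⟨Classical.arbitrary _, fun a ha => ?_⟩
      refine Subgroup.centralizer_le_normalizer _ ?_
      rw [Subgroup.mem_centralizer_iff]
      intro u _
      exact Subtype.ext (central_part H Fact.out hq.out (Ne.symm hqp) hy hync a.2
        ((PEl.of_mem (Sylow.isPGroup' _) ha).map (cen y).subtype) u.2)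
  refine ⟨(P : Subgroup (cen y)).map (cen y).subtype, P.isPGroup'.map _, fun w => ⟨?_, ?_⟩⟩
  · rintro ⟨a, ha, rfl⟩
    exact ⟨a.2, (PEl.of_mem P.isPGroup' ha).map (cen y).subtype⟩
  · rintro ⟨hw, k, hk⟩
    exact ⟨⟨w, hw⟩, mem_of_normal_sylow P hn ⟨k, Subtype.ext hk⟩, rfl⟩

/-- The p-part of the centralizer of a p-element is normal, or is a Sylow subgroup with that
centralizer as normaliser. -/
theorem part_cases {p : ℕ} [Fact p.Prime] {y : W} (hync : y ∉ center W)
    {S : Subgroup W} (hS : IsPGroup p S) (hmem : ∀ w, w ∈ S ↔ w ∈ cen y ∧ PEl p w) :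
    S.Normal ∨ ((∃ P : Sylow p W, (P : Subgroup W) = S) ∧
      Subgroup.normalizer (S : Set W) = cen y) := by
  have hle : cen y ≤ Subgroup.normalizer (S : Set W) := by
    intro g hg
    have hgy : g * y * g⁻¹ = y := by rw [mem_cen.mp hg, mul_assoc, mul_inv_cancel, mul_one]
    rw [Subgroup.mem_normalizer_iff]
    intro w
    rw [hmem, hmem]
    refine ⟨fun h => ⟨hgy ▸ conj_mem_cen h.1, h.2.conj g⟩, fun h => ⟨?_, ?_⟩⟩
    · have h1 := (cen y).mul_mem ((cen y).mul_mem ((cen y).inv_mem hg) h.1) hg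
      rwa [show g⁻¹ * (g * w * g⁻¹) * g = w by group] at h1
    · have h1 := h.2.conj g⁻¹
      rwa [show g⁻¹ * (g * w * g⁻¹) * g⁻¹⁻¹ = w by group] at h1
  refine Or.elim (H.max y hync _ hle ?_) (fun h => ?_) (fun h => ?_)
  rotate_left 1
  · right
    refine ⟨?_, h⟩
    obtain ⟨P, hP⟩ := hS.exists_le_sylow
    refine ⟨P, le_antisymm ?_ hP⟩
    by_contra hlt
    have hlt' : S.subgroupOf (P : Subgroup W) < ⊤ :=
      lt_top_iff_ne_top.mpr (fun e => hlt (Subgroup.subgroupOf_eq_top.mp e))
    have := P.isPGroup'.isNilpotent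
    obtain ⟨g, hgN, hgS⟩ := SetLike.exists_of_lt (Group.normalizerCondition_of_isNilpotent _ hlt')
    have hgN' : (g : W) ∈ Subgroup.normalizer (S : Set W) := by
      rw [Subgroup.mem_normalizer_iff]
      intro w
      constructor
      · intro hw
        exact (Subgroup.mem_normalizer_iff.mp hgN ⟨w, hP hw⟩).mp hw
      · intro hw
        have hwP : w ∈ (P : Subgroup W) := by
          have h1 := Subgroup.mul_mem _ (Subgroup.mul_mem _ (Subgroup.inv_mem _ g.2) (hP hw)) g.2
          rwa [show (g : W)⁻¹ * ((g : W) * w * (g : W)⁻¹) * g = w by group] at h1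
        exact (Subgroup.mem_normalizer_iff.mp hgN ⟨w, hwP⟩).mpr hw
    rw [h] at hgN'
    exact hgS ((hmem _).mpr ⟨hgN', PEl.of_mem P.isPGroup' g.2⟩)
  · exact Or.inl (Subgroup.normalizer_eq_top_iff.mp h)
  · intro φ hφ k hk
    have hS' : ∀ w, w ∈ S ↔ φ w ∈ S := by
      intro w
      rw [hmem, hmem]
      refine ⟨fun h => ⟨hφ ▸ map_mem_cen φ h.1, h.2.map φ.toMonoidHom⟩, fun h => ⟨?_, ?_⟩⟩
      · have h1 := map_mem_cen φ.symm h.1
        rwa [φ.symm_apply_apply, show φ.symm y = y from φ.symm_apply_eq.mpr hφ.symm] at h1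
      · have h1 := h.2.map φ.symm.toMonoidHom
        simpa using h1
    rw [Subgroup.mem_normalizer_iff] at hk ⊢
    intro w
    rw [← φ.apply_symm_apply w, ← map_inv, ← map_mul, ← map_mul, ← hS', ← hS']
    exact hk _

theorem sylow_of_notMem_op {p : ℕ} [Fact p.Prime] {y : W} (hy : PEl p y) (hync : y ∉ center W)
    (hyR : y ∉ op p W) : ∃ P : Sylow p W,
      Subgroup.normalizer ((P : Subgroup W) : Set W) = cen y ∧
        ∀ w, w ∈ (P : Subgroup W) ↔ w ∈ cen y ∧ PEl p w := by
  obtain ⟨S, hS, hmem⟩ := exists_part H hy hync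
  rcases part_cases H hync hS hmem with hn | ⟨⟨P, rfl⟩, hN⟩
  · exact absurd (le_op hn hS ((hmem y).mpr ⟨self_mem_cen y, hy⟩)) hyR
  · exact ⟨P, hN, hmem⟩

theorem hasNormalPComplement {p : ℕ} [Fact p.Prime] (hO : op p W ≤ center W) :
    Cfsg.HasNormalPComplement p W := by
  have hpp : p.Prime := Fact.out
  let P : Sylow p W := Classical.arbitrary _
  have hiso : ∀ y, y ∉ center W → y ∉ op p W := fun y hy h => hy (hO h)
  by_cases hab : ∀ a ∈ (P : Subgroup W), ∀ b ∈ (P : Subgroup W), a * b = b * a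
  · refine Fusion.hasNormalPComplement_of_normalizer_le_centralizer P ?_
    by_cases hPZ : (P : Subgroup W) ≤ center W
    · intro g _
      rw [Subgroup.mem_centralizer_iff]
      exact fun a ha => (Subgroup.mem_center_iff.mp (hPZ ha) g).symm
    obtain ⟨y, hyP, hync⟩ := SetLike.not_le_iff_exists.mp hPZ
    have hy := PEl.of_mem P.isPGroup' hyP
    obtain ⟨Q, hN, hmem⟩ := sylow_of_notMem_op H hy hync (hiso y hync)
    have hPQ : (P : Subgroup W) = Q := (P.is_maximal' Q.isPGroup' fun a ha =>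
      (hmem a).mpr ⟨mem_cen.mpr (hab a ha y hyP), PEl.of_mem P.isPGroup' ha⟩).symm
    rw [hPQ, hN]
    intro d hd
    rw [Subgroup.mem_centralizer_iff]
    intro a ha
    have hdC : cen y ≤ cen a := by
      refine le_of_pEl fun q hq w hw hwq => ?_
      rw [mem_cen]
      by_cases hqp : q = p
      · subst hqp
        exact hab w (hPQ ▸ (hmem w).mpr ⟨hw, hwq⟩) a (hPQ ▸ ha)
      · exact (central_part H hpp hq (Ne.symm hqp) hy hync hw hwq ((hmem a).mp ha).1).symm
    exact (mem_cen.mp (hdC hd)).symm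
  -- a noncentral element in the centre of `P`
  obtain ⟨y0, hy0P, hy0nc, hy0z⟩ : ∃ y0 ∈ (P : Subgroup W), y0 ∉ center W ∧
      ∀ a ∈ (P : Subgroup W), a * y0 = y0 * a := by
    obtain ⟨y, hyP, hync⟩ : ∃ y ∈ (P : Subgroup W), y ∉ center W := by
      by_contra h
      push_neg at h
      exact hab fun a ha b hb => Subgroup.mem_center_iff.mp (h b hb) a
    have hy := PEl.of_mem P.isPGroup' hyP
    obtain ⟨Q, -, hmem⟩ := sylow_of_notMem_op H hy hync (hiso y hync)
    obtain ⟨g, hg⟩ := MulAction.exists_smul_eq W Q P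
    have hconj : ∀ a ∈ (P : Subgroup W), ∃ b ∈ (Q : Subgroup W), g * b * g⁻¹ = a := fun a ha => by
      rw [← hg] at ha
      exact ha
    have hconj' : g * y * g⁻¹ ∈ (P : Subgroup W) := by
      rw [← hg]
      exact ⟨y, (hmem y).mpr ⟨self_mem_cen y, hy⟩, rfl⟩
    refine ⟨g * y * g⁻¹, hconj', fun h => hync ?_, fun a ha => ?_⟩
    · have h' := (inferInstance : (center W).Normal).conj_mem _ h g⁻¹
      rwa [show g⁻¹ * (g * y * g⁻¹) * g⁻¹⁻¹ = y by group] at h'
    · obtain ⟨b, hb, rfl⟩ := hconj a ha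
      exact mem_cen.mp (conj_mem_cen ((hmem b).mp hb).1)
  have hy0 := PEl.of_mem P.isPGroup' hy0P
  obtain ⟨Q, hN, hmem0⟩ := sylow_of_notMem_op H hy0 hy0nc (hiso y0 hy0nc)
  obtain rfl : Q = P := Sylow.ext (P.is_maximal' Q.isPGroup' fun a ha =>
    (hmem0 a).mpr ⟨mem_cen.mpr (hy0z a ha), PEl.of_mem P.isPGroup' ha⟩)
  by_cases hp2 : p = 2
  · subst hp2
    exfalso
    -- an element of the second centre with square in the centre
    set C := center (P : Subgroup W) with hC
    have hCtop : C ≠ ⊤ := fun e => hab fun a ha b hb =>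
      congrArg Subtype.val (Subgroup.mem_center_iff.mp
        (show (⟨b, hb⟩ : (P : Subgroup W)) ∈ C from e ▸ Subgroup.mem_top _) ⟨a, ha⟩)
    have : Nontrivial ((P : Subgroup W) ⧸ C) := QuotientGroup.nontrivial_iff.mpr hCtop
    have hq2 : IsPGroup 2 ((P : Subgroup W) ⧸ C) := P.isPGroup'.to_quotient C
    have := hq2.center_nontrivial
    obtain ⟨k, hk⟩ := IsPGroup.iff_card.mp (hq2.to_subgroup (center ((P : Subgroup W) ⧸ C)))
    have hk0 : k ≠ 0 := fun h0 => by
      rw [h0, pow_zero] at hk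
      exact absurd hk (Finite.one_lt_card (α := center ((P : Subgroup W) ⧸ C))).ne'
    obtain ⟨⟨yq, hyq⟩, hyo⟩ := exists_prime_orderOf_dvd_card' (G := center ((P : Subgroup W) ⧸ C)) 2
      (hk ▸ dvd_pow_self 2 hk0)
    rw [Subgroup.orderOf_mk] at hyo
    obtain ⟨⟨y, hyP⟩, rfl⟩ := QuotientGroup.mk'_surjective C yq
    have hyC : (⟨y, hyP⟩ : (P : Subgroup W)) ∉ C := fun h => by
      rw [QuotientGroup.mk'_apply, (QuotientGroup.eq_one_iff _).mpr h, orderOf_one] at hyo
      exact absurd hyo (by norm_num)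
    have hy2 : (⟨y, hyP⟩ : (P : Subgroup W)) ^ 2 ∈ C := by
      rw [← QuotientGroup.eq_one_iff, QuotientGroup.mk_pow]
      exact orderOf_dvd_iff_pow_eq_one.mp (dvd_of_eq hyo)
    obtain ⟨⟨a, haP⟩, hay⟩ : ∃ a : (P : Subgroup W), a * ⟨y, hyP⟩ ≠ ⟨y, hyP⟩ * a := by
      by_contra h
      push_neg at h
      exact hyC (Subgroup.mem_center_iff.mpr h)
    have hay' : a * y ≠ y * a := fun h => hay (Subtype.ext h)
    set c := a * y * a⁻¹ * y⁻¹ with hc
    have hcP : c ∈ (P : Subgroup W) := Subgroup.mul_mem _ (Subgroup.mul_mem _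
      (Subgroup.mul_mem _ haP hyP) (Subgroup.inv_mem _ haP)) (Subgroup.inv_mem _ hyP)
    have hcC : (⟨c, hcP⟩ : (P : Subgroup W)) ∈ C := by
      rw [← QuotientGroup.eq_one_iff,
        show (⟨c, hcP⟩ : (P : Subgroup W)) = ⟨a, haP⟩ * ⟨y, hyP⟩ * ⟨a, haP⟩⁻¹ * ⟨y, hyP⟩⁻¹ from rfl,
        QuotientGroup.mk_mul, QuotientGroup.mk_mul, QuotientGroup.mk_mul, QuotientGroup.mk_inv,
        QuotientGroup.mk_inv]
      have h1 := Subgroup.mem_center_iff.mp hyq (QuotientGroup.mk (⟨a, haP⟩ : (P : Subgroup W)))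
      rw [QuotientGroup.mk'_apply] at h1
      rw [h1]
      simp
    have hcz : ∀ b ∈ (P : Subgroup W), b * c = c * b := fun b hb =>
      congrArg Subtype.val (Subgroup.mem_center_iff.mp hcC ⟨b, hb⟩)
    have hy2z : ∀ b ∈ (P : Subgroup W), b * y ^ 2 = y ^ 2 * b := fun b hb =>
      congrArg Subtype.val (Subgroup.mem_center_iff.mp hy2 ⟨b, hb⟩)
    have hce : a * y * a⁻¹ = c * y := by rw [hc]; group
    have hc2 : c ^ 2 = 1 := by
      have h1 : (c * y) ^ 2 = y ^ 2 := by
        rw [← hce, conj_pow, hy2z a haP, mul_assoc, mul_inv_cancel, mul_one]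
      rwa [(show Commute c y from (hcz y hyP).symm).mul_pow, mul_eq_right] at h1
    have hync : y ∉ center W := fun h => hay' (Subgroup.mem_center_iff.mp h a)
    have hanc : a ∉ center W := fun h => hay' (Subgroup.mem_center_iff.mp h y).symm
    have hy2c : y ^ 2 ∈ center W := by
      by_contra h
      exact hay' (mem_cen.mp ((H.pow y 2 h) ▸ mem_cen.mpr (hy2z a haP) : a ∈ cen y))
    have ha2y : y * a ^ 2 = a ^ 2 * y := by
      have e1 : a ^ 2 * y * (a ^ 2)⁻¹ = c * (a * y * a⁻¹) := by
        calc a ^ 2 * y * (a ^ 2)⁻¹ = a * (a * y * a⁻¹) * a⁻¹ := by simp only [sq, mul_inv_rev, mul_assoc]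
          _ = a * (c * y) * a⁻¹ := by rw [hce]
          _ = (a * c) * y * a⁻¹ := by group
          _ = c * (a * y * a⁻¹) := by rw [hcz a haP]; group
      rw [hce, ← mul_assoc, ← sq, hc2, one_mul, mul_inv_eq_iff_eq_mul] at e1
      exact e1.symm
    have ha2c : a ^ 2 ∈ center W := by
      by_contra h
      have : y ∈ cen a := (H.pow a 2 h) ▸ mem_cen.mpr ha2y
      exact hay' (mem_cen.mp this).symm
    have hcnc : c ∈ center W := by
      by_contra h
      have e1 : (a * y) ^ 2 = c * (a ^ 2 * y ^ 2) := by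
        calc (a * y) ^ 2 = (a * y * a⁻¹) * (a ^ 2) * y := by rw [sq, sq]; group
          _ = c * (y * a ^ 2) * y := by rw [hce]; group
          _ = c * (a ^ 2 * y ^ 2) := by rw [ha2y]; simp only [sq, mul_assoc]
      have hzz : a ^ 2 * y ^ 2 ∈ center W := Subgroup.mul_mem _ ha2c hy2c
      have hn : (a * y) ^ 2 ∉ center W := by
        rw [e1]
        intro hh
        have h' := Subgroup.mul_mem _ hh (Subgroup.inv_mem _ hzz)
        exact h (by rwa [mul_assoc, mul_inv_cancel, mul_one] at h')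
      have h1 := H.pow (a * y) 2 hn
      rw [e1, cen_mul_center hzz] at h1
      have h2 : a ∈ cen (a * y) := h1 ▸ mem_cen.mpr (hcz a haP)
      have h3 := mem_cen.mp h2
      rw [mul_assoc a y a, mul_right_inj] at h3
      exact hay' h3
    have hy := PEl.of_mem P.isPGroup' hyP
    obtain ⟨R, hNR, hmemR⟩ := sylow_of_notMem_op H hy hync (hiso y hync)
    have hcen : cen (a * y * a⁻¹) = cen y := by rw [hce, cen_center_mul hcnc]
    have ha2inv : ∀ b : W, a⁻¹ * b * a = a * b * a⁻¹ := fun b => by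
      have h1 := Subgroup.mem_center_iff.mp ha2c b
      calc a⁻¹ * b * a = a⁻¹ * (b * a ^ 2) * a⁻¹ := by rw [sq]; group
        _ = a⁻¹ * (a ^ 2 * b) * a⁻¹ := by rw [h1]
        _ = a * b * a⁻¹ := by rw [sq]; group
    have hstep : ∀ w ∈ (R : Subgroup W), a * w * a⁻¹ ∈ (R : Subgroup W) := fun w hw =>
      (hmemR _).mpr ⟨hcen ▸ conj_mem_cen ((hmemR w).mp hw).1, ((hmemR w).mp hw).2.conj a⟩
    have haN : a ∈ Subgroup.normalizer ((R : Subgroup W) : Set W) := by
      rw [Subgroup.mem_normalizer_iff]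
      refine fun w => ⟨hstep w, fun hw => ?_⟩
      have := hstep _ hw
      rw [← ha2inv] at this
      rwa [show a⁻¹ * (a * w * a⁻¹) * a = w by group] at this
    rw [hNR] at haN
    exact hay' (mem_cen.mp haN)
  · -- Glauberman-Thompson
    rw [Thompson.hasNormalPComplement_iff_zjay hp2 (Or.inl rfl : (0 : ℕ) = 0 ∨ (0 : ℕ) = p) P]
    set J := Thompson.zjay 0 (P : Subgroup W) with hJ
    have hy0J : y0 ∈ J := by
      obtain ⟨A, hA⟩ := Thompson.maxIn_nonempty 0 (P : Subgroup W)
      refine ⟨Thompson.le_jay hA ?_, ?_⟩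
      · have hB : Thompson.IsAbExp 0 (A ⊔ Subgroup.zpowers y0) := by
          refine ⟨?_, fun b _ => pow_zero b⟩
          rw [← Subgroup.le_centralizer_iff_isMulCommutative]
          have hAc : A ≤ Subgroup.centralizer (A : Set W) := fun b hb =>
            Subgroup.mem_centralizer_iff.mpr fun b' hb' => hA.2.1.comm hb' hb
          have hyc : y0 ∈ Subgroup.centralizer (A : Set W) :=
            Subgroup.mem_centralizer_iff.mpr fun b hb => hy0z b (hA.1 hb)
          refine sup_le ?_ ?_
          · rw [Subgroup.le_centralizer_iff]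
            exact sup_le hAc (Subgroup.zpowers_le.mpr hyc)
          · rw [Subgroup.le_centralizer_iff]
            refine sup_le (fun b hb => ?_) (Subgroup.zpowers_le.mpr ?_)
            · rw [Subgroup.mem_centralizer_iff]
              intro u hu
              obtain ⟨i, rfl⟩ := Subgroup.mem_zpowers_iff.mp hu
              exact ((show Commute y0 b from (hy0z b (hA.1 hb)).symm).zpow_left i).eq
            · rw [Subgroup.mem_centralizer_iff]
              intro u hu
              obtain ⟨i, rfl⟩ := Subgroup.mem_zpowers_iff.mp hu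
              exact ((Commute.refl y0).zpow_left i).eq
        have hle : A ⊔ Subgroup.zpowers y0 ≤ (P : Subgroup W) :=
          sup_le hA.1 (Subgroup.zpowers_le.mpr hy0P)
        rw [Subgroup.eq_of_le_of_card_ge le_sup_left (hA.2.2 _ hle hB)]
        exact Subgroup.mem_sup_right (Subgroup.mem_zpowers y0)
      · exact Subgroup.mem_centralizer_iff.mpr fun b hb => hy0z b (Thompson.jay_le hb)
    have hmapJ : ∀ φ : MulAut W, (∀ w ∈ (P : Subgroup W), φ w ∈ (P : Subgroup W)) →
        J.map φ.toMonoidHom = J := by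
      intro φ hφ
      rw [hJ, ← Thompson.zjay_map φ.toMonoidHom φ.injective]
      congr 1
      refine Subgroup.eq_of_le_of_card_ge ?_ ?_
      · rintro _ ⟨w, hw, rfl⟩; exact hφ w hw
      · exact (Subgroup.card_map_of_injective φ.injective).ge
    have hKinv : ∀ φ : MulAut W, φ y0 = y0 → ∀ k ∈ Subgroup.normalizer (J : Set W),
        φ k ∈ Subgroup.normalizer (J : Set W) := by
      intro φ hφ k hk
      have e := hmapJ φ fun w hw =>
        (hmem0 _).mpr ⟨hφ ▸ map_mem_cen φ ((hmem0 w).mp hw).1, ((hmem0 w).mp hw).2.map φ.toMonoidHom⟩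
      have hJ' : ∀ w, w ∈ J ↔ φ w ∈ J := fun w => by
        refine ⟨fun hw => e ▸ ⟨w, hw, rfl⟩, fun hw => ?_⟩
        rw [← e] at hw
        obtain ⟨v, hv, hvw⟩ := hw
        exact φ.injective hvw ▸ hv
      rw [Subgroup.mem_normalizer_iff] at hk ⊢
      intro w
      rw [← φ.apply_symm_apply w, ← map_inv, ← map_mul, ← map_mul, ← hJ', ← hJ']
      exact hk _
    have hle : cen y0 ≤ Subgroup.normalizer (J : Set W) := by
      intro g hg
      rw [← hN] at hg
      have e := hmapJ (MulAut.conj g) fun w hw => (Subgroup.mem_normalizer_iff.mp hg w).mp hw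
      rw [Subgroup.mem_normalizer_iff]
      intro w
      refine ⟨fun hw => e ▸ ⟨w, hw, rfl⟩, fun hw => ?_⟩
      rw [← e] at hw
      obtain ⟨v, hv, hvw⟩ := hw
      exact (MulAut.conj g).injective hvw ▸ hv
    rcases H.max y0 hy0nc _ hle hKinv with h | h
    · rw [show Subgroup.normalizer (J : Set W) = cen y0 from h,
        Fusion.hasNormalPComplement_iff_inf_eq_bot (Classical.arbitrary (Sylow p (cen y0)))]
      have hkey : ∀ x ∈ Cfsg.pResidual p (cen y0),
          Nat.Coprime (orderOf x) p ∧ x ∈ center (cen y0) := by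
        intro x hx
        refine Subgroup.closure_induction (p := fun w _ => Nat.Coprime (orderOf w) p ∧
          w ∈ center (cen y0)) ?_ ?_ ?_ ?_ hx
        · intro w hw
          refine ⟨hw, Subgroup.mem_center_iff.mpr fun u => ?_⟩
          have hle : Subgroup.zpowers w ≤ Subgroup.centralizer {u} := by
            refine le_of_pEl fun q hq v hv hvq => ?_
            rw [Subgroup.mem_centralizer_singleton_iff]
            by_cases hqp : q = p
            · obtain ⟨i, hi⟩ := hvq
              have hvw : orderOf v ∣ orderOf w := orderOf_dvd_of_mem_zpowers hv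
              subst hqp
              have : v = 1 := orderOf_eq_one_iff.mp (Nat.eq_one_of_dvd_coprimes
                ((Nat.Coprime.pow_right i hw)) hvw (orderOf_dvd_of_pow_eq_one hi))
              simp [this]
            · exact Subtype.ext (central_part H hpp hq (Ne.symm hqp) hy0 hy0nc v.2
                (hvq.map (cen y0).subtype) u.2).symm
          exact (Subgroup.mem_centralizer_singleton_iff.mp (hle (Subgroup.mem_zpowers w))).symm
        · exact ⟨by simp, Subgroup.one_mem _⟩
        · intro u v _ _ hu hv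
          refine ⟨?_, Subgroup.mul_mem _ hu.2 hv.2⟩
          exact Nat.Coprime.coprime_dvd_left
            ((show Commute u v from (Subgroup.mem_center_iff.mp hv.2 u)).orderOf_mul_dvd_mul_orderOf)
            (Nat.Coprime.mul_left hu.1 hv.1)
        · intro u _ hu
          exact ⟨by rw [orderOf_inv]; exact hu.1, Subgroup.inv_mem _ hu.2⟩
      rw [eq_bot_iff]
      rintro x ⟨hx1, hx2⟩
      obtain ⟨i, hi⟩ := IsPGroup.iff_orderOf.mp (Sylow.isPGroup' _) ⟨x, hx1⟩
      rw [Subgroup.orderOf_mk] at hi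
      have h1 := (hkey x hx2).1
      rw [hi] at h1
      rcases i with _ | i
      · exact orderOf_eq_one_iff.mp (by rw [hi, pow_zero])
      · exact absurd ((Nat.coprime_pow_left_iff (Nat.succ_pos i) p p).mp h1)
          (by rw [Nat.coprime_self]; exact hpp.one_lt.ne')
    · exact absurd (hO (le_op (Subgroup.normalizer_eq_top_iff.mp h)
        (P.isPGroup'.to_le Thompson.zjay_le) hy0J)) hy0nc

omit H in
theorem isNilpotent_of_forall_mem (h : ∀ p : ℕ, p.Prime → ∀ x : W, PEl p x → x ∈ op p W) :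
    Group.IsNilpotent W := by
  refine ((Group.isNilpotent_of_finite_tfae (G := W)).out 0 3 rfl rfl).mpr fun p hp P => ?_
  have hle : (P : Subgroup W) = op p W := le_antisymm
    (fun x hx => h p hp.out x (PEl.of_mem P.isPGroup' hx)) (iInf_le _ P)
  rw [hle]
  exact op_normal p

/-- Two primes with noncentral cores force nilpotency. -/
theorem isNilpotent_of_two {p r : ℕ} [Fact p.Prime] [Fact r.Prime] (hpr : p ≠ r)
    (hR : ¬ op p W ≤ center W) (hR' : ¬ op r W ≤ center W) : Group.IsNilpotent W := by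
  obtain ⟨z, hz, hznc⟩ := SetLike.not_le_iff_exists.mp hR
  obtain ⟨w, hw, hwnc⟩ := SetLike.not_le_iff_exists.mp hR'
  have := op_normal (W := W) p
  have := op_normal (W := W) r
  have hcomm : ∀ a ∈ op p W, ∀ b ∈ op r W, Commute a b := fun a ha b hb =>
    Subgroup.commute_of_normal_of_disjoint _ _ inferInstance inferInstance
      (IsPGroup.disjoint_of_ne p r hpr _ _ (op_isPGroup p) (op_isPGroup r)) a b ha hb
  have hcop : ∀ a ∈ op p W, ∀ b ∈ op r W, (orderOf a).Coprime (orderOf b) := fun a ha b hb =>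
    (PEl.of_mem (op_isPGroup p) ha).coprime Fact.out Fact.out hpr (PEl.of_mem (op_isPGroup r) hb)
  have hD1 : ∀ a ∈ op p W, a ∉ center W → cen a = cen w := fun a ha hanc =>
    cen_eq_of_coprime H hanc hwnc (hcomm a ha w hw) (hcop a ha w hw)
  have hD2 : ∀ b ∈ op r W, b ∉ center W → cen b = cen z := fun b hb hbnc =>
    (cen_eq_of_coprime H hznc hbnc (hcomm z hz b hb) (hcop z hz b hb)).symm
  have hwz : cen z = cen w := hD1 z hz hznc
  have hD : cen z = Subgroup.centralizer (op p W : Set W) := by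
    ext g
    rw [Subgroup.mem_centralizer_iff]
    refine ⟨fun hg a ha => ?_, fun h => mem_cen.mpr (h z hz).symm⟩
    by_cases hanc : a ∈ center W
    · exact (Subgroup.mem_center_iff.mp hanc g).symm
    · have : g ∈ cen a := by rw [hD1 a ha hanc, ← hwz]; exact hg
      exact (mem_cen.mp this).symm
  have hDn : (cen z).Normal := hD ▸ Subgroup.normal_centralizer
  refine isNilpotent_of_forall_mem fun q hq y hy => ?_
  have := Fact.mk hq
  by_cases hync : y ∈ center W
  · have hn : (Subgroup.zpowers y).Normal := ⟨fun n hn g => by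
      obtain ⟨i, rfl⟩ := Subgroup.mem_zpowers_iff.mp hn
      rw [Subgroup.mem_center_iff.mp (Subgroup.zpow_mem _ hync i) g, mul_assoc, mul_inv_cancel,
        mul_one]
      exact Subgroup.zpow_mem _ (Subgroup.mem_zpowers y) i⟩
    exact le_op hn hy.isPGroup (Subgroup.mem_zpowers y)
  obtain ⟨S, hS, hmem⟩ := exists_part H hy hync
  by_contra hyo
  -- y lies outside the centraliser of the two cores
  have hyD : y ∉ cen z := by
    intro hyD
    refine hyo ?_
    by_cases hqp : q = p
    · subst hqp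
      have hyw : y ∈ cen w := hwz ▸ hyD
      have e : cen y = cen w := cen_eq_of_coprime H hync hwnc (mem_cen.mp hyw)
        (hy.coprime Fact.out Fact.out hpr (PEl.of_mem (op_isPGroup r) hw))
      refine le_op ⟨fun v hv g => ?_⟩ hS ((hmem y).mpr ⟨self_mem_cen y, hy⟩)
      obtain ⟨hv1, hv2⟩ := (hmem v).mp hv
      rw [e, ← hwz] at hv1
      exact (hmem _).mpr ⟨by rw [e, ← hwz]; exact hDn.conj_mem v hv1 g, hv2.conj g⟩
    · have e : cen y = cen z := cen_eq_of_coprime H hync hznc (mem_cen.mp hyD)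
        (hy.coprime hq Fact.out hqp (PEl.of_mem (op_isPGroup p) hz))
      refine le_op ⟨fun v hv g => ?_⟩ hS ((hmem y).mpr ⟨self_mem_cen y, hy⟩)
      obtain ⟨hv1, hv2⟩ := (hmem v).mp hv
      exact (hmem _).mpr ⟨by rw [e]; exact hDn.conj_mem v (e ▸ hv1) g, hv2.conj g⟩
  obtain ⟨P, hPN, hPmem⟩ := sylow_of_notMem_op H hy hync hyo
  by_cases hqp : q = p
  · subst hqp
    exact hyD (mem_cen_comm ((hPmem z).mp ((iInf_le _ P : op q W ≤ (P : Subgroup W)) hz)).1)
  by_cases hqr : q = r
  · subst hqr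
    exact hyD (by
      rw [hwz]
      exact mem_cen_comm ((hPmem w).mp ((iInf_le _ P : op q W ≤ (P : Subgroup W)) hw)).1)
  -- q is a third prime
  refine Or.elim (H.max y hync (cen y ⊔ op p W) le_sup_left ?_) (fun h => ?_) (fun h => ?_)
  rotate_left 1
  · exact hyD (mem_cen_comm (sup_eq_left.mp h hz))
  · obtain ⟨d, hd, a, ha, hda⟩ := Subgroup.mem_sup_of_normal_right.mp
      (show w ∈ cen y ⊔ op p W from h ▸ Subgroup.mem_top w)
    -- `d = w * a⁻¹`, and a power of it is `w`
    have hd' : d = w * a⁻¹ := by rw [← hda]; group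
    have hc : Commute w a⁻¹ := (hcomm a ha w hw).symm.inv_right
    obtain ⟨k, hk⟩ := exists_pow_eq_self_of_coprime (hcop a ha w hw)
    have : w ∈ cen y := by
      have e : (d ^ orderOf a) ^ k = w := by
        rw [hd', hc.mul_pow, inv_pow, pow_orderOf_eq_one, inv_one, mul_one, hk]
      rw [← e]
      exact Subgroup.pow_mem _ (Subgroup.pow_mem _ hd _) _
    exact hyD (hwz ▸ mem_cen_comm this)
  · intro φ hφ
    show cen y ⊔ op p W ≤ (cen y ⊔ op p W).comap φ.toMonoidHom
    refine sup_le (fun k hk => ?_) (fun k hk => ?_)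
    · exact Subgroup.mem_sup_left (show φ k ∈ cen y from hφ ▸ map_mem_cen φ hk)
    · exact Subgroup.mem_sup_right (op_invariant p φ hk)

/-- The nilpotent case. -/
theorem elementary_of_isNilpotent (hW : Group.IsNilpotent W) :
    ∃ p : ℕ, p.Prime ∧ ∀ g : W, g ^ p ∈ center W ∧ ∀ u : W, g * u * g⁻¹ * u⁻¹ ∈ center W := by
  have hcop : ∀ {p q : ℕ}, p.Prime → q.Prime → p ≠ q → ∀ {x y : W}, PEl p x → PEl q y →
      Commute x y := by
    intro p q hp hq hpq x y hx hy
    have := Fact.mk hp
    have := Fact.mk hq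
    obtain ⟨P, hP⟩ := exists_sylow_mem hx
    obtain ⟨Q, hQ⟩ := exists_sylow_mem hy
    exact Subgroup.commute_of_normal_of_disjoint _ _
      (((Group.isNilpotent_of_finite_tfae (G := W)).out 0 3 rfl rfl).mp hW p inferInstance P)
      (((Group.isNilpotent_of_finite_tfae (G := W)).out 0 3 rfl rfl).mp hW q inferInstance Q)
      (IsPGroup.disjoint_of_ne p q hpq _ _ P.isPGroup' Q.isPGroup') x y hP hQ
  -- one prime only
  obtain ⟨p, hp, hone⟩ : ∃ p : ℕ, p.Prime ∧ ∀ q : ℕ, q.Prime → q ≠ p → ∀ x : W, PEl q x →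
      x ∈ center W := by
    by_contra hno
    push_neg at hno
    obtain ⟨q, hq, -, x, hx, hxnc⟩ := hno 2 Nat.prime_two
    obtain ⟨r, hr, hrq, y, hy, hync⟩ := hno q hq
    have hle : (⊤ : Subgroup W) ≤ cen x := by
      refine le_of_pEl fun s hs v _ hv => ?_
      by_cases hsq : s = q
      · subst hsq
        have e := cen_eq_of_coprime H hxnc hync (hcop hq hr hrq.symm hx hy)
          (hx.coprime hq hr hrq.symm hy)
        rw [e, mem_cen]
        exact (hcop hq hr hrq.symm hv hy).eq
      · exact mem_cen.mpr (hcop hs hq hsq hv hx).eq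
    exact cen_ne_top hxnc (top_le_iff.mp hle)
  refine ⟨p, hp, ?_⟩
  have hΦ : frattini W ≤ center W := by
    intro f hf
    rw [Subgroup.mem_center_iff]
    intro x
    by_cases hx : x ∈ center W
    · exact (Subgroup.mem_center_iff.mp hx f).symm
    refine Or.elim (H.max x hx (cen x ⊔ frattini W) le_sup_left ?_) (fun h => ?_) (fun h => ?_)
    rotate_left 1
    · exact (mem_cen.mp (sup_eq_left.mp h hf)).symm
    · exact absurd (frattini_nongenerating h) (cen_ne_top hx)
    · intro φ hφ
      show cen x ⊔ frattini W ≤ (cen x ⊔ frattini W).comap φ.toMonoidHom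
      refine sup_le (fun k hk => ?_) (fun k hk => ?_)
      · exact Subgroup.mem_sup_left (show φ k ∈ cen x from hφ ▸ map_mem_cen φ hk)
      · exact Subgroup.mem_sup_right
          ((Subgroup.characteristic_iff_map_le.mp frattini_characteristic φ) ⟨k, hk, rfl⟩)
  have hcoatom : ∀ K : Subgroup W, IsCoatom K → K.Normal ∧ ∃ r : ℕ, r.Prime ∧ K.index = r := by
    intro K hK
    have hn : K.Normal := ((Group.isNilpotent_of_finite_tfae (G := W)).out 0 2 rfl rfl).mp hW K hK
    have : Nontrivial (W ⧸ K) := QuotientGroup.nontrivial_iff.mpr hK.1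
    obtain ⟨r, hr, hd⟩ := Nat.exists_prime_and_dvd (Finite.one_lt_card (α := W ⧸ K)).ne'
    have := Fact.mk hr
    obtain ⟨e, he⟩ := exists_prime_orderOf_dvd_card' r hd
    refine ⟨hn, r, hr, ?_⟩
    have htop : (Subgroup.zpowers e).comap (QuotientGroup.mk' K) = ⊤ := by
      refine hK.2 _ (lt_of_le_of_ne (fun k hk => ?_) fun h => ?_)
      · rw [Subgroup.mem_comap, QuotientGroup.mk'_apply, (QuotientGroup.eq_one_iff k).mpr hk]
        exact Subgroup.one_mem _
      · obtain ⟨u, rfl⟩ := QuotientGroup.mk'_surjective K e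
        have hu : u ∈ K := h.ge (Subgroup.mem_comap.mpr (Subgroup.mem_zpowers _))
        rw [QuotientGroup.mk'_apply, (QuotientGroup.eq_one_iff u).mpr hu, orderOf_one] at he
        exact hr.one_lt.ne he
    rw [Subgroup.index_eq_card, ← Subgroup.card_top (G := W ⧸ K)]
    have : Subgroup.zpowers e = ⊤ := by
      rw [← Subgroup.map_comap_eq_self_of_surjective (QuotientGroup.mk'_surjective K)
        (Subgroup.zpowers e), htop, Subgroup.map_top_of_surjective _ (QuotientGroup.mk'_surjective K)]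
    rw [← this, Nat.card_zpowers, he]
  have hcomm : ∀ g u : W, g * u * g⁻¹ * u⁻¹ ∈ center W := by
    intro g u
    refine hΦ ?_
    simp only [frattini, Order.radical, Subgroup.mem_iInf]
    intro K hK
    obtain ⟨hn, r, hr, hi⟩ := hcoatom K hK
    have := Fact.mk hr
    have : IsCyclic (W ⧸ K) := isCyclic_of_prime_card (p := r) (Subgroup.index_eq_card K ▸ hi)
    rw [← QuotientGroup.eq_one_iff, QuotientGroup.mk_mul, QuotientGroup.mk_mul,
      QuotientGroup.mk_mul, QuotientGroup.mk_inv, QuotientGroup.mk_inv]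
    let _ := IsCyclic.commGroup (α := W ⧸ K)
    rw [mul_comm (g : W ⧸ K) u, mul_assoc (u : W ⧸ K), mul_inv_cancel, mul_one, mul_inv_cancel]
  have hpow : ∀ g : W, g ^ p ∈ center W := by
    let f : W →* W ⧸ center W := QuotientGroup.mk' _
    -- the p-th powers vanish modulo the centre
    have hpel : ∀ q : ℕ, q.Prime → ∀ g : W, PEl q g → (f g) ^ p = 1 := by
      intro q hq g hg
      by_cases hqp : q = p
      · subst hqp
        rw [← map_pow]
        refine (QuotientGroup.eq_one_iff _).mpr (hΦ ?_)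
        simp only [frattini, Order.radical, Subgroup.mem_iInf]
        intro K hK
        obtain ⟨hn, r, hr, hi⟩ := hcoatom K hK
        obtain ⟨k, hk⟩ := hg
        rw [← QuotientGroup.eq_one_iff, QuotientGroup.mk_pow]
        have h1 : orderOf (g : W ⧸ K) ∣ q ^ k :=
          (orderOf_map_dvd (QuotientGroup.mk' K) g).trans (orderOf_dvd_of_pow_eq_one hk)
        obtain ⟨i, -, hi'⟩ := (Nat.dvd_prime_pow hq).mp h1
        have h2 : orderOf (g : W ⧸ K) ∣ r :=
          hi ▸ Subgroup.index_eq_card K ▸ orderOf_dvd_natCard _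
        refine orderOf_dvd_iff_pow_eq_one.mp ?_
        rw [hi'] at h2 ⊢
        rcases i with _ | i
        · simp
        · have h3 := (Nat.prime_dvd_prime_iff_eq hq hr).mp
            ((dvd_pow_self q (Nat.succ_ne_zero i)).trans h2)
          exact h3 ▸ h2
      · rw [← map_pow]
        exact (QuotientGroup.eq_one_iff _).mpr (Subgroup.pow_mem _ (hone q hq hqp g hg) _)
    have hc : ∀ a b : W ⧸ center W, Commute a b := by
      intro a b
      obtain ⟨g, rfl⟩ := QuotientGroup.mk'_surjective _ a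
      obtain ⟨u, rfl⟩ := QuotientGroup.mk'_surjective _ b
      have h := (QuotientGroup.eq_one_iff _).mpr (hcomm g u)
      rw [QuotientGroup.mk_mul, QuotientGroup.mk_mul, QuotientGroup.mk_mul, QuotientGroup.mk_inv,
        QuotientGroup.mk_inv, mul_inv_eq_one, mul_inv_eq_iff_eq_mul] at h
      exact h
    let T : Subgroup W :=
      { carrier := {g | (f g) ^ p = 1}
        one_mem' := by simp
        mul_mem' := fun {a b} ha hb => by
          simp only [Set.mem_setOf_eq] at ha hb ⊢
          rw [map_mul, (hc _ _).mul_pow, ha, hb, one_mul]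
        inv_mem' := fun {a} ha => by
          simp only [Set.mem_setOf_eq] at ha ⊢
          rw [map_inv, inv_pow, ha, inv_one] }
    have hT : (⊤ : Subgroup W) ≤ T := le_of_pEl fun q hq g _ hg => hpel q hq g hg
    intro g
    have h : (f g) ^ p = 1 := hT (Subgroup.mem_top g)
    rw [← map_pow] at h
    exact (QuotientGroup.eq_one_iff _).mp h
  exact fun g => ⟨hpow g, hcomm g⟩

/-- The structure theorem. -/
theorem main :
    (∃ p : ℕ, p.Prime ∧ ∀ g : W, g ^ p ∈ center W ∧ ∀ u : W, g * u * g⁻¹ * u⁻¹ ∈ center W) ∨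
    ∃ (p q : ℕ) (T : Subgroup W), p.Prime ∧ q.Prime ∧ p ≠ q ∧ T.Normal ∧ center W ≤ T ∧
      (∃ v ∈ T, v ∉ center W) ∧ T.index = q ∧ (∀ t ∈ T, t ^ p ∈ center W) ∧
      ∀ t ∈ T, t ∉ center W → cen t = T := by
  by_cases hnil : Group.IsNilpotent W
  · exact Or.inl (elementary_of_isNilpotent H hnil)
  right
  -- the prime
  obtain ⟨p, hp, hOp, honly⟩ : ∃ p : ℕ, p.Prime ∧ ¬ op p W ≤ center W ∧
      ∀ r : ℕ, r.Prime → r ≠ p → op r W ≤ center W := by
    by_cases h : ∃ p : ℕ, p.Prime ∧ ¬ op p W ≤ center W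
    · obtain ⟨p, hp, hO⟩ := h
      refine ⟨p, hp, hO, fun r hr hrp => ?_⟩
      have := Fact.mk hp
      have := Fact.mk hr
      by_contra hr'
      exact hnil (isNilpotent_of_two H (Ne.symm hrp) hO hr')
    · push_neg at h
      exfalso
      refine hnil (isNilpotent_of_forall_mem fun q hq x hx => ?_)
      have := Fact.mk hq
      set U : Subgroup W := ⨅ r : {r : ℕ // r.Prime ∧ r ≠ q}, Cfsg.pResidual r.1 W
      have hU : U.Normal := Subgroup.normal_iInf_normal fun r => inferInstance
      refine le_op hU ?_ (Subgroup.mem_iInf.mpr fun r => ?_)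
      · intro u
        obtain ⟨i, hi⟩ : ∃ i, orderOf (u : W) = q ^ i := by
          refine ⟨_, Nat.eq_prime_pow_of_unique_prime_dvd (orderOf_pos _).ne' fun {r} hr hrd => ?_⟩
          by_contra hne
          have := Fact.mk hr
          have h1 := (Fusion.mem_pResidual_iff_of_hasNormalPComplement
            (hasNormalPComplement H (h r hr))).mp (Subgroup.mem_iInf.mp u.2 ⟨r, hr, hne⟩)
          exact (hr.coprime_iff_not_dvd.mp h1.symm) hrd
        exact ⟨i, Subtype.ext (by rw [Subgroup.coe_pow, ← hi, pow_orderOf_eq_one]; rfl)⟩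
      · obtain ⟨k, hk⟩ := hx
        exact Fusion.mem_pResidual (Nat.Coprime.coprime_dvd_left (orderOf_dvd_of_pow_eq_one hk)
          (((Nat.coprime_primes hq r.2.1).mpr r.2.2.symm).pow_left k))
  have := Fact.mk hp
  -- the normal Sylow subgroup
  obtain ⟨P, hPn, hPmem⟩ : ∃ P : Subgroup W, P.Normal ∧ ∀ w, w ∈ P ↔ PEl p w := by
    set U : Subgroup W := ⨅ r : {r : ℕ // r.Prime ∧ r ≠ p}, Cfsg.pResidual r.1 W
    refine ⟨U, Subgroup.normal_iInf_normal fun r => inferInstance, fun w => ⟨fun hw => ?_, ?_⟩⟩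
    · obtain ⟨i, hi⟩ : ∃ i, orderOf w = p ^ i := by
        refine ⟨_, Nat.eq_prime_pow_of_unique_prime_dvd (orderOf_pos _).ne' fun {r} hr hrd => ?_⟩
        by_contra hne
        have := Fact.mk hr
        have h1 := (Fusion.mem_pResidual_iff_of_hasNormalPComplement
          (hasNormalPComplement H (honly r hr hne))).mp (Subgroup.mem_iInf.mp hw ⟨r, hr, hne⟩)
        exact (hr.coprime_iff_not_dvd.mp h1.symm) hrd
      exact ⟨i, by rw [← hi, pow_orderOf_eq_one]⟩
    · rintro ⟨k, hk⟩
      exact Subgroup.mem_iInf.mpr fun r => Fusion.mem_pResidual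
        (Nat.Coprime.coprime_dvd_left (orderOf_dvd_of_pow_eq_one hk)
          (((Nat.coprime_primes hp r.2.1).mpr r.2.2.symm).pow_left k))
  obtain ⟨v0, hv0, hv0nc⟩ := SetLike.not_le_iff_exists.mp hOp
  have hv0P : v0 ∈ P := (hPmem v0).mpr (PEl.of_mem (op_isPGroup p) hv0)
  -- a noncentral q-element
  obtain ⟨q, hq, hqp, y, hy, hync⟩ : ∃ q : ℕ, q.Prime ∧ q ≠ p ∧ ∃ y : W, PEl q y ∧ y ∉ center W := by
    by_contra hno
    push_neg at hno
    refine hnil (isNilpotent_of_forall_mem fun q hq x hx => ?_)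
    have := Fact.mk hq
    by_cases hqp : q = p
    · subst hqp
      refine le_op hPn ?_ ((hPmem x).mpr hx)
      intro u
      obtain ⟨k, hk⟩ := (hPmem _).mp u.2
      exact ⟨k, Subtype.ext hk⟩
    · have hxc := hno q hq hqp x hx
      have hn : (Subgroup.zpowers x).Normal := ⟨fun n hn g => by
        obtain ⟨i, rfl⟩ := Subgroup.mem_zpowers_iff.mp hn
        rw [Subgroup.mem_center_iff.mp (Subgroup.zpow_mem _ hxc i) g, mul_assoc, mul_inv_cancel,
          mul_one]
        exact Subgroup.zpow_mem _ (Subgroup.mem_zpowers x) i⟩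
      exact le_op hn hx.isPGroup (Subgroup.mem_zpowers x)
  have := Fact.mk hq
  -- noncentral p- and p'-elements do not commute
  have hno : ∀ {r : ℕ}, r.Prime → r ≠ p → ∀ {u v : W}, PEl r u → u ∉ center W → v ∈ P →
      v ∉ center W → u ∉ cen v := by
    intro r hr hrp u v hu hunc hv hvnc huv
    have := Fact.mk hr
    have hvp := (hPmem v).mp hv
    have e : cen u = cen v :=
      cen_eq_of_coprime H hunc hvnc (mem_cen.mp huv) (hu.coprime hr hp hrp hvp)
    obtain ⟨B, hB, hBmem⟩ := exists_part H hvp hvnc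
    have hBn : B.Normal := by
      rcases part_cases H hvnc hB hBmem with h | ⟨⟨Q, hQ⟩, -⟩
      · exact h
      · have hPp : IsPGroup p P := fun w => by
          obtain ⟨k, hk⟩ := (hPmem _).mp w.2
          exact ⟨k, Subtype.ext hk⟩
        have hle : (Q : Subgroup W) ≤ P := fun w hw => (hPmem w).mpr (PEl.of_mem Q.isPGroup' hw)
        rw [← hQ, ← Q.is_maximal' hPp hle]
        exact hPn
    have hD : cen v = Subgroup.centralizer (B : Set W) := by
      ext g
      rw [Subgroup.mem_centralizer_iff]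
      refine ⟨fun hg b hb => ?_, fun h => mem_cen.mpr (h v ((hBmem v).mpr ⟨self_mem_cen v, hvp⟩)).symm⟩
      by_cases hbc : b ∈ center W
      · exact (Subgroup.mem_center_iff.mp hbc g).symm
      · have hbu : b ∈ cen u := e ▸ ((hBmem b).mp hb).1
        have e2 : cen b = cen u := cen_eq_of_coprime H hbc hunc (mem_cen.mp hbu)
          (((hBmem b).mp hb).2.coprime hp hr (Ne.symm hrp) hu)
        have : g ∈ cen b := by rw [e2, e]; exact hg
        exact (mem_cen.mp this).symm
    have hDn : (cen v).Normal := hD ▸ Subgroup.normal_centralizer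
    obtain ⟨S, hS, hSmem⟩ := exists_part H hu hunc
    refine hunc (honly r hr hrp (le_op ⟨fun w hw g => ?_⟩ hS ((hSmem u).mpr ⟨self_mem_cen u, hu⟩)))
    obtain ⟨hw1, hw2⟩ := (hSmem w).mp hw
    exact (hSmem _).mpr ⟨by rw [e]; exact hDn.conj_mem w (e ▸ hw1) g, hw2.conj g⟩
  set T := P ⊔ center W with hT
  have hTn : T.Normal := inferInstance
  have hdec : ∀ t ∈ T, ∃ a ∈ P, ∃ z ∈ center W, a * z = t := fun t ht =>
    Subgroup.mem_sup_of_normal_right.mp ht
  have hcenP : ∀ v ∈ P, v ∉ center W → cen v ≤ T := by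
    intro v hv hvnc
    refine le_of_pEl fun r hr w hw hwr => ?_
    by_cases hrp : r = p
    · subst hrp
      exact Subgroup.mem_sup_left ((hPmem w).mpr hwr)
    · by_contra hwT
      exact hno hr hrp hwr (fun h => hwT (Subgroup.mem_sup_right h)) hv hvnc hw
  have hyT : y ∉ T := by
    intro h
    obtain ⟨a, ha, z, hz, rfl⟩ := hdec y h
    have hanc : a ∉ center W := fun h' => hync (Subgroup.mul_mem _ h' hz)
    exact hno hq hqp hy hync ha hanc (mem_cen.mpr (by
      rw [mul_assoc, ← Subgroup.mem_center_iff.mp hz a]))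
  have hTtop : T ≠ ⊤ := fun h => hyT (h ▸ Subgroup.mem_top y)
  have hTinv : ∀ φ : MulAut W, ∀ k ∈ T, φ k ∈ T := by
    intro φ k hk
    obtain ⟨a, ha, z, hz, rfl⟩ := hdec k hk
    rw [map_mul]
    refine Subgroup.mul_mem _ (Subgroup.mem_sup_left ((hPmem _).mpr ?_)) (Subgroup.mem_sup_right ?_)
    · exact ((hPmem a).mp ha).map φ.toMonoidHom
    · exact Subgroup.mem_center_iff.mpr fun g => by
        rw [← φ.apply_symm_apply g, ← map_mul, ← map_mul, Subgroup.mem_center_iff.mp hz]
  have hcenT : ∀ t ∈ T, t ∉ center W → cen t = T := by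
    intro t ht htnc
    obtain ⟨a, ha, z, hz, rfl⟩ := hdec t ht
    have hanc : a ∉ center W := fun h' => htnc (Subgroup.mul_mem _ h' hz)
    rw [cen_mul_center hz]
    exact ((H.max a hanc T (hcenP a ha hanc) fun φ _ => hTinv φ).resolve_right hTtop).symm
  have hv0T : v0 ∈ T := Subgroup.mem_sup_left hv0P
  have hTcomm : ∀ s ∈ T, ∀ t ∈ T, Commute s t := by
    intro s hs t ht
    by_cases htc : t ∈ center W
    · exact Subgroup.mem_center_iff.mp htc s
    · exact mem_cen.mp ((hcenT t ht htc).ge hs)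
  have hint : ∀ e : W, e ∉ T → ∀ t ∈ T, t ∈ cen e → t ∈ center W := by
    intro e he t ht hte
    by_contra htc
    exact he ((hcenT t ht htc).le (mem_cen_comm hte))
  set D := cen y with hD
  have hyinv : ∀ φ : MulAut W, φ y = y → ∀ k ∈ D, φ k ∈ D :=
    fun φ hφ k hk => by
      have h1 := map_mem_cen φ hk
      rwa [hφ] at h1
  have hWDT : ∀ w : W, ∃ d ∈ D, ∃ t ∈ T, d * t = w := by
    refine Or.elim (H.max y hync (D ⊔ T) le_sup_left ?_) (fun h => ?_) (fun h => ?_)
    rotate_left 1
    · exact absurd (hint y hyT v0 hv0T (sup_eq_left.mp h hv0T)) hv0nc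
    · exact fun w => Subgroup.mem_sup_of_normal_right.mp (h ▸ Subgroup.mem_top w)
    · intro φ hφ
      show D ⊔ T ≤ (D ⊔ T).comap φ.toMonoidHom
      exact sup_le (fun k hk => Subgroup.mem_sup_left (hyinv φ hφ k hk))
        (fun k hk => Subgroup.mem_sup_right (hTinv φ k hk))
  -- exponent p on T
  let Tp : Subgroup W :=
    { carrier := {w | ∃ t ∈ T, t ^ p = w}
      one_mem' := ⟨1, T.one_mem, one_pow p⟩
      mul_mem' := by
        rintro _ _ ⟨s, hs, rfl⟩ ⟨t, ht, rfl⟩
        exact ⟨s * t, T.mul_mem hs ht, (hTcomm s hs t ht).mul_pow p⟩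
      inv_mem' := by
        rintro _ ⟨s, hs, rfl⟩
        exact ⟨s⁻¹, T.inv_mem hs, inv_pow s p⟩ }
  have hTpn : Tp.Normal := ⟨by
    rintro _ ⟨t, ht, rfl⟩ g
    exact ⟨g * t * g⁻¹, hTn.conj_mem t ht g, conj_pow⟩⟩
  have hTexp : ∀ t ∈ T, t ^ p ∈ center W := by
    refine Or.elim (H.max y hync (D ⊔ Tp) le_sup_left ?_) (fun h => ?_) (fun h => ?_)
    rotate_left 1
    · exact fun t ht => hint y hyT _ (T.pow_mem ht p) (sup_eq_left.mp h ⟨t, ht, rfl⟩)
    · exfalso
      have key : ∀ k : ℕ, ∀ a ∈ P, ∃ b ∈ P, ∃ z ∈ center W, a = b ^ p ^ k * z := by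
        intro k
        induction k with
        | zero => exact fun a ha => ⟨a, ha, 1, Subgroup.one_mem _, by simp⟩
        | succ k ih =>
          intro a ha
          obtain ⟨b, hb, z, hz, hab⟩ := ih a ha
          obtain ⟨d, hd, m, ⟨t, ht, rfl⟩, hdm⟩ := Subgroup.mem_sup_of_normal_right.mp
            (show b ∈ D ⊔ Tp from h ▸ Subgroup.mem_top b)
          obtain ⟨c, hc, z', hz', rfl⟩ := hdec t ht
          have hd' : d ∈ T := by
            have : d = b * ((c * z') ^ p)⁻¹ := by rw [← hdm]; group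
            rw [this]
            exact T.mul_mem (Subgroup.mem_sup_left hb) (T.inv_mem (T.pow_mem ht p))
          have hdc := hint y hyT d hd' hd
          refine ⟨c, hc, (d * z' ^ p) ^ p ^ k * z, ?_, ?_⟩
          · exact Subgroup.mul_mem _ (Subgroup.pow_mem _ (Subgroup.mul_mem _ hdc
              (Subgroup.pow_mem _ hz' p)) _) hz
          · have hcz : Commute c z' := Subgroup.mem_center_iff.mp hz' c
            have h1 : b = c ^ p * (d * z' ^ p) := by
              rw [← hdm, hcz.mul_pow, ← mul_assoc, ← Subgroup.mem_center_iff.mp hdc, mul_assoc]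
            have hcd : Commute (c ^ p) (d * z' ^ p) := Subgroup.mem_center_iff.mp
              (Subgroup.mul_mem _ hdc (Subgroup.pow_mem _ hz' p)) _
            rw [hab, h1, hcd.mul_pow, ← pow_mul, mul_assoc]
            congr 2
            ring
      obtain ⟨i, hi⟩ := IsPGroup.iff_card.mp
        (show IsPGroup p P from fun w => by
          obtain ⟨k, hk⟩ := (hPmem _).mp w.2
          exact ⟨k, Subtype.ext hk⟩)
      obtain ⟨b, hb, z, hz, hab⟩ := key i v0 hv0P
      have hb1 : b ^ p ^ i = 1 := by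
        rw [← hi]
        exact orderOf_dvd_iff_pow_eq_one.mp (Subgroup.orderOf_dvd_natCard P hb)
      rw [hb1, one_mul] at hab
      exact hv0nc (hab ▸ hz)
    · intro φ hφ
      show D ⊔ Tp ≤ (D ⊔ Tp).comap φ.toMonoidHom
      refine sup_le (fun k hk => Subgroup.mem_sup_left (hyinv φ hφ k hk)) ?_
      rintro _ ⟨t, ht, rfl⟩
      exact Subgroup.mem_sup_right ⟨φ t, hTinv φ t ht, (map_pow φ.toMonoidHom t p).symm⟩
  -- the quotient by T
  let f : W →* W ⧸ T := QuotientGroup.mk' T
  have hDnil : Group.IsNilpotent D := by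
    refine ((Group.isNilpotent_of_finite_tfae (G := D)).out 0 3 rfl rfl).mpr fun r hr R => ?_
    rw [← Subgroup.normalizer_eq_top_iff]
    refine Components.eq_top_of_forall_sylow _ fun s hs => ?_
    by_cases hsr : s = r
    · subst hsr
      exact ⟨R, Subgroup.le_normalizer⟩
    refine ⟨Classical.arbitrary _, fun a ha => Subgroup.centralizer_le_normalizer _ ?_⟩
    rw [Subgroup.mem_centralizer_iff]
    intro u hu
    have hua := (PEl.of_mem (Sylow.isPGroup' _) ha).map D.subtype
    by_cases hsq : s = q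
    · subst hsq
      exact Subtype.ext (central_part H hq hr.out (fun e => hsr e) hy hync u.2
        ((PEl.of_mem R.isPGroup' hu).map D.subtype) a.2).symm
    · exact Subtype.ext (central_part H hq hs.out (Ne.symm hsq) hy hync a.2 hua u.2)
  have hQnil : Group.IsNilpotent (W ⧸ T) := by
    have := hDnil
    refine Group.nilpotent_of_surjective (f.comp D.subtype) fun c => ?_
    obtain ⟨w, rfl⟩ := QuotientGroup.mk'_surjective T c
    obtain ⟨d, hd, t, ht, rfl⟩ := hWDT w
    exact ⟨⟨d, hd⟩, by simp [f, (QuotientGroup.eq_one_iff t).mpr ht]⟩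
  have : Nontrivial (W ⧸ T) := QuotientGroup.nontrivial_iff.mpr hTtop
  have hQcomm : ∀ a b : W ⧸ T, a * b = b * a := by
    have hmax : T ⊔ commutator W = T := by
      refine Or.elim (H.max v0 hv0nc (T ⊔ commutator W) ?_ ?_) (fun h => ?_) (fun h => ?_)
      rotate_left 2
      · rw [h, hcenT v0 hv0T hv0nc]
      · exfalso
        have h1 : (commutator W).map f = ⊤ := by
          rw [← Subgroup.map_top_of_surjective f (QuotientGroup.mk'_surjective T), ← h,
            Subgroup.map_sup, QuotientGroup.map_mk'_self, bot_sup_eq]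
        rw [_root_.commutator_def, Subgroup.map_commutator,
          Subgroup.map_top_of_surjective f (QuotientGroup.mk'_surjective T), ← _root_.commutator_def] at h1
        have := hQnil
        have : Group.IsSolvable (W ⧸ T) := inferInstance
        exact (Group.IsSolvable.commutator_lt_top_of_nontrivial (W ⧸ T)).ne h1
      · rw [hcenT v0 hv0T hv0nc]; exact le_sup_left
      · intro φ _
        show T ⊔ commutator W ≤ (T ⊔ commutator W).comap φ.toMonoidHom
        refine sup_le (fun k hk => Subgroup.mem_sup_left (hTinv φ k hk)) fun k hk => ?_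
        exact Subgroup.mem_sup_right
          ((Subgroup.characteristic_iff_map_le.mp inferInstance φ) ⟨k, hk, rfl⟩)
    intro a b
    obtain ⟨g, rfl⟩ := QuotientGroup.mk'_surjective T a
    obtain ⟨u, rfl⟩ := QuotientGroup.mk'_surjective T b
    have h : g * u * g⁻¹ * u⁻¹ ∈ T := (sup_eq_left.mp hmax)
      (Subgroup.commutator_mem_commutator (Subgroup.mem_top g) (Subgroup.mem_top u))
    rw [← QuotientGroup.eq_one_iff, QuotientGroup.mk_mul, QuotientGroup.mk_mul,
      QuotientGroup.mk_mul, QuotientGroup.mk_inv, QuotientGroup.mk_inv, mul_inv_eq_one,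
      mul_inv_eq_iff_eq_mul] at h
    exact h
  have hTq : ∀ w : W, w ^ q ∈ T := by
    refine Or.elim (H.max v0 hv0nc (T ⊔ Subgroup.closure (Set.range fun w : W => w ^ q)) ?_ ?_) (fun h => ?_) (fun h => ?_)
    rotate_left 2
    · intro w
      rw [hcenT v0 hv0T hv0nc, sup_eq_left] at h
      exact h (Subgroup.subset_closure ⟨w, rfl⟩)
    · exfalso
      let φq : W ⧸ T →* W ⧸ T :=
        { toFun := fun a => a ^ q
          map_one' := one_pow q
          map_mul' := fun a b => Commute.mul_pow (hQcomm a b) q }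
      have hsurj : Function.Surjective φq := by
        rw [← MonoidHom.range_eq_top, ← top_le_iff,
          ← Subgroup.map_top_of_surjective f (QuotientGroup.mk'_surjective T), ← h,
          Subgroup.map_sup, QuotientGroup.map_mk'_self, bot_sup_eq, MonoidHom.map_closure,
          Subgroup.closure_le]
        rintro _ ⟨_, ⟨w, rfl⟩, rfl⟩
        exact ⟨f w, (map_pow f w q).symm⟩
      have hinj := Finite.injective_iff_surjective.mpr hsurj
      obtain ⟨k, hk⟩ := hy
      have : ∀ k : ℕ, ∀ a : W ⧸ T, a ^ q ^ k = 1 → a = 1 := by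
        intro k
        induction k with
        | zero => intro a ha; simpa using ha
        | succ k ih =>
          intro a ha
          refine hinj ?_
          rw [map_one]
          exact ih _ (show (a ^ q) ^ q ^ k = 1 by rw [← pow_mul, ← pow_succ']; exact ha)
      exact hyT ((QuotientGroup.eq_one_iff y).mp (this k (f y) (by rw [← map_pow, hk, map_one])))
    · rw [hcenT v0 hv0T hv0nc]; exact le_sup_left
    · intro φ _
      show T ⊔ Subgroup.closure _ ≤ (T ⊔ Subgroup.closure _).comap φ.toMonoidHom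
      refine sup_le (fun k hk => Subgroup.mem_sup_left (hTinv φ k hk)) ?_
      rw [Subgroup.closure_le]
      rintro _ ⟨w, rfl⟩
      exact Subgroup.mem_sup_right (Subgroup.subset_closure ⟨φ w, (map_pow φ.toMonoidHom w q).symm⟩)
  -- the complement modulo the centre is cyclic of order q
  have hDZ : ∀ d ∈ D, d ∈ T → d ∈ center W := fun d hd hdT => hint y hyT d hdT hd
  let π : W →* W ⧸ center W := QuotientGroup.mk' _
  have hcomp : Subgroup.IsComplement' (T.map π) (D.map π) := by
    refine Subgroup.isComplement'_of_disjoint_and_mul_eq_univ ?_ ?_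
    · rw [disjoint_iff, eq_bot_iff]
      rintro _ ⟨⟨t, ht, rfl⟩, d, hd, hdt⟩
      rw [QuotientGroup.mk'_apply, QuotientGroup.mk'_apply, QuotientGroup.eq] at hdt
      have hdT : d ∈ T := by
        have h1 := T.mul_mem ht (T.inv_mem ((Subgroup.mem_sup_right hdt : _ ∈ T)))
        rwa [mul_inv_rev, inv_inv, mul_inv_cancel_left] at h1
      have htc : t ∈ center W := by
        have h1 := Subgroup.mul_mem _ (hDZ d hd hdT) hdt
        rwa [mul_inv_cancel_left] at h1
      rw [Subgroup.mem_bot]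
      exact (QuotientGroup.eq_one_iff t).mpr htc
    · refine Set.eq_univ_of_forall fun c => ?_
      obtain ⟨w, rfl⟩ := QuotientGroup.mk'_surjective _ c
      obtain ⟨d, hd, t, ht, rfl⟩ := hWDT w
      exact ⟨π (d * t * d⁻¹), ⟨_, hTn.conj_mem t ht d, rfl⟩, π d, ⟨d, hd, rfl⟩, by
        simp only [← map_mul]
        exact congrArg π (inv_mul_cancel_right _ _)⟩
  have : (T.map π).Normal := Subgroup.Normal.map hTn π (QuotientGroup.mk'_surjective _)
  have hQF : Cfsg.IsFrobeniusComplement (D.map π) := by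
    refine Frobenius.of_fixedPointFree hcomp ?_ ?_ ?_
    · intro h
      have : π v0 ∈ (⊥ : Subgroup (W ⧸ center W)) := h ▸ ⟨v0, hv0T, rfl⟩
      exact hv0nc ((QuotientGroup.eq_one_iff v0).mp (Subgroup.mem_bot.mp this))
    · intro h
      have : π y ∈ (⊥ : Subgroup (W ⧸ center W)) := h ▸ ⟨y, self_mem_cen y, rfl⟩
      exact hync ((QuotientGroup.eq_one_iff y).mp (Subgroup.mem_bot.mp this))
    · rintro _ ⟨d, hd, rfl⟩ hd1 _ ⟨t, ht, rfl⟩ hc
      have hdT : d ∉ T := fun h => hd1 ((QuotientGroup.eq_one_iff d).mpr (hDZ d hd h))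
      set c := d * t * d⁻¹ * t⁻¹ with hc'
      have hcc : c ∈ center W := by
        rw [← QuotientGroup.eq_one_iff]
        change π c = 1
        rw [hc', map_mul, map_mul, map_mul, map_inv, map_inv, hc, mul_assoc (π t), mul_inv_cancel,
          mul_one, mul_inv_cancel]
      have hdt : d * t * d⁻¹ = c * t := by rw [hc']; group
      have hct : Commute c t := (Subgroup.mem_center_iff.mp hcc t).symm
      have hcp : c ^ p = 1 := by
        have h1 := conj_pow (i := p) (a := d) (b := t)
        rw [hdt, hct.mul_pow, Subgroup.mem_center_iff.mp (hTexp t ht) d, mul_assoc, mul_inv_cancel,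
          mul_one, mul_eq_right] at h1
        exact h1
      have hconjk : ∀ k : ℕ, d ^ k * t * (d ^ k)⁻¹ = c ^ k * t := by
        intro k
        induction k with
        | zero => simp
        | succ k ih =>
          calc d ^ (k + 1) * t * (d ^ (k + 1))⁻¹ = d * (d ^ k * t * (d ^ k)⁻¹) * d⁻¹ := by group
            _ = d * (c ^ k * t) * d⁻¹ := by rw [ih]
            _ = c ^ k * (d * t * d⁻¹) := by
              rw [← mul_assoc d, Subgroup.mem_center_iff.mp (Subgroup.pow_mem _ hcc k) d]; group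
            _ = c ^ (k + 1) * t := by rw [hdt, pow_succ]; group
      have hcq : c ^ q = 1 := by
        have hdq : d ^ q ∈ center W := hDZ _ (D.pow_mem hd q) (hTq d)
        have h1 := hconjk q
        rw [← Subgroup.mem_center_iff.mp hdq t, mul_assoc, mul_inv_cancel, mul_one, right_eq_mul] at h1
        exact h1
      have hc1 : c = 1 := orderOf_eq_one_iff.mp (Nat.eq_one_of_dvd_coprimes
        ((Nat.coprime_primes hp hq).mpr (Ne.symm hqp)) (orderOf_dvd_of_pow_eq_one hcp)
        (orderOf_dvd_of_pow_eq_one hcq))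
      rw [hc1, one_mul, mul_inv_eq_iff_eq_mul] at hdt
      exact (QuotientGroup.eq_one_iff t).mpr (hint d hdT t ht (mem_cen.mpr hdt.symm))
  have hDq : IsPGroup q (D.map π) := by
    rintro ⟨_, d, hd, rfl⟩
    refine ⟨1, Subtype.ext ?_⟩
    rw [pow_one]
    change (π d) ^ q = 1
    rw [← map_pow]
    exact (QuotientGroup.eq_one_iff _).mpr (hDZ _ (D.pow_mem hd q) (hTq d))
  have hord : ∀ e : D.map π, e ≠ 1 → orderOf e = q := by
    intro e he
    refine orderOf_eq_prime ?_ he
    obtain ⟨_, d, hd, rfl⟩ := e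
    refine Subtype.ext ?_
    change (π d) ^ q = 1
    rw [← map_pow]
    exact (QuotientGroup.eq_one_iff _).mpr (hDZ _ (D.pow_mem hd q) (hTq d))
  have hDgen : ∀ d ∈ D, ∃ i : ℤ, y ^ i * d⁻¹ ∈ T := by
    intro d hd
    by_cases hdz : d ∈ center W
    · exact ⟨0, by
        rw [zpow_zero, one_mul]
        exact T.inv_mem (Subgroup.mem_sup_right hdz)⟩
    set a : D.map π := ⟨π y, y, self_mem_cen y, rfl⟩
    set b : D.map π := ⟨π d, d, hd, rfl⟩
    have ha : a ≠ 1 := fun h => hync ((QuotientGroup.eq_one_iff y).mp (congrArg Subtype.val h))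
    have hb : b ≠ 1 := fun h => hdz ((QuotientGroup.eq_one_iff d).mp (congrArg Subtype.val h))
    have hAB := Frobenius.unique_card_eq_prime hQF (p := q) le_rfl hDq (Subgroup.zpowers a)
      (Subgroup.zpowers b) (by rw [Nat.card_zpowers, hord a ha]) (by rw [Nat.card_zpowers, hord b hb])
    obtain ⟨i, hi⟩ := Subgroup.mem_zpowers_iff.mp (hAB ▸ Subgroup.mem_zpowers b)
    refine ⟨i, Subgroup.mem_sup_right ?_⟩
    rw [← QuotientGroup.eq_one_iff]
    change π (y ^ i * d⁻¹) = 1
    have h' : (π y) ^ i = π d := congrArg Subtype.val hi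
    rw [map_mul, map_zpow, map_inv, h', mul_inv_cancel]
  refine ⟨p, q, T, hp, hq, Ne.symm hqp, hTn, le_sup_right, ⟨v0, hv0T, hv0nc⟩, ?_, hTexp, hcenT⟩
  have hgen : ∀ c : W ⧸ T, c ∈ Subgroup.zpowers (f y) := by
    intro c
    obtain ⟨w, rfl⟩ := QuotientGroup.mk'_surjective T c
    obtain ⟨d, hd, t, ht, rfl⟩ := hWDT w
    obtain ⟨i, hi⟩ := hDgen d hd
    refine ⟨i, ?_⟩
    show (f y) ^ i = f (d * t)
    have h1 : f (y ^ i * d⁻¹) = 1 := (QuotientGroup.eq_one_iff _).mpr hi
    have h2 : f t = 1 := (QuotientGroup.eq_one_iff _).mpr ht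
    rw [map_mul, map_zpow, map_inv, mul_inv_eq_one] at h1
    rw [map_mul, h2, mul_one, h1]
  rw [Subgroup.index_eq_card, ← orderOf_eq_card_of_forall_mem_zpowers hgen]
  refine orderOf_eq_prime ?_ fun h => hyT ((QuotientGroup.eq_one_iff y).mp h)
  rw [← map_pow]
  exact (QuotientGroup.eq_one_iff _).mpr (hTq y)

end Cfsg.Agent.H73.MaxCen
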