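import Cfsg.Agent.H73.MaxCentralizer
import Cfsg.Prelude.Def_Solvable

/-!
The quotient by the centre of a group whose centralisers are maximal.
-/

set_option autoImplicit false

namespace Cfsg.Agent.H73.MaxCen

open Subgroup

/-- A normal subgroup all whose noncentral elements have maximal centralizers. -/
theorem hyp_of_normal {G : Type*} [Group G] (N : Subgroup G) [N.Normal]
    (h : ∀ x : G, x ∈ N → x ∉ Subgroup.centralizer (N : Set G) →
      IsCoatom (Subgroup.centralizer ({x} : Set G))) : Hyp N := by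
  have hnc : ∀ x : N, x ∉ center N → IsCoatom (Subgroup.centralizer ({(x : G)} : Set G)) := by
    intro x hx
    refine h x x.2 fun hc => hx (Subgroup.mem_center_iff.mpr fun g => Subtype.ext ?_)
    exact Subgroup.mem_centralizer_iff.mp hc g g.2
  have hmem : ∀ x g : N, g ∈ cen x ↔ (g : G) ∈ Subgroup.centralizer ({(x : G)} : Set G) := fun x g => by
    rw [mem_cen, Subgroup.mem_centralizer_singleton_iff, Subtype.ext_iff, Subgroup.coe_mul,
      Subgroup.coe_mul]
  refine ⟨fun x k hk => ?_, fun x hx K hK hinv => ?_⟩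
  · have hx : x ∉ center N := fun hx => hk (Subgroup.pow_mem _ hx k)
    have hle : Subgroup.centralizer ({(x : G)} : Set G) ≤
        Subgroup.centralizer ({((x ^ k : N) : G)} : Set G) := by
      intro g hg
      rw [Subgroup.mem_centralizer_singleton_iff] at hg ⊢
      rw [Subgroup.coe_pow]
      exact ((show Commute g (x : G) from hg).pow_right k).eq
    have heq := ((hnc x hx).le_iff.mp hle).resolve_left (hnc _ hk).1
    ext g
    rw [hmem, hmem, heq]
  · set M := Subgroup.centralizer ({(x : G)} : Set G) with hM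
    set K' := K.map N.subtype with hK'
    have hnorm : ∀ m ∈ M, ∀ w ∈ K', m * w * m⁻¹ ∈ K' := by
      rintro m hm _ ⟨w, hw, rfl⟩
      have hfix : MulAut.conjNormal m x = x := by
        apply Subtype.ext
        rw [MulAut.conjNormal_apply, Subgroup.mem_centralizer_singleton_iff.mp hm, mul_assoc,
          mul_inv_cancel, mul_one]
      exact ⟨MulAut.conjNormal m w, hinv _ hfix w hw, MulAut.conjNormal_apply m w⟩
    have hMN : M ≤ Subgroup.normalizer (K' : Set G) := by
      intro m hm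
      rw [Subgroup.mem_normalizer_iff]
      refine fun w => ⟨hnorm m hm w, fun hw => ?_⟩
      have := hnorm m⁻¹ (M.inv_mem hm) _ hw
      rwa [show m⁻¹ * (m * w * m⁻¹) * m⁻¹⁻¹ = w by group] at this
    rcases (hnc x hx).le_iff.mp (le_sup_left : M ≤ M ⊔ K') with htop | heq
    · refine Or.inr (Subgroup.eq_top_iff' K |>.mpr fun g => ?_)
      have hg : (g : G) ∈ ((M ⊔ K' : Subgroup G) : Set G) := by rw [htop]; trivial
      rw [Subgroup.coe_mul_of_left_le_normalizer_right M K' hMN] at hg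
      obtain ⟨m, hm, _, ⟨w, hw, rfl⟩, hmw⟩ := Set.mem_mul.mp hg
      have hmN : m ∈ N := by
        have e : m = (g : G) * (w : G)⁻¹ := by rw [← hmw]; simp
        rw [e]
        exact N.mul_mem g.2 (N.inv_mem w.2)
      have hmK : (⟨m, hmN⟩ : N) ∈ K := hK ((hmem x ⟨m, hmN⟩).mpr hm)
      have e : g = (⟨m, hmN⟩ : N) * w := Subtype.ext hmw.symm
      rw [e]
      exact K.mul_mem hmK hw
    · refine Or.inl (le_antisymm (fun k hk => (hmem x k).mpr ?_) hK)
      exact heq.le (Subgroup.mem_sup_right ⟨k, hk, rfl⟩)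

variable {W : Type*} [Group W] [Finite W]

theorem elementary_quot {p : ℕ}
    (h : ∀ g : W, g ^ p ∈ center W ∧ ∀ u : W, g * u * g⁻¹ * u⁻¹ ∈ center W) :
    Cfsg.IsElementaryAbelian p (⊤ : Subgroup (W ⧸ center W)) := by
  have hc : ∀ a b : W ⧸ center W, a * b = b * a := by
    intro a b
    obtain ⟨g, rfl⟩ := QuotientGroup.mk'_surjective _ a
    obtain ⟨u, rfl⟩ := QuotientGroup.mk'_surjective _ b
    have h' := (QuotientGroup.eq_one_iff _).mpr ((h g).2 u)
    rw [QuotientGroup.mk_mul, QuotientGroup.mk_mul, QuotientGroup.mk_mul, QuotientGroup.mk_inv,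
      QuotientGroup.mk_inv, mul_inv_eq_one, mul_inv_eq_iff_eq_mul] at h'
    exact h'
  refine ⟨⟨⟨fun a b => Subtype.ext (hc a b)⟩⟩, fun a _ => ?_⟩
  obtain ⟨g, rfl⟩ := QuotientGroup.mk'_surjective _ a
  rw [← map_pow]
  exact (QuotientGroup.eq_one_iff _).mpr (h g).1

/-- The data of the non-nilpotent case in the quotient by the centre. -/
theorem quot_data {p q : ℕ} (hp : p.Prime) (hq : q.Prime) (hpq : p ≠ q) {T : Subgroup W} [T.Normal]
    (hZ : center W ≤ T) (hv : ∃ v ∈ T, v ∉ center W) (hidx : T.index = q)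
    (hexp : ∀ t ∈ T, t ^ p ∈ center W) (hcen : ∀ t ∈ T, t ∉ center W → cen t = T) :
    let π := QuotientGroup.mk' (center W)
    (T.map π).Normal ∧ Cfsg.IsElementaryAbelian p (T.map π) ∧
    (∀ e : W, e ∉ T → ∀ c ∈ cen e, ∃ i : ℤ, π c = π e ^ i) ∧
    ∀ e : W, e ∉ T → Cfsg.IsFrobeniusComplement (Subgroup.zpowers (π e)) ∧
      Nat.card (Subgroup.zpowers (π e)) = q ∧
      (T.map π : Set (W ⧸ center W)) = Cfsg.frobeniusKernel (Subgroup.zpowers (π e)) ∧
      (∀ t ∈ T, π e * π t = π t * π e → π t = 1) := by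
  intro π
  have := Fact.mk hp
  have := Fact.mk hq
  have hn : (T.map π).Normal := Subgroup.Normal.map inferInstance π (QuotientGroup.mk'_surjective _)
  have hTcomm : ∀ s ∈ T, ∀ t ∈ T, Commute s t := by
    intro s hs t ht
    by_cases htc : t ∈ center W
    · exact Subgroup.mem_center_iff.mp htc s
    · exact mem_cen.mp ((hcen t ht htc).ge hs)
  have hel : Cfsg.IsElementaryAbelian p (T.map π) := by
    refine ⟨⟨⟨?_⟩⟩, ?_⟩
    · rintro ⟨_, s, hs, rfl⟩ ⟨_, t, ht, rfl⟩
      exact Subtype.ext ((hTcomm s hs t ht).map π).eq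
    · rintro _ ⟨t, ht, rfl⟩
      rw [← map_pow]
      exact (QuotientGroup.eq_one_iff _).mpr (hexp t ht)
  have hint : ∀ e : W, e ∉ T → ∀ t ∈ T, t ∈ cen e → t ∈ center W := by
    intro e he t ht hte
    by_contra htc
    exact he ((hcen t ht htc).le (mem_cen_comm hte))
  have hord : ∀ e : W, e ∉ T → orderOf (e : W ⧸ T) = q := by
    intro e he
    refine orderOf_eq_prime ?_ fun h => he ((QuotientGroup.eq_one_iff e).mp h)
    rw [← hidx, Subgroup.index_eq_card]
    exact pow_card_eq_one'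
  have hdec : ∀ e : W, e ∉ T → ∀ w : W, ∃ (i : ℤ), ∃ t ∈ T, e ^ i * t = w := by
    intro e he w
    have htop : Subgroup.zpowers (e : W ⧸ T) = ⊤ := Subgroup.eq_top_of_card_eq _ (by
      rw [Nat.card_zpowers, hord e he, ← Subgroup.index_eq_card, hidx])
    obtain ⟨i, hi⟩ := Subgroup.mem_zpowers_iff.mp (htop ▸ Subgroup.mem_top (w : W ⧸ T))
    rw [← QuotientGroup.mk_zpow, QuotientGroup.eq] at hi
    exact ⟨i, _, hi, mul_inv_cancel_left _ _⟩
  have hcyc : ∀ e : W, e ∉ T → ∀ c ∈ cen e, ∃ i : ℤ, π c = π e ^ i := by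
    intro e he c hc
    obtain ⟨i, t, ht, rfl⟩ := hdec e he c
    have htc : t ∈ cen e := ((cen e).mul_mem_cancel_left (Subgroup.zpow_mem _ (self_mem_cen e) i)).mp hc
    refine ⟨i, ?_⟩
    rw [map_mul, map_zpow, show π t = 1 from (QuotientGroup.eq_one_iff t).mpr (hint e he t ht htc), mul_one]
  refine ⟨hn, hel, hcyc, fun e he => ?_⟩
  have heq : e ^ q ∈ center W := by
    refine hint e he _ ?_ (Subgroup.pow_mem _ (self_mem_cen e) q)
    rw [← QuotientGroup.eq_one_iff, QuotientGroup.mk_pow, ← hord e he, pow_orderOf_eq_one]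
  have hπe : π e ≠ 1 := fun h => he (hZ ((QuotientGroup.eq_one_iff e).mp h))
  have hπo : orderOf (π e) = q := by
    refine orderOf_eq_prime ?_ hπe
    rw [← map_pow]
    exact (QuotientGroup.eq_one_iff _).mpr heq
  have hcard : Nat.card (Subgroup.zpowers (π e)) = q := by rw [Nat.card_zpowers, hπo]
  -- no fixed points
  have hfix : ∀ t ∈ T, ∀ i : ℤ, e ^ i ∉ T → π e ^ i * π t = π t * π e ^ i → π t = 1 := by
    intro t ht i hi hc
    set d := e ^ i with hd
    set c := d * t * d⁻¹ * t⁻¹ with hc'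
    have hcc : c ∈ center W := by
      rw [← QuotientGroup.eq_one_iff]
      change π c = 1
      rw [hc', map_mul, map_mul, map_mul, map_inv, map_inv, hd, map_zpow, hc, mul_assoc (π t),
        mul_inv_cancel, mul_one, mul_inv_cancel]
    have hdt : d * t * d⁻¹ = c * t := by rw [hc']; group
    have hct : Commute c t := (Subgroup.mem_center_iff.mp hcc t).symm
    have hcp : c ^ p = 1 := by
      have h1 := conj_pow (i := p) (a := d) (b := t)
      rw [hdt, hct.mul_pow, Subgroup.mem_center_iff.mp (hexp t ht) d, mul_assoc, mul_inv_cancel,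
        mul_one, mul_eq_right] at h1
      exact h1
    have hconjk : ∀ k : ℕ, d ^ k * t * (d ^ k)⁻¹ = c ^ k * t := by
      intro k
      induction k with
      | zero => simp
      | succ k ih =>
        calc d ^ (k + 1) * t * (d ^ (k + 1))⁻¹ = d * (d ^ k * t * (d ^ k)⁻¹) * d⁻¹ := by group
          _ = d * (c ^ k * t) * d⁻¹ := by rw [ih]
          _ = c ^ k * (d * t * d⁻¹) := by
            rw [← mul_assoc d, Subgroup.mem_center_iff.mp (Subgroup.pow_mem _ hcc k) d]; group
          _ = c ^ (k + 1) * t := by rw [hdt, pow_succ]; group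
    have hcq : c ^ q = 1 := by
      have hdq : d ^ q ∈ center W := by
        have : d ^ q = (e ^ q) ^ i := by
          rw [hd, ← zpow_natCast, ← zpow_natCast, ← zpow_mul, ← zpow_mul, mul_comm]
        rw [this]
        exact Subgroup.zpow_mem _ heq i
      have h1 := hconjk q
      rw [← Subgroup.mem_center_iff.mp hdq t, mul_assoc, mul_inv_cancel, mul_one, right_eq_mul] at h1
      exact h1
    have hc1 : c = 1 := orderOf_eq_one_iff.mp (Nat.eq_one_of_dvd_coprimes
      ((Nat.coprime_primes hp hq).mpr hpq) (orderOf_dvd_of_pow_eq_one hcp)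
      (orderOf_dvd_of_pow_eq_one hcq))
    rw [hc1, one_mul, mul_inv_eq_iff_eq_mul] at hdt
    exact (QuotientGroup.eq_one_iff t).mpr (hint d hi t ht (mem_cen.mpr hdt.symm))
  have hzT : ∀ i : ℤ, π e ^ i ≠ 1 → e ^ i ∉ T := fun i h hT => h (by
    rw [← map_zpow]
    exact (QuotientGroup.eq_one_iff _).mpr
      (hint e he _ hT (Subgroup.zpow_mem _ (self_mem_cen e) i)))
  have hcomp : Subgroup.IsComplement' (T.map π) (Subgroup.zpowers (π e)) := by
    refine Subgroup.isComplement'_of_disjoint_and_mul_eq_univ ?_ ?_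
    · rw [disjoint_iff, eq_bot_iff]
      rintro _ ⟨⟨t, ht, rfl⟩, i, hi⟩
      rw [Subgroup.mem_bot]
      by_contra h
      refine hzT i (by
        change π e ^ i = π t at hi
        rw [hi]; exact h) ?_
      have hi' : π (e ^ i) = π t := (map_zpow π e i).trans hi
      rw [QuotientGroup.mk'_apply, QuotientGroup.mk'_apply, QuotientGroup.eq] at hi'
      have h1 := T.mul_mem (T.mul_mem ht (T.inv_mem (hZ hi'))) T.one_mem
      rwa [mul_inv_rev, inv_inv, mul_inv_cancel_left, mul_one] at h1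
    · refine Set.eq_univ_of_forall fun a => ?_
      obtain ⟨w, rfl⟩ := QuotientGroup.mk'_surjective _ a
      obtain ⟨i, t, ht, rfl⟩ := hdec e he w
      exact ⟨π (e ^ i * t * (e ^ i)⁻¹), ⟨_, Subgroup.Normal.conj_mem inferInstance t ht _, rfl⟩,
        π (e ^ i), ⟨i, (map_zpow π e i).symm⟩, by
          simp only [← map_mul]
          exact congrArg π (inv_mul_cancel_right _ _)⟩
  have hF : Cfsg.IsFrobeniusComplement (Subgroup.zpowers (π e)) := by
    refine Frobenius.of_fixedPointFree hcomp ?_ ?_ ?_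
    · obtain ⟨v, hvT, hvc⟩ := hv
      exact fun h => hvc ((QuotientGroup.eq_one_iff v).mp
        (Subgroup.mem_bot.mp (h ▸ ⟨v, hvT, rfl⟩ : π v ∈ (⊥ : Subgroup (W ⧸ center W)))))
    · exact Subgroup.zpowers_ne_bot.mpr hπe
    · rintro _ ⟨i, rfl⟩ h1 _ ⟨t, ht, rfl⟩ hc
      exact hfix t ht i (hzT i h1) hc
  refine ⟨hF, hcard, Frobenius.coe_eq_kernel hF hcomp, fun t ht hc => ?_⟩
  exact hfix t ht 1 (by rwa [zpow_one]) (by rwa [zpow_one])

end Cfsg.Agent.H73.MaxCen
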