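import Mathlib.Data.ZMod.Units
import Mathlib.GroupTheory.OrderOfElement
import Mathlib.Tactic

/-!
# Subgroups of `(ℤ/p^n)²` with the determinant pairing
-/

set_option autoImplicit false
set_option linter.unusedSectionVars false

namespace Cfsg.Agent.H73

variable {p : ℕ} [hp : Fact p.Prime] {n : ℕ}

/-- `(ℤ/p^n)²`. -/
abbrev Plane (p n : ℕ) : Type := ZMod (p ^ n) × ZMod (p ^ n)

/-- The determinant pairing. -/
def det2 (u v : Plane p n) : ZMod (p ^ n) := u.1 * v.2 - u.2 * v.1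

theorem det2_add_right (u v w : Plane p n) : det2 u (v + w) = det2 u v + det2 u w := by
  simp only [det2, Prod.fst_add, Prod.snd_add]; ring

/-- The orthogonal complement of a set. -/
def perp (S : Set (Plane p n)) : AddSubgroup (Plane p n) where
  carrier := {v | ∀ u ∈ S, det2 u v = 0}
  zero_mem' := fun u _ => by simp [det2]
  add_mem' := fun {a b} ha hb u hu => by rw [det2_add_right, ha u hu, hb u hu, add_zero]
  neg_mem' := fun {a} ha u hu => by
    have := ha u hu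
    simp only [det2, Prod.fst_neg, Prod.snd_neg] at this ⊢
    linear_combination -this

theorem mem_perp {S : Set (Plane p n)} {v : Plane p n} :
    v ∈ perp S ↔ ∀ u ∈ S, det2 u v = 0 := Iff.rfl

theorem det2_swap (u v : Plane p n) : det2 v u = - det2 u v := by simp only [det2]; ring

theorem le_perp_perp (S : AddSubgroup (Plane p n)) :
    S ≤ perp (perp (S : Set (Plane p n)) : Set (Plane p n)) :=
  fun v hv u hu => by rw [det2_swap, (mem_perp.mp hu) v hv, neg_zero]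

/-- The scaled plane `p^a ℤ/p^n × p^b ℤ/p^n`. -/
def box (a b : ℕ) : AddSubgroup (Plane p n) :=
  (AddSubgroup.zmultiples ((p : ZMod (p ^ n)) ^ a)).prod
    (AddSubgroup.zmultiples ((p : ZMod (p ^ n)) ^ b))

instance neZero_pow : NeZero (p ^ n) := ⟨pow_ne_zero n hp.out.ne_zero⟩

theorem mem_zmultiples_iff_dvd (a : ℕ) (x : ZMod (p ^ n)) :
    x ∈ AddSubgroup.zmultiples ((p : ZMod (p ^ n)) ^ a) ↔ (p : ZMod (p ^ n)) ^ a ∣ x := by
  constructor
  · rintro ⟨k, rfl⟩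
    exact Dvd.intro_left (k : ZMod (p ^ n)) (zsmul_eq_mul _ k).symm
  · rintro ⟨c, rfl⟩
    exact ⟨(c.val : ℤ), by simp only [zsmul_eq_mul]; push_cast; rw [ZMod.natCast_zmod_val, mul_comm]⟩

theorem mem_box {a b : ℕ} {v : Plane p n} :
    v ∈ box (p := p) (n := n) a b ↔
      (p : ZMod (p ^ n)) ^ a ∣ v.1 ∧ (p : ZMod (p ^ n)) ^ b ∣ v.2 :=
  and_congr (mem_zmultiples_iff_dvd a v.1) (mem_zmultiples_iff_dvd b v.2)

theorem card_zmultiples_pow {a : ℕ} (ha : a ≤ n) :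
    Nat.card ↥(AddSubgroup.zmultiples ((p : ZMod (p ^ n)) ^ a)) = p ^ (n - a) := by
  rw [Nat.card_zmultiples, ← Nat.cast_pow, ZMod.addOrderOf_coe _ (pow_ne_zero n hp.out.ne_zero),
    Nat.gcd_eq_right (pow_dvd_pow p ha), Nat.pow_div ha hp.out.pos]

theorem card_box {a b : ℕ} (ha : a ≤ n) (hb : b ≤ n) :
    Nat.card ↥(box (p := p) (n := n) a b) = p ^ (n - a) * p ^ (n - b) := by
  rw [box, Nat.card_congr (AddSubgroup.prodEquiv _ _).toEquiv, Nat.card_prod, card_zmultiples_pow ha,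
    card_zmultiples_pow hb]

theorem exists_pow_mul_unit (x : ZMod (p ^ n)) :
    ∃ a ≤ n, ∃ h : (ZMod (p ^ n))ˣ, x = (p : ZMod (p ^ n)) ^ a * h := by
  rcases eq_or_ne x 0 with rfl | hx
  · refine ⟨n, le_rfl, 1, ?_⟩
    rw [Units.val_one, mul_one, ← Nat.cast_pow, ZMod.natCast_self]
  · have hv : x.val ≠ 0 := fun h => hx ((ZMod.val_eq_zero x).mp h)
    obtain ⟨k, c, hc, he⟩ := Nat.exists_eq_pow_mul_and_not_dvd hv p hp.out.ne_one
    have hk : k ≤ n := by
      by_contra hk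
      have h1 : p ^ n ∣ x.val := he ▸ dvd_mul_of_dvd_left (pow_dvd_pow p (by omega)) c
      exact hv (Nat.eq_zero_of_dvd_of_lt h1 (ZMod.val_lt x))
    refine ⟨k, hk, ZMod.unitOfCoprime c ((hp.out.coprime_iff_not_dvd.mpr hc).pow_left n).symm, ?_⟩
    rw [ZMod.coe_unitOfCoprime, ← Nat.cast_pow, ← Nat.cast_mul, ← he, ZMod.natCast_zmod_val]

theorem pow_dvd_iff_mul_eq_zero {a : ℕ} (ha : a ≤ n) (x : ZMod (p ^ n)) :
    (p : ZMod (p ^ n)) ^ a * x = 0 ↔ (p : ZMod (p ^ n)) ^ (n - a) ∣ x := by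
  constructor
  · intro h
    obtain ⟨k, -, u, rfl⟩ := exists_pow_mul_unit x
    rw [← mul_assoc, Units.mul_left_eq_zero, ← pow_add, ← Nat.cast_pow,
      ZMod.natCast_eq_zero_iff, Nat.pow_dvd_pow_iff_le_right hp.out.one_lt] at h
    exact dvd_mul_of_dvd_left (pow_dvd_pow _ (by omega)) _
  · rintro ⟨c, rfl⟩
    rw [← mul_assoc, ← pow_add, Nat.add_sub_cancel' ha, ← Nat.cast_pow, ZMod.natCast_self, zero_mul]

theorem perp_box {a b : ℕ} (ha : a ≤ n) (hb : b ≤ n) :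
    perp (box (p := p) (n := n) a b : Set (Plane p n)) = box (n - b) (n - a) := by
  ext v
  rw [mem_perp, mem_box]
  constructor
  · intro h
    refine ⟨(pow_dvd_iff_mul_eq_zero hb _).mp ?_, (pow_dvd_iff_mul_eq_zero ha _).mp ?_⟩
    · have := h (0, (p : ZMod (p ^ n)) ^ b) (mem_box.mpr ⟨dvd_zero _, dvd_rfl⟩)
      simpa [det2] using this
    · have := h ((p : ZMod (p ^ n)) ^ a, 0) (mem_box.mpr ⟨dvd_rfl, dvd_zero _⟩)
      simpa [det2] using this
  · rintro ⟨h1, h2⟩ u hu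
    obtain ⟨⟨c, hc⟩, d, hd⟩ := mem_box.mp hu
    rw [← pow_dvd_iff_mul_eq_zero hb] at h1
    rw [← pow_dvd_iff_mul_eq_zero ha] at h2
    rw [det2, hc, hd]
    linear_combination c * h2 - d * h1

/-- A `det`-preserving change of coordinates. -/
def coords {e v : Plane p n} (h : det2 e v = 1) : Plane p n ≃+ Plane p n where
  toFun w := (det2 w v, det2 e w)
  invFun z := (z.1 * e.1 + z.2 * v.1, z.1 * e.2 + z.2 * v.2)
  left_inv w := by
    simp only [det2] at h ⊢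
    refine Prod.ext ?_ ?_
    · linear_combination w.1 * h
    · linear_combination w.2 * h
  right_inv z := by
    simp only [det2] at h ⊢
    refine Prod.ext ?_ ?_
    · linear_combination z.1 * h
    · linear_combination z.2 * h
  map_add' a b := by
    simp only [det2, Prod.fst_add, Prod.snd_add, Prod.mk_add_mk]
    refine Prod.ext ?_ ?_ <;> ring

theorem det2_coords {e v : Plane p n} (h : det2 e v = 1) (a b : Plane p n) :
    det2 (coords h a) (coords h b) = det2 a b := by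
  show det2 a v * det2 e b - det2 e a * det2 b v = det2 a b
  simp only [det2] at h ⊢
  linear_combination (a.1 * b.2 - a.2 * b.1) * h

theorem natCast_val_smul (x : ZMod (p ^ n)) (v : Plane p n) :
    x.val • v = (x * v.1, x * v.2) := by
  refine Prod.ext ?_ ?_ <;>
    simp [nsmul_eq_mul, ZMod.natCast_zmod_val]

theorem smul_mem_addSubgroup (S : AddSubgroup (Plane p n)) {v : Plane p n} (hv : v ∈ S)
    (x : ZMod (p ^ n)) : (x * v.1, x * v.2) ∈ S :=
  natCast_val_smul x v ▸ S.nsmul_mem hv _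

/-- Normal form of a subgroup. -/
theorem exists_normal_form (S : AddSubgroup (Plane p n)) :
    ∃ (φ : Plane p n ≃+ Plane p n) (a b : ℕ), a ≤ b ∧ b ≤ n ∧
      (∀ u w, det2 (φ u) (φ w) = det2 u w) ∧ ∀ w, w ∈ S ↔ φ w ∈ box a b := by
  classical
  let P : ℕ → Prop := fun a => ∃ w ∈ S, ∃ e : Plane p n, (IsUnit e.1 ∨ IsUnit e.2) ∧
    w = ((p : ZMod (p ^ n)) ^ a * e.1, (p : ZMod (p ^ n)) ^ a * e.2)
  have hrep : ∀ w : Plane p n, ∃ a ≤ n, ∃ e : Plane p n, (IsUnit e.1 ∨ IsUnit e.2) ∧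
      w = ((p : ZMod (p ^ n)) ^ a * e.1, (p : ZMod (p ^ n)) ^ a * e.2) := by
    intro w
    obtain ⟨i, hi, u, hu⟩ := exists_pow_mul_unit w.1
    obtain ⟨j, hj, v, hv⟩ := exists_pow_mul_unit w.2
    rcases le_total i j with h | h
    · refine ⟨i, hi, ((u : ZMod (p ^ n)), (p : ZMod (p ^ n)) ^ (j - i) * v), Or.inl u.isUnit, ?_⟩
      refine Prod.ext hu ?_
      show w.2 = _
      rw [hv, ← mul_assoc, ← pow_add, Nat.add_sub_cancel' h]
    · refine ⟨j, hj, ((p : ZMod (p ^ n)) ^ (i - j) * u, (v : ZMod (p ^ n))), Or.inr v.isUnit, ?_⟩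
      refine Prod.ext ?_ hv
      show w.1 = _
      rw [hu, ← mul_assoc, ← pow_add, Nat.add_sub_cancel' h]
  have hPn : P n := ⟨0, S.zero_mem, (1, 0), Or.inl isUnit_one, by
    refine Prod.ext ?_ ?_ <;> simp [← Nat.cast_pow]⟩
  have hex : ∃ a, P a := ⟨n, hPn⟩
  set a := Nat.find hex
  have han : a ≤ n := Nat.find_le hPn
  obtain ⟨w0, hw0, e, he, hw0e⟩ := Nat.find_spec hex
  have hdvd : ∀ w ∈ S, (p : ZMod (p ^ n)) ^ a ∣ w.1 ∧ (p : ZMod (p ^ n)) ^ a ∣ w.2 := by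
    intro w hw
    obtain ⟨i, -, f, hf, rfl⟩ := hrep w
    have : a ≤ i := Nat.find_le ⟨_, hw, f, hf, rfl⟩
    exact ⟨dvd_mul_of_dvd_left (pow_dvd_pow _ this) _, dvd_mul_of_dvd_left (pow_dvd_pow _ this) _⟩
  obtain ⟨v, hv⟩ : ∃ v : Plane p n, det2 e v = 1 := by
    rcases he with ⟨u, hu⟩ | ⟨u, hu⟩
    · exact ⟨(0, (↑u⁻¹ : ZMod (p ^ n))), by simp [det2, ← hu]⟩
    · exact ⟨(-(↑u⁻¹ : ZMod (p ^ n)), 0), by simp [det2, ← hu]⟩
  set φ := coords hv
  have hφw0 : φ w0 = ((p : ZMod (p ^ n)) ^ a, 0) := by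
    show (det2 w0 v, det2 e w0) = _
    simp only [det2] at hv
    rw [hw0e]
    simp only [det2]
    refine Prod.ext ?_ ?_
    · linear_combination (p : ZMod (p ^ n)) ^ a * hv
    · ring
  let J : ℕ → Prop := fun b => φ.symm (0, (p : ZMod (p ^ n)) ^ b) ∈ S
  have hJn : J n := by
    show φ.symm (0, (p : ZMod (p ^ n)) ^ n) ∈ S
    rw [← Nat.cast_pow, ZMod.natCast_self, Prod.mk_zero_zero, map_zero]
    exact S.zero_mem
  have hexJ : ∃ b, J b := ⟨n, hJn⟩
  set b := Nat.find hexJ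
  have hbn : b ≤ n := Nat.find_le hJn
  have hdiv1 : ∀ w ∈ S, (p : ZMod (p ^ n)) ^ a ∣ (φ w).1 ∧ (p : ZMod (p ^ n)) ^ a ∣ (φ w).2 := by
    intro w hw
    obtain ⟨h1, h2⟩ := hdvd w hw
    show _ ∣ det2 w v ∧ _ ∣ det2 e w
    exact ⟨dvd_sub (h1.mul_right _) (h2.mul_right _), dvd_sub (h2.mul_left _) (h1.mul_left _)⟩
  have hab : a ≤ b := by
    obtain ⟨-, h2⟩ := hdiv1 _ (Nat.find_spec hexJ)
    rw [AddEquiv.apply_symm_apply] at h2
    have h3 := pow_dvd_iff_mul_eq_zero (p := p) (n := n) (a := n - a) (Nat.sub_le n a)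
      ((p : ZMod (p ^ n)) ^ b)
    rw [Nat.sub_sub_self han] at h3
    replace h2 := h3.mpr h2
    rw [← pow_add, ← Nat.cast_pow, ZMod.natCast_eq_zero_iff,
      Nat.pow_dvd_pow_iff_le_right hp.out.one_lt] at h2
    omega
  refine ⟨φ, a, b, hab, hbn, fun u w => det2_coords hv u w, fun w => ⟨fun hw => ?_, fun hw => ?_⟩⟩
  · obtain ⟨⟨c, hc⟩, -⟩ := hdiv1 w hw
    refine mem_box.mpr ⟨⟨c, hc⟩, ?_⟩
    obtain ⟨i, hin, u, hu⟩ := exists_pow_mul_unit (φ w).2
    have hJi : J i := by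
      have h3 : w - (c * w0.1, c * w0.2) ∈ S := S.sub_mem hw (smul_mem_addSubgroup S hw0 c)
      have h4 := smul_mem_addSubgroup S h3 (↑u⁻¹ : ZMod (p ^ n))
      show φ.symm (0, (p : ZMod (p ^ n)) ^ i) ∈ S
      convert h4 using 1
      apply φ.injective
      rw [AddEquiv.apply_symm_apply]
      have e1 : φ w = ((p : ZMod (p ^ n)) ^ a * c, (p : ZMod (p ^ n)) ^ i * u) := Prod.ext hc hu
      have hlin : ∀ (x : ZMod (p ^ n)) (z : Plane p n),
          φ (x * z.1, x * z.2) = (x * (φ z).1, x * (φ z).2) := fun x z => by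
        show (det2 _ v, det2 e _) = (x * det2 z v, x * det2 e z)
        simp only [det2]
        refine Prod.ext ?_ ?_ <;> ring
      rw [hlin, map_sub, hlin, hφw0, e1]
      refine Prod.ext ?_ ?_
      · simp [mul_comm]
      · simp [mul_comm, mul_left_comm]
    rw [hu]
    exact dvd_mul_of_dvd_left (pow_dvd_pow _ (Nat.find_le hJi)) _
  · obtain ⟨⟨c, hc⟩, d, hd⟩ := mem_box.mp hw
    have h1 := S.add_mem (smul_mem_addSubgroup S hw0 c)
      (smul_mem_addSubgroup S (Nat.find_spec hexJ) d)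
    convert h1 using 1
    apply φ.injective
    have hlin : ∀ (x : ZMod (p ^ n)) (z : Plane p n),
        φ (x * z.1, x * z.2) = (x * (φ z).1, x * (φ z).2) := fun x z => by
      show (det2 _ v, det2 e _) = (x * det2 z v, x * det2 e z)
      simp only [det2]
      refine Prod.ext ?_ ?_ <;> ring
    rw [map_add, hlin, hlin, hφw0, AddEquiv.apply_symm_apply]
    refine Prod.ext ?_ ?_
    · simp [hc, mul_comm]
    · simp [hd, mul_comm, b]

theorem card_plane : Nat.card (Plane p n) = p ^ (2 * n) := by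
  rw [Nat.card_prod, Nat.card_zmod, ← pow_add, two_mul]

theorem card_eq_of_mem_iff {S T : AddSubgroup (Plane p n)} (φ : Plane p n ≃+ Plane p n)
    (h : ∀ w, w ∈ S ↔ φ w ∈ T) : Nat.card ↥S = Nat.card ↥T :=
  Nat.card_congr (φ.toEquiv.subtypeEquiv h)

theorem perp_mem_iff {S T : AddSubgroup (Plane p n)} (φ : Plane p n ≃+ Plane p n)
    (hφ : ∀ u w, det2 (φ u) (φ w) = det2 u w) (h : ∀ w, w ∈ S ↔ φ w ∈ T) (w : Plane p n) :
    w ∈ perp (S : Set (Plane p n)) ↔ φ w ∈ perp (T : Set (Plane p n)) := by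
  rw [mem_perp, mem_perp]
  refine ⟨fun h' u hu => ?_, fun h' u hu => ?_⟩
  · rw [← φ.apply_symm_apply u, hφ]
    exact h' _ ((h _).mpr (by rwa [φ.apply_symm_apply]))
  · rw [← hφ]
    exact h' _ ((h u).mp hu)

theorem card_mul_card_perp (S : AddSubgroup (Plane p n)) :
    Nat.card ↥S * Nat.card ↥(perp (S : Set (Plane p n))) = p ^ (2 * n) := by
  obtain ⟨φ, a, b, hab, hbn, hφ, h⟩ := exists_normal_form S
  rw [card_eq_of_mem_iff φ h, card_eq_of_mem_iff φ (perp_mem_iff φ hφ h),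
    perp_box (hab.trans hbn) hbn, card_box (hab.trans hbn) hbn,
    card_box (Nat.sub_le _ _) (Nat.sub_le _ _), ← pow_add, ← pow_add, ← pow_add]
  congr 1
  omega

theorem perp_perp (S : AddSubgroup (Plane p n)) :
    perp (perp (S : Set (Plane p n)) : Set (Plane p n)) = S := by
  refine (AddSubgroup.eq_of_le_of_card_ge (le_perp_perp S) ?_).symm
  have h1 := card_mul_card_perp S
  have h2 := card_mul_card_perp (perp (S : Set (Plane p n)))
  rw [← h2, mul_comm] at h1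
  exact (Nat.eq_of_mul_eq_mul_left Nat.card_pos h1).ge

theorem card_le_of_isotropic {S : AddSubgroup (Plane p n)}
    (h : S ≤ perp (S : Set (Plane p n))) : Nat.card ↥S ≤ p ^ n := by
  have h1 := card_mul_card_perp S
  have h2 := AddSubgroup.card_le_of_le h
  rw [two_mul, pow_add] at h1
  by_contra hc
  push Not at hc
  have := Nat.mul_lt_mul'' hc (hc.trans_le h2)
  omega

/-- A non-isotropic subgroup is big: it contains `p^(n-1)` times the plane and its own perp. -/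
theorem nonisotropic {S : AddSubgroup (Plane p n)} (h : ¬ S ≤ perp (S : Set (Plane p n))) :
    perp (S : Set (Plane p n)) ≤ S ∧ p ^ n < Nat.card ↥S ∧
      ∀ v : Plane p n, (p ^ (n - 1)) • v ∈ S := by
  obtain ⟨φ, a, b, hab, hbn, hφ, hS⟩ := exists_normal_form S
  have hlt : a + b < n := by
    by_contra hge
    refine h fun w hw => (perp_mem_iff φ hφ hS w).mpr ?_
    rw [perp_box (hab.trans hbn) hbn, mem_box]
    obtain ⟨h1, h2⟩ := mem_box.mp ((hS w).mp hw)
    exact ⟨(pow_dvd_pow _ (by omega)).trans h1, (pow_dvd_pow _ (by omega)).trans h2⟩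
  refine ⟨fun w hw => (hS w).mpr ?_, ?_, fun v => (hS _).mpr ?_⟩
  · have h1 := (perp_mem_iff φ hφ hS w).mp hw
    rw [perp_box (hab.trans hbn) hbn, mem_box] at h1
    exact mem_box.mpr ⟨(pow_dvd_pow _ (by omega)).trans h1.1, (pow_dvd_pow _ (by omega)).trans h1.2⟩
  · rw [card_eq_of_mem_iff φ hS, card_box (hab.trans hbn) hbn, ← pow_add]
    exact Nat.pow_lt_pow_right hp.out.one_lt (by omega)
  · rw [map_nsmul, mem_box, Prod.smul_fst, Prod.smul_snd, nsmul_eq_mul, nsmul_eq_mul, Nat.cast_pow]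
    exact ⟨dvd_mul_of_dvd_left (pow_dvd_pow _ (by omega)) _,
      dvd_mul_of_dvd_left (pow_dvd_pow _ (by omega)) _⟩

theorem isotropic_iff_card_le (S : AddSubgroup (Plane p n)) :
    S ≤ perp (S : Set (Plane p n)) ↔ Nat.card ↥S ≤ p ^ n :=
  ⟨card_le_of_isotropic, fun h => by_contra fun h' => absurd h (not_le.mpr (nonisotropic h').2.1)⟩

theorem perp_zmultiples (v : Plane p n) :
    perp (AddSubgroup.zmultiples v : Set (Plane p n)) = perp {v} := by
  ext w
  rw [mem_perp, mem_perp]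
  refine ⟨fun h u hu => h u (hu ▸ AddSubgroup.mem_zmultiples v), ?_⟩
  rintro h _ ⟨k, rfl⟩
  have := h v rfl
  simp only [det2, zsmul_eq_mul, Prod.fst_mul, Prod.snd_mul, Prod.fst_intCast, Prod.snd_intCast] at this ⊢
  linear_combination (k : ZMod (p ^ n)) * this

theorem nsmul_pow_eq_zero_iff {i : ℕ} (hi : i ≤ n) (v : Plane p n) :
    (p ^ i) • v = 0 ↔ v ∈ box (n - i) (n - i) := by
  rw [mem_box, ← pow_dvd_iff_mul_eq_zero hi, ← pow_dvd_iff_mul_eq_zero hi, Prod.ext_iff]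
  simp [Prod.smul_fst, Prod.smul_snd, nsmul_eq_mul]

theorem mem_box_iff_addOrderOf {s : ℕ} (hs : s ≤ n) (v : Plane p n) :
    v ∈ box s s ↔ addOrderOf v ≤ p ^ (n - s) := by
  have h := nsmul_pow_eq_zero_iff (Nat.sub_le n s) v
  rw [Nat.sub_sub_self hs] at h
  rw [← h, ← addOrderOf_dvd_iff_nsmul_eq_zero]
  have h0 : (p ^ n) • v = 0 := by
    refine Prod.ext ?_ ?_ <;> simp [Prod.smul_fst, Prod.smul_snd, nsmul_eq_mul, ← Nat.cast_pow]
  obtain ⟨k, -, hk⟩ := (Nat.dvd_prime_pow hp.out).mp (addOrderOf_dvd_iff_nsmul_eq_zero.mpr h0)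
  rw [hk, Nat.pow_dvd_pow_iff_le_right hp.out.one_lt, Nat.pow_le_pow_iff_right hp.out.one_lt]

end Cfsg.Agent.H73
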