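import Cfsg.Agent.H73.GeomSum
import Cfsg.Agent.H73.SympPlane
import Cfsg.Agent.PGroups.Basic
import Cfsg.Prelude.Def_OddOrderLocal
import Cfsg.Prelude.Def_BaumannBlocks

/-!
# Metacyclic `p`-groups, `p` odd

A crossed homomorphism onto `(ℤ/p^n)²`, `p^n = |G'|`, with kernel the centre, under which
commuting means vanishing of the determinant.
-/

set_option autoImplicit false
set_option linter.unusedSectionVars false

namespace Cfsg.Agent.H73

open Subgroup
open scoped commutatorElement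

/-- Generators of a metacyclic `p`-group, with `p ^ n` the order of the derived subgroup. -/
structure MetaData (p : ℕ) (G : Type*) [Group G] where
  a : G
  b : G
  c : ℕ
  n : ℕ
  rel : b * a * b⁻¹ = a ^ (c + 1)
  gen : ∀ x : G, ∃ i j : ℕ, x = a ^ i * b ^ j
  dvd_c : p ∣ c
  order_c : orderOf (a ^ c) = p ^ n
  isP : IsPGroup p G
  p_ne : p ≠ 2

variable {p : ℕ} [hp : Fact p.Prime] {G : Type*} [Group G] [Finite G]

theorem exists_metaData (hp2 : p ≠ 2) (hG : IsPGroup p G) (h : IsMetacyclic G) :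
    Nonempty (MetaData p G) := by
  obtain ⟨N, hN, hNc, hQc⟩ := h
  obtain ⟨⟨a, ha⟩, haN⟩ := hNc.exists_generator
  obtain ⟨q, hq⟩ := hQc.exists_generator
  obtain ⟨b, rfl⟩ := QuotientGroup.mk_surjective q
  have hmem : ∀ y ∈ N, ∃ i : ℕ, y = a ^ i := fun y hy => by
    obtain ⟨i, hi⟩ := mem_powers_iff_mem_zpowers.mpr (haN ⟨y, hy⟩)
    exact ⟨i, (congrArg Subtype.val hi).symm⟩
  have hgen : ∀ x : G, ∃ i j : ℕ, x = a ^ i * b ^ j := by
    intro x
    obtain ⟨j, hj⟩ := mem_powers_iff_mem_zpowers.mpr (hq (QuotientGroup.mk x))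
    have hj' : (QuotientGroup.mk (b ^ j) : G ⧸ N) = QuotientGroup.mk x := hj
    have h1 : x * (b ^ j)⁻¹ ∈ N := by
      rw [← QuotientGroup.eq_one_iff, QuotientGroup.mk_mul, QuotientGroup.mk_inv, hj', mul_inv_cancel]
    obtain ⟨i, hi⟩ := hmem _ h1
    exact ⟨i, j, by rw [← hi, inv_mul_cancel_right]⟩
  obtain ⟨k, hk⟩ := IsPGroup.iff_orderOf.mp hG b
  obtain ⟨r, hr, hr1⟩ : ∃ r : ℕ, b * a * b⁻¹ = a ^ r ∧ (r : ZMod p) = 1 := by
    by_cases ha1 : a = 1
    · exact ⟨1, by simp [ha1], Nat.cast_one⟩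
    obtain ⟨r, hr⟩ := hmem _ (hN.conj_mem a ha b)
    refine ⟨r, hr, ?_⟩
    have hiter : ∀ t : ℕ, b ^ t * a * (b ^ t)⁻¹ = a ^ (r ^ t) := by
      intro t
      induction t with
      | zero => simp
      | succ t ih =>
        calc b ^ (t + 1) * a * (b ^ (t + 1))⁻¹ = b * (b ^ t * a * (b ^ t)⁻¹) * b⁻¹ := by group
          _ = (b * a * b⁻¹) ^ (r ^ t) := by rw [ih, conj_pow]
          _ = a ^ (r ^ (t + 1)) := by rw [hr, ← pow_mul, pow_succ']
    have h1 := hiter (p ^ k)
    rw [← hk, pow_orderOf_eq_one, one_mul, inv_one, mul_one, hk] at h1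
    obtain ⟨m, hm⟩ := IsPGroup.iff_orderOf.mp hG a
    have hm0 : m ≠ 0 := by
      rintro rfl
      exact ha1 (orderOf_eq_one_iff.mp (hm.trans (pow_zero p)))
    have h2 : 1 ≡ r ^ p ^ k [MOD p ^ m] := by
      rw [← hm, ← pow_eq_pow_iff_modEq, pow_one]
      exact h1
    have h3 := (ZMod.natCast_eq_natCast_iff _ _ p).mpr (h2.of_dvd (dvd_pow_self p hm0))
    rw [Nat.cast_one, Nat.cast_pow, ZMod.pow_card_pow] at h3
    exact h3.symm
  have hr0 : r ≠ 0 := by
    rintro rfl
    simp at hr1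
  obtain ⟨c, rfl⟩ : ∃ c, r = c + 1 := ⟨r - 1, by omega⟩
  obtain ⟨n, hn⟩ := IsPGroup.iff_orderOf.mp hG (a ^ c)
  refine ⟨⟨a, b, c, n, hr, hgen, ?_, hn, hG, hp2⟩⟩
  rw [← ZMod.natCast_eq_zero_iff]
  push_cast at hr1
  simpa using hr1

namespace MetaData

variable (D : MetaData p G)
include D

theorem r_cast : ((D.c + 1 : ℕ) : ZMod p) = 1 := by
  push_cast
  rw [(ZMod.natCast_eq_zero_iff D.c p).mpr D.dvd_c, zero_add]

theorem conj_pow_b (t i : ℕ) : D.b ^ t * D.a ^ i * (D.b ^ t)⁻¹ = D.a ^ (i * (D.c + 1) ^ t) := by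
  induction t with
  | zero => simp
  | succ t ih =>
    calc D.b ^ (t + 1) * D.a ^ i * (D.b ^ (t + 1))⁻¹
        = D.b * (D.b ^ t * D.a ^ i * (D.b ^ t)⁻¹) * D.b⁻¹ := by group
      _ = (D.b * D.a * D.b⁻¹) ^ (i * (D.c + 1) ^ t) := by rw [ih, conj_pow]
      _ = D.a ^ (i * (D.c + 1) ^ (t + 1)) := by rw [D.rel, ← pow_mul]; ring_nf

theorem mul_ab (i j k l : ℕ) : D.a ^ i * D.b ^ j * (D.a ^ k * D.b ^ l) =
    D.a ^ (i + k * (D.c + 1) ^ j) * D.b ^ (j + l) := by
  rw [pow_add, ← D.conj_pow_b j k, pow_add]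
  group

/-- The generator of the derived subgroup. -/
def y : G := D.a ^ D.c

theorem a_pow_c_mul_eq_iff (x z : ℕ) :
    D.a ^ (D.c * x) = D.a ^ (D.c * z) ↔ (x : ZMod (p ^ D.n)) = z := by
  rw [pow_mul, pow_mul, pow_eq_pow_iff_modEq, D.order_c, ZMod.natCast_eq_natCast_iff]

theorem commute_iff (i j k l : ℕ) : Commute (D.a ^ i * D.b ^ j) (D.a ^ k * D.b ^ l) ↔
    (k * geo (D.c + 1) j : ZMod (p ^ D.n)) = i * geo (D.c + 1) l := by
  rw [Commute, SemiconjBy, mul_ab, mul_ab, add_comm l j, mul_left_inj, ← mul_geo_add_one, ← mul_geo_add_one,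
    show i + k * (D.c * geo (D.c + 1) j + 1) = (i + k) + D.c * (k * geo (D.c + 1) j) by ring,
    show k + i * (D.c * geo (D.c + 1) l + 1) = (i + k) + D.c * (i * geo (D.c + 1) l) by ring,
    pow_add D.a (i + k), pow_add D.a (i + k), mul_right_inj, D.a_pow_c_mul_eq_iff]
  push_cast
  rfl

theorem rep_unique {i j k l : ℕ} (h : D.a ^ i * D.b ^ j = D.a ^ k * D.b ^ l) :
    (i : ZMod (p ^ D.n)) = k ∧ (geo (D.c + 1) j : ZMod (p ^ D.n)) = geo (D.c + 1) l := by
  have g1 : geo (D.c + 1) 1 = 1 := by simp [geo]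
  have key : ∀ (u v : ℕ), (u * geo (D.c + 1) j : ZMod (p ^ D.n)) = i * geo (D.c + 1) v ↔
      (u * geo (D.c + 1) l : ZMod (p ^ D.n)) = k * geo (D.c + 1) v := by
    intro u v
    rw [← D.commute_iff i j u v, ← D.commute_iff k l u v, h]
  -- evaluate the commutators with `a` and `b`
  have e : ∀ (i j : ℕ), D.a ^ i * D.b ^ j * D.a = D.a ^ (D.c * geo (D.c + 1) j) * D.a * (D.a ^ i * D.b ^ j) ∧
      D.b * (D.a ^ i * D.b ^ j) = D.a ^ (D.c * i) * (D.a ^ i * D.b ^ j) * D.b := by
    intro i j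
    constructor
    · have := D.mul_ab i j 1 0
      rw [pow_zero, mul_one, pow_one, add_zero, one_mul] at this
      rw [this, ← mul_geo_add_one, ← pow_succ, ← mul_assoc, ← pow_add]
      congr 2
      ring
    · have := D.mul_ab 0 1 i j
      rw [pow_zero, pow_one, one_mul, pow_one, zero_add] at this
      rw [this, mul_assoc, mul_assoc, ← pow_succ, ← mul_assoc, ← pow_add, add_comm 1 j]
      congr 2
      ring
  obtain ⟨e1, e2⟩ := e i j
  obtain ⟨e3, e4⟩ := e k l
  rw [h] at e1 e2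
  refine ⟨?_, ?_⟩
  · rw [← D.a_pow_c_mul_eq_iff]
    exact mul_right_cancel (mul_right_cancel (e2.symm.trans e4))
  · rw [← D.a_pow_c_mul_eq_iff]
    exact mul_right_cancel (mul_right_cancel (e1.symm.trans e3))

/-- The crossed homomorphism. -/
noncomputable def psi (x : G) : Plane p D.n :=
  (((D.gen x).choose : ZMod (p ^ D.n)),
    (geo (D.c + 1) (D.gen x).choose_spec.choose : ZMod (p ^ D.n)))

theorem psi_ab (i j : ℕ) : D.psi (D.a ^ i * D.b ^ j) =
    ((i : ZMod (p ^ D.n)), (geo (D.c + 1) j : ZMod (p ^ D.n))) := by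
  obtain ⟨h1, h2⟩ := D.rep_unique (D.gen (D.a ^ i * D.b ^ j)).choose_spec.choose_spec
  exact Prod.ext h1.symm h2.symm

/-- The multiplier of the crossed homomorphism. -/
noncomputable def chi (x : G) : ZMod (p ^ D.n) := 1 + D.c * (D.psi x).2

theorem chi_ab (i j : ℕ) :
    D.chi (D.a ^ i * D.b ^ j) = (((D.c + 1) ^ j : ℕ) : ZMod (p ^ D.n)) := by
  rw [chi, psi_ab, ← mul_geo_add_one]
  push_cast
  ring

theorem psi_mul (x y : G) : D.psi (x * y) =
    ((D.psi x).1 + D.chi x * (D.psi y).1, (D.psi x).2 + D.chi x * (D.psi y).2) := by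
  obtain ⟨i, j, rfl⟩ := D.gen x
  obtain ⟨k, l, rfl⟩ := D.gen y
  rw [mul_ab, psi_ab, psi_ab, psi_ab, chi_ab, geo_add]
  push_cast
  refine Prod.ext ?_ ?_ <;> simp only [] <;> ring

theorem psi_one : D.psi 1 = 0 := by
  have := D.psi_ab 0 0
  rw [pow_zero, pow_zero, one_mul, geo_zero, Nat.cast_zero, Prod.mk_zero_zero] at this
  exact this

theorem commute_psi_iff (x y : G) : Commute x y ↔ det2 (D.psi x) (D.psi y) = 0 := by
  obtain ⟨i, j, rfl⟩ := D.gen x
  obtain ⟨k, l, rfl⟩ := D.gen y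
  rw [commute_iff, psi_ab, psi_ab, det2, sub_eq_zero, mul_comm (k : ZMod (p ^ D.n))]
  exact eq_comm

theorem psi_surjective : Function.Surjective D.psi := by
  rintro ⟨u, v⟩
  obtain ⟨j, hj⟩ := geo_bijective D.p_ne D.n (D.c + 1) D.r_cast v
  exact ⟨D.a ^ u.val * D.b ^ j, by rw [psi_ab, hj, ZMod.natCast_zmod_val]⟩

theorem psi_eq_zero_iff (x : G) : D.psi x = 0 ↔ x ∈ center G := by
  rw [mem_center_iff]
  refine ⟨fun h g => ((D.commute_psi_iff g x).mpr (by simp [h, det2])).eq, fun h => ?_⟩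
  have h1 : ∀ v : Plane p D.n, det2 v (D.psi x) = 0 := fun v => by
    obtain ⟨g, rfl⟩ := D.psi_surjective v
    exact (D.commute_psi_iff g x).mp (h g)
  have e1 := h1 (1, 0)
  have e2 := h1 (0, 1)
  simp [det2] at e1 e2
  exact Prod.ext e2 e1

theorem chi_mul_inv (x : G) : D.chi x * D.chi x⁻¹ = 1 := by
  have h := congrArg Prod.snd (D.psi_mul x x⁻¹)
  rw [mul_inv_cancel, psi_one] at h
  simp only [Prod.snd_zero, chi] at h ⊢
  linear_combination -(D.c : ZMod (p ^ D.n)) * h

theorem psi_eq_psi_iff (x y : G) : D.psi x = D.psi y ↔ x⁻¹ * y ∈ center G := by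
  have hu : IsUnit (D.chi x) := IsUnit.of_mul_eq_one (D.chi x⁻¹) (D.chi_mul_inv x)
  have h := D.psi_mul x (x⁻¹ * y)
  rw [mul_inv_cancel_left] at h
  rw [← D.psi_eq_zero_iff, h]
  refine ⟨fun e => ?_, fun e => ?_⟩
  · refine Prod.ext ?_ ?_
    · exact hu.mul_right_eq_zero.mp (left_eq_add.mp (congrArg Prod.fst e))
    · exact hu.mul_right_eq_zero.mp (left_eq_add.mp (congrArg Prod.snd e))
  · simp [e]

theorem psi_pow (x : G) (t : ℕ) : ∃ r : ℕ, (r : ZMod p) = 1 ∧ D.psi (x ^ t) =
    ((geo r t : ZMod (p ^ D.n)) * (D.psi x).1, (geo r t : ZMod (p ^ D.n)) * (D.psi x).2) := by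
  obtain ⟨i, j, hx⟩ := D.gen x
  refine ⟨(D.c + 1) ^ j, by rw [Nat.cast_pow, D.r_cast, one_pow], ?_⟩
  induction t with
  | zero => simp [geo_zero, psi_one, Prod.mk_zero_zero]
  | succ t ih =>
    rw [pow_succ', psi_mul, ih, add_comm t 1, geo_add, pow_one, show geo ((D.c + 1) ^ j) 1 = 1 by simp [geo]]
    rw [hx, chi_ab]
    push_cast
    refine Prod.ext ?_ ?_ <;> simp only [] <;> ring

theorem smul_psi_mem (L : Subgroup G) {x : G} (hx : x ∈ L) (t : ZMod (p ^ D.n)) :
    ∃ z ∈ L, D.psi z = (t * (D.psi x).1, t * (D.psi x).2) := by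
  obtain ⟨i, j, hij⟩ := D.gen x
  obtain ⟨s, hs⟩ := geo_bijective D.p_ne D.n ((D.c + 1) ^ j)
    (by rw [Nat.cast_pow, D.r_cast, one_pow]) t
  refine ⟨x ^ s, pow_mem hx s, ?_⟩
  rw [← hs]
  clear hs
  induction s with
  | zero => simp [geo_zero, psi_one, Prod.mk_zero_zero]
  | succ s ih =>
    rw [pow_succ', psi_mul, ih, add_comm s 1, geo_add, pow_one, show geo ((D.c + 1) ^ j) 1 = 1 by simp [geo]]
    rw [hij, chi_ab]
    push_cast
    refine Prod.ext ?_ ?_ <;> simp only [] <;> ring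

/-- The image of a subgroup. -/
def img (L : Subgroup G) : AddSubgroup (Plane p D.n) where
  carrier := D.psi '' (L : Set G)
  zero_mem' := ⟨1, one_mem L, D.psi_one⟩
  add_mem' := by
    rintro _ _ ⟨x, hx, rfl⟩ ⟨y, hy, rfl⟩
    obtain ⟨z, hz, hzz⟩ := D.smul_psi_mem L hy (D.chi x⁻¹)
    refine ⟨x * z, mul_mem hx hz, ?_⟩
    rw [psi_mul, hzz]
    refine Prod.ext ?_ ?_
    · simp [← mul_assoc, chi_mul_inv]
    · simp [← mul_assoc, chi_mul_inv]
  neg_mem' := by
    rintro _ ⟨x, hx, rfl⟩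
    obtain ⟨z, hz, hzz⟩ := D.smul_psi_mem L hx (-1)
    exact ⟨z, hz, by rw [hzz]; refine Prod.ext ?_ ?_ <;> simp⟩

theorem mem_img {L : Subgroup G} {v : Plane p D.n} :
    v ∈ D.img L ↔ ∃ x ∈ L, D.psi x = v := Iff.rfl

theorem psi_mem_img_iff {L : Subgroup G} (hL : center G ≤ L) (x : G) :
    D.psi x ∈ D.img L ↔ x ∈ L := by
  refine ⟨?_, fun h => ⟨x, h, rfl⟩⟩
  rintro ⟨y, hy, hyx⟩
  have h := mul_mem hy (hL ((D.psi_eq_psi_iff y x).mp hyx))
  rwa [mul_inv_cancel_left] at h

theorem center_le_centralizer (L : Subgroup G) : center G ≤ centralizer (L : Set G) :=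
  fun z hz => mem_centralizer_iff.mpr fun g _ => mem_center_iff.mp hz g

theorem mem_centralizer_iff_psi (L : Set G) (x : G) :
    x ∈ centralizer L ↔ D.psi x ∈ perp (D.psi '' L) := by
  rw [mem_centralizer_iff, mem_perp, Set.forall_mem_image]
  exact forall₂_congr fun g _ => D.commute_psi_iff g x

theorem img_centralizer (L : Subgroup G) :
    D.img (centralizer (L : Set G)) = perp (D.img L : Set (Plane p D.n)) := by
  ext v
  obtain ⟨x, rfl⟩ := D.psi_surjective v
  rw [D.psi_mem_img_iff (D.center_le_centralizer L), D.mem_centralizer_iff_psi]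
  rfl

theorem card_eq (L : Subgroup G) :
    Nat.card ↥L = Nat.card ↥(L ⊓ center G : Subgroup G) * Nat.card ↥(D.img L) := by
  let f : ↥L ⧸ (center G).subgroupOf L → ↥(D.img L) :=
    Quotient.lift (fun x : ↥L => (⟨D.psi x, ⟨x, x.2, rfl⟩⟩ : ↥(D.img L))) (fun x y h => by
      have h' := QuotientGroup.leftRel_apply.mp h
      exact Subtype.ext ((D.psi_eq_psi_iff _ _).mpr h'))
  have hf : Function.Bijective f := by
    constructor
    · intro u v
      refine Quotient.inductionOn₂' u v fun x y h => ?_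
      apply Quotient.sound'
      rw [QuotientGroup.leftRel_apply]
      exact (D.psi_eq_psi_iff _ _).mp (congrArg Subtype.val h)
    · rintro ⟨_, x, hx, rfl⟩
      exact ⟨QuotientGroup.mk ⟨x, hx⟩, rfl⟩
  rw [← Nat.card_eq_of_bijective f hf, ← index_eq_card, inf_comm,
    ← Nat.card_congr (Subgroup.subgroupOfEquivOfLe (inf_le_right : center G ⊓ L ≤ L)).toEquiv,
    inf_subgroupOf_right, card_mul_index]

theorem card_of_ge {L : Subgroup G} (h : center G ≤ L) :
    Nat.card ↥L = Nat.card ↥(center G) * Nat.card ↥(D.img L) := by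
  rw [D.card_eq L, inf_eq_right.mpr h]

theorem img_top : D.img ⊤ = ⊤ := eq_top_iff.mpr fun v _ => by
  obtain ⟨x, rfl⟩ := D.psi_surjective v
  exact ⟨x, mem_top x, rfl⟩

theorem card_group : Nat.card G = Nat.card ↥(center G) * p ^ (2 * D.n) := by
  rw [← Subgroup.card_top (G := G), D.card_of_ge le_top, img_top, AddSubgroup.card_top, card_plane]

theorem center_index : (center G).index = p ^ (2 * D.n) := by
  have h := (center G).card_mul_index
  rw [D.card_group] at h
  exact Nat.eq_of_mul_eq_mul_left Nat.card_pos h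

theorem card_centralizer (L : Subgroup G) :
    Nat.card ↥(centralizer (L : Set G)) * Nat.card ↥(D.img L) = Nat.card G := by
  rw [D.card_of_ge (D.center_le_centralizer L), img_centralizer, D.card_group,
    ← card_mul_card_perp (D.img L)]
  ring

theorem commutator_eq : commutator G = zpowers D.y := by
  haveI hn : (zpowers D.y).Normal := by
    have hb : ∀ g, D.b ^ g * D.y * (D.b ^ g)⁻¹ ∈ zpowers D.y := fun g => by
      rw [y, D.conj_pow_b, pow_mul]
      exact pow_mem (mem_zpowers _) _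
    refine ⟨fun x hx g => ?_⟩
    obtain ⟨i, j, rfl⟩ := D.gen g
    obtain ⟨k, rfl⟩ := mem_zpowers_iff.mp hx
    rw [show D.a ^ i * D.b ^ j * D.y ^ k * (D.a ^ i * D.b ^ j)⁻¹ =
      D.a ^ i * (D.b ^ j * D.y * (D.b ^ j)⁻¹) ^ k * (D.a ^ i)⁻¹ by rw [conj_zpow]; group]
    obtain ⟨l, hl⟩ := mem_zpowers_iff.mp (hb j)
    rw [← hl, ← zpow_mul, y, ← zpow_natCast D.a i, ← zpow_natCast D.a D.c, ← zpow_mul, ← zpow_add,
      ← zpow_neg, ← zpow_add]
    exact mem_zpowers_iff.mpr ⟨l * k, by rw [← zpow_mul]; congr 1; ring⟩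
  refine le_antisymm ?_ ?_
  · have hab : Commute (QuotientGroup.mk' (zpowers D.y) D.a) (QuotientGroup.mk' (zpowers D.y) D.b) := by
      have e : D.b * D.a * D.b⁻¹ = D.y * D.a := by rw [D.rel, pow_succ, y]
      have := congrArg (QuotientGroup.mk' (zpowers D.y)) e
      rw [map_mul, map_mul, map_mul, map_inv, show QuotientGroup.mk' (zpowers D.y) D.y = 1 from
        (QuotientGroup.eq_one_iff _).mpr (mem_zpowers _), one_mul, mul_inv_eq_iff_eq_mul] at this
      exact this.symm
    rw [_root_.commutator_eq_closure, closure_le]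
    rintro _ ⟨u, v, rfl⟩
    obtain ⟨i, j, rfl⟩ := D.gen u
    obtain ⟨k, l, rfl⟩ := D.gen v
    refine (QuotientGroup.eq_one_iff _).mp ?_
    show QuotientGroup.mk' (zpowers D.y) _ = 1
    rw [map_commutatorElement, commutatorElement_eq_one_iff_commute, map_mul, map_mul, map_pow,
      map_pow, map_pow, map_pow]
    exact ((Commute.pow_pow_self _ i k).mul_right (hab.pow_pow i l)).mul_left
      ((hab.symm.pow_pow j k).mul_right (Commute.pow_pow_self _ j l))
  · rw [zpowers_le]
    have e : D.y = ⁅D.b, D.a⁆ := by rw [commutatorElement_def, D.rel, pow_succ, y]; group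
    rw [e]
    exact commutator_mem_commutator (mem_top _) (mem_top _)

theorem card_commutator : Nat.card ↥(commutator G) = p ^ D.n := by
  rw [D.commutator_eq, Nat.card_zpowers]
  exact D.order_c

theorem commutator_index : (commutator G).index = Nat.card ↥(center G) * p ^ D.n := by
  have h := (commutator G).card_mul_index
  rw [D.card_commutator, D.card_group, two_mul, pow_add] at h
  refine Nat.eq_of_mul_eq_mul_left (pow_pos hp.out.pos D.n) (h.trans ?_)
  ring

theorem n_eq {n : ℕ} (h : Nat.card ↥(commutator G) = p ^ n) : n = D.n :=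
  Nat.pow_right_injective hp.out.two_le (h.symm.trans D.card_commutator)

theorem psi_pow_mem_box (x : G) {s : ℕ} : D.psi (x ^ p ^ s) ∈ box s s := by
  obtain ⟨r, hr, he⟩ := D.psi_pow x (p ^ s)
  rw [he, mem_box, ← Nat.cast_pow]
  have h := Nat.cast_dvd_cast (α := ZMod (p ^ D.n))
    ((dvd_geo_iff D.p_ne s r (p ^ s) hr).mpr dvd_rfl)
  exact ⟨dvd_mul_of_dvd_left h _, dvd_mul_of_dvd_left h _⟩

/-- The subgroup generated by the `p^s`-th powers. -/
theorem mem_closure_powers_iff {s : ℕ} (hs : s ≤ D.n) (x : G) :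
    x ∈ closure {z : G | ∃ w : G, w ^ p ^ s = z} ↔ D.psi x ∈ box s s := by
  constructor
  · intro hx
    induction hx using closure_induction with
    | mem z hz => obtain ⟨w, rfl⟩ := hz; exact D.psi_pow_mem_box w
    | one => rw [psi_one]; exact zero_mem _
    | mul u v _ _ hu hv =>
      rw [psi_mul, mem_box] at *
      exact ⟨dvd_add hu.1 (hv.1.mul_left _), dvd_add hu.2 (hv.2.mul_left _)⟩
    | inv u _ hu =>
      have h := D.psi_mul u⁻¹ u
      rw [inv_mul_cancel, psi_one, Prod.ext_iff] at h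
      rw [mem_box] at *
      obtain ⟨h1, h2⟩ := h
      simp only [Prod.fst_zero, Prod.snd_zero] at h1 h2
      rw [eq_neg_of_add_eq_zero_left h1.symm, eq_neg_of_add_eq_zero_left h2.symm]
      exact ⟨(hu.1.mul_left _).neg_right, (hu.2.mul_left _).neg_right⟩
  · intro hx
    obtain ⟨i, j, rfl⟩ := D.gen x
    rw [psi_ab, mem_box] at hx
    have key : ∀ u : ℕ, (p : ZMod (p ^ D.n)) ^ s ∣ (u : ZMod (p ^ D.n)) → p ^ s ∣ u := fun u hu => by
      have := map_dvd (ZMod.castHom (pow_dvd_pow p hs) (ZMod (p ^ s))) hu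
      rw [map_pow, map_natCast, map_natCast, ← Nat.cast_pow, ZMod.natCast_self, zero_dvd_iff,
        ZMod.natCast_eq_zero_iff] at this
      exact this
    obtain ⟨i', rfl⟩ := key i hx.1
    obtain ⟨j', rfl⟩ := (dvd_geo_iff D.p_ne s _ j D.r_cast).mp (key _ hx.2)
    exact mul_mem (subset_closure ⟨D.a ^ i', by rw [← pow_mul, mul_comm]⟩)
      (subset_closure ⟨D.b ^ j', by rw [← pow_mul, mul_comm]⟩)

theorem box_top : box (p := p) (n := D.n) D.n D.n = ⊥ := by
  refine eq_bot_iff.mpr fun v hv => ?_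
  rw [mem_box] at hv
  simp only [← Nat.cast_pow, ZMod.natCast_self, zero_dvd_iff] at hv
  exact Prod.ext hv.1 hv.2

theorem closure_powers_eq_center : closure {z : G | ∃ w : G, w ^ p ^ D.n = z} = center G := by
  ext x
  rw [D.mem_closure_powers_iff le_rfl, box_top, AddSubgroup.mem_bot, psi_eq_zero_iff]

theorem isotropic_iff (L : Subgroup G) :
    IsMulCommutative ↥L ↔ D.img L ≤ perp (D.img L : Set (Plane p D.n)) := by
  constructor
  · rintro h _ ⟨y, hy, rfl⟩ _ ⟨x, hx, rfl⟩
    exact (D.commute_psi_iff x y).mp (congrArg Subtype.val (mul_comm' (⟨x, hx⟩ : ↥L) ⟨y, hy⟩))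
  · intro h
    exact ⟨⟨fun x y => Subtype.ext ((D.commute_psi_iff x y).mpr (h ⟨y, y.2, rfl⟩ _ ⟨x, x.2, rfl⟩))⟩⟩

theorem center_le_of_not_comm {L : Subgroup G} (hL : ¬ IsMulCommutative ↥L) : center G ≤ L := by
  rw [D.isotropic_iff] at hL
  obtain ⟨-, hbig, h⟩ := nonisotropic hL
  have hn : D.n ≠ 0 := by
    intro h0
    have := Nat.card_le_card_of_injective ((D.img L).subtype) (D.img L).subtype_injective
    rw [card_plane] at this
    have e2 : p ^ (2 * D.n) = 1 := by simp [h0]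
    have e1 : p ^ D.n = 1 := by simp [h0]
    omega
  have key : ∀ g : G, ∃ w ∈ center G, g ^ p ^ D.n * (w ^ p)⁻¹ ∈ L := by
    intro g
    have hb := D.psi_pow_mem_box g (s := D.n - 1)
    rw [mem_box] at hb
    obtain ⟨⟨u, hu⟩, ⟨v, hv⟩⟩ := hb
    have hmem : D.psi (g ^ p ^ (D.n - 1)) ∈ D.img L := by
      have := h (u, v)
      convert this using 1
      refine Prod.ext ?_ ?_
      · rw [hu, Prod.smul_fst, nsmul_eq_mul, Nat.cast_pow]
      · rw [hv, Prod.smul_snd, nsmul_eq_mul, Nat.cast_pow]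
    obtain ⟨l, hl, hle⟩ := hmem
    have hz := (D.psi_eq_psi_iff _ _).mp hle
    refine ⟨_, hz, ?_⟩
    have hc : Commute l (l⁻¹ * g ^ p ^ (D.n - 1)) := mem_center_iff.mp hz l
    rw [show p ^ D.n = p ^ (D.n - 1) * p by rw [← pow_succ, Nat.sub_add_cancel (by omega)], pow_mul,
      show g ^ p ^ (D.n - 1) = l * (l⁻¹ * g ^ p ^ (D.n - 1)) by group, hc.mul_pow,
      mul_inv_cancel_left, mul_inv_cancel_right]
    exact pow_mem hl p
  have gen : ∀ z ∈ center G, ∃ w ∈ center G, z * (w ^ p)⁻¹ ∈ L := by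
    intro z hz
    rw [← D.closure_powers_eq_center] at hz
    induction hz using closure_induction with
    | mem x hx => obtain ⟨g, rfl⟩ := hx; exact key g
    | one => exact ⟨1, one_mem _, by simp⟩
    | mul x y hx hy ihx ihy =>
      obtain ⟨w, hw, hwL⟩ := ihx
      obtain ⟨v, hv, hvL⟩ := ihy
      rw [D.closure_powers_eq_center] at hy
      refine ⟨w * v, mul_mem hw hv, ?_⟩
      have hwv : Commute w v := mem_center_iff.mp hv w
      have : x * y * ((w * v) ^ p)⁻¹ = x * (w ^ p)⁻¹ * (y * (v ^ p)⁻¹) := by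
        rw [hwv.mul_pow, mul_inv_rev]
        have hc : Commute (w ^ p)⁻¹ (y * (v ^ p)⁻¹) :=
          (mem_center_iff.mp (mul_mem hy (inv_mem (pow_mem hv p))) _)
        calc x * y * ((v ^ p)⁻¹ * (w ^ p)⁻¹) = x * ((y * (v ^ p)⁻¹) * (w ^ p)⁻¹) := by group
          _ = x * ((w ^ p)⁻¹ * (y * (v ^ p)⁻¹)) := by rw [hc.eq]
          _ = x * (w ^ p)⁻¹ * (y * (v ^ p)⁻¹) := by group
      rw [this]
      exact mul_mem hwL hvL
    | inv x hx ihx =>
      obtain ⟨w, hw, hwL⟩ := ihx
      rw [D.closure_powers_eq_center] at hx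
      refine ⟨w⁻¹, inv_mem hw, ?_⟩
      have hc : Commute (w ^ p) x := mem_center_iff.mp hx _
      rw [inv_pow, inv_inv]
      have e := inv_mem hwL
      rw [mul_inv_rev, inv_inv, hc.inv_right.eq] at e
      exact e
  have iter : ∀ i : ℕ, ∀ z ∈ center G, ∃ w ∈ center G, z * (w ^ p ^ i)⁻¹ ∈ L := by
    intro i
    induction i with
    | zero => exact fun z hz => ⟨z, hz, by simp⟩
    | succ i ih =>
      intro z hz
      obtain ⟨w, hw, hwL⟩ := ih z hz
      obtain ⟨v, hv, hvL⟩ := gen w hw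
      refine ⟨v, hv, ?_⟩
      have hc : Commute (w * (v ^ p)⁻¹) (v ^ p) :=
        ((mem_center_iff.mp (pow_mem hv p)) _)
      have := mul_mem hwL (pow_mem hvL (p ^ i))
      have e : w ^ p ^ i = (w * (v ^ p)⁻¹) ^ p ^ i * (v ^ p) ^ p ^ i := by
        rw [← hc.mul_pow, inv_mul_cancel_right]
      rw [e, mul_inv_rev, ← mul_assoc, inv_mul_cancel_right, ← pow_mul, ← pow_succ'] at this
      exact this
  intro z hz
  obtain ⟨k, hk⟩ := IsPGroup.iff_card.mp D.isP
  obtain ⟨w, -, hw⟩ := iter k z hz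
  rwa [← hk, pow_card_eq_one', inv_one, mul_one] at hw

theorem not_comm_iff_card (L : Subgroup G) :
    IsMulCommutative ↥L ↔ Nat.card ↥L ≤ (commutator G).index := by
  rw [D.commutator_index]
  by_cases h : IsMulCommutative ↥L
  · refine iff_of_true h ?_
    rw [D.card_eq L]
    exact Nat.mul_le_mul (card_le_of_le inf_le_right)
      ((isotropic_iff_card_le _).mp ((D.isotropic_iff L).mp h))
  · refine iff_of_false h ?_
    rw [D.card_of_ge (D.center_le_of_not_comm h), not_le]
    rw [D.isotropic_iff, isotropic_iff_card_le, not_le] at h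
    exact Nat.mul_lt_mul_of_pos_left h Nat.card_pos

theorem maximal_iff (L : Subgroup G) :
    Maximal (fun K : Subgroup G => IsMulCommutative ↥K) L ↔
      Nat.card ↥L = (commutator G).index := by
  constructor
  · intro hL
    have hab := hL.1
    have hle : L ≤ centralizer (L : Set G) := fun x hx => mem_centralizer_iff.mpr fun y hy =>
      congrArg Subtype.val (mul_comm' (⟨y, hy⟩ : ↥L) ⟨x, hx⟩)
    have hceq : centralizer (L : Set G) = L := by
      refine le_antisymm (fun x hx => ?_) hle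
      have hsup : L ⊔ zpowers x ≤ centralizer ((L ⊔ zpowers x : Subgroup G) : Set G) := by
        refine sup_le (le_centralizer_iff.mp (sup_le hle (zpowers_le.mpr hx))) ?_
        refine le_centralizer_iff.mp (sup_le ?_ ?_)
        · intro y hy
          rw [mem_centralizer_iff]
          intro w hw
          obtain ⟨i, rfl⟩ := mem_zpowers_iff.mp hw
          exact ((show Commute y x from mem_centralizer_iff.mp hx y hy).zpow_right i).symm.eq
        · intro y hy
          rw [mem_centralizer_iff]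
          intro w hw
          obtain ⟨i, rfl⟩ := mem_zpowers_iff.mp hw
          obtain ⟨k, rfl⟩ := mem_zpowers_iff.mp hy
          exact (Commute.zpow_zpow_self x i k).eq
      exact hL.2 ⟨⟨fun u v => Subtype.ext (mem_centralizer_iff.mp (hsup v.2) u u.2)⟩⟩ le_sup_left
        (mem_sup_right (mem_zpowers x))
    have h1 := D.card_centralizer L
    rw [hceq, D.card_of_ge (hceq ▸ D.center_le_centralizer L), D.card_group, mul_assoc] at h1
    have h2 := Nat.eq_of_mul_eq_mul_left Nat.card_pos h1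
    rw [two_mul, pow_add] at h2
    have h3 : Nat.card ↥(D.img L) = p ^ D.n := Nat.mul_self_inj.mp h2
    rw [D.card_of_ge (hceq ▸ D.center_le_centralizer L), h3, D.commutator_index]
  · intro h
    refine ⟨(D.not_comm_iff_card L).mpr h.le, fun K hK hLK => ?_⟩
    exact (Subgroup.eq_of_le_of_card_ge hLK (h ▸ (D.not_comm_iff_card K).mp hK)).ge

theorem index_centralizer_singleton (g : G) :
    (centralizer ({g} : Set G)).index = addOrderOf (D.psi g) := by
  have e : Nat.card ↥(centralizer ({g} : Set G)) * addOrderOf (D.psi g) = Nat.card G := by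
    have himg : D.img (zpowers g) = AddSubgroup.zmultiples (D.psi g) := by
      refine le_antisymm ?_ (AddSubgroup.zmultiples_le.mpr ⟨g, mem_zpowers g, rfl⟩)
      rintro _ ⟨x, hx, rfl⟩
      obtain ⟨t, rfl⟩ := mem_powers_iff_mem_zpowers.mpr hx
      obtain ⟨r, -, hr⟩ := D.psi_pow g t
      simp only
      rw [hr]
      exact smul_mem_addSubgroup _ (AddSubgroup.mem_zmultiples (D.psi g)) _
    have h := D.card_centralizer (zpowers g)
    rwa [himg, Nat.card_zmultiples, show centralizer ((zpowers g : Subgroup G) : Set G) =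
      centralizer ({g} : Set G) by rw [zpowers_eq_closure, centralizer_closure]] at h
  have := (centralizer ({g} : Set G)).card_mul_index
  exact Nat.eq_of_mul_eq_mul_left Nat.card_pos (this.trans e.symm)

theorem index_le_iff (g : G) {i : ℕ} (hi : i ≤ D.n) :
    (centralizer ({g} : Set G)).index ≤ p ^ i ↔ D.psi g ∈ box (D.n - i) (D.n - i) := by
  rw [D.index_centralizer_singleton, mem_box_iff_addOrderOf (Nat.sub_le _ _), Nat.sub_sub_self hi]

theorem card_index_le {i : ℕ} (hi : i ≤ D.n) :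
    Nat.card {g : G // (centralizer ({g} : Set G)).index ≤ p ^ i} =
      Nat.card ↥(center G) * p ^ (2 * i) := by
  set B : AddSubgroup (Plane p D.n) := box (D.n - i) (D.n - i)
  let L : Subgroup G := closure {z : G | ∃ w : G, w ^ p ^ (D.n - i) = z}
  have hL : ∀ g, g ∈ L ↔ D.psi g ∈ B := fun g => D.mem_closure_powers_iff (Nat.sub_le _ _) g
  rw [show Nat.card {g : G // (centralizer ({g} : Set G)).index ≤ p ^ i} = Nat.card ↥L from
    Nat.card_congr (Equiv.subtypeEquivRight fun g => (D.index_le_iff g hi).trans (hL g).symm)]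
  have hZ : center G ≤ L := fun z hz => (hL z).mpr (by rw [(D.psi_eq_zero_iff z).mpr hz]; exact zero_mem _)
  have himg : D.img L = B := by
    ext v
    obtain ⟨x, rfl⟩ := D.psi_surjective v
    rw [D.psi_mem_img_iff hZ, hL]
  rw [D.card_of_ge hZ, himg, card_box (Nat.sub_le _ _) (Nat.sub_le _ _), Nat.sub_sub_self hi,
    ← pow_add, two_mul]

theorem frattini_mem_iff (hn : 1 ≤ D.n) (g : G) : g ∈ frattini G ↔ D.psi g ∈ box 1 1 := by
  rw [← D.mem_closure_powers_iff hn]
  have he : frattini G = closure {z : G | ∃ w : G, w ^ p ^ 1 = z} := by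
    rw [PGroups.frattini_eq D.isP, pow_one, sup_eq_right.mpr ?_]
    · rfl
    · rw [D.commutator_eq, zpowers_le]
      obtain ⟨c', hc'⟩ := D.dvd_c
      exact subset_closure ⟨D.a ^ c', by simp only; rw [← pow_mul, mul_comm, ← hc']; rfl⟩
  rw [he]

theorem comm_centralizer_iff (g : G) :
    IsMulCommutative ↥(centralizer ({g} : Set G)) ↔ addOrderOf (D.psi g) = p ^ D.n := by
  have hord : addOrderOf (D.psi g) ≤ p ^ D.n := by
    have h := (mem_box_iff_addOrderOf (Nat.zero_le D.n) (D.psi g)).mp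
      (by rw [mem_box]; simp)
    simpa using h
  rw [D.not_comm_iff_card, D.commutator_index]
  have h := (centralizer ({g} : Set G)).card_mul_index
  rw [D.index_centralizer_singleton g, D.card_group, two_mul, pow_add] at h
  constructor
  · intro h'
    refine le_antisymm hord ?_
    have h2 := Nat.mul_le_mul_right (addOrderOf (D.psi g)) h'
    rw [h, mul_assoc] at h2
    exact Nat.le_of_mul_le_mul_left (Nat.le_of_mul_le_mul_left h2 Nat.card_pos) (pow_pos hp.out.pos _)
  · intro h'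
    rw [h', ← mul_assoc] at h
    exact (Nat.eq_of_mul_eq_mul_right (pow_pos hp.out.pos _) h).le

theorem centralizer_centralizer {K : Subgroup G} (hZ : center G ≤ K) :
    centralizer (centralizer (K : Set G) : Set G) = K := by
  refine le_antisymm (fun x hx => ?_) (le_centralizer_iff.mp le_rfl)
  rw [← D.psi_mem_img_iff hZ, ← perp_perp (D.img K), ← D.img_centralizer, ← D.img_centralizer]
  exact ⟨x, hx, rfl⟩

end MetaData

theorem card_center_eq (R : Subgroup G) :
    Nat.card ↥(center ↥R) = Nat.card ↥(R ⊓ centralizer (R : Set G) : Subgroup G) := by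
  rw [← Nat.card_congr (Subgroup.subgroupOfEquivOfLe
    (inf_le_left : R ⊓ centralizer (R : Set G) ≤ R)).toEquiv]
  congr 1
  have : center ↥R = (R ⊓ centralizer (R : Set G)).subgroupOf R := by
    ext x
    simp only [mem_subgroupOf, mem_inf, SetLike.coe_mem, true_and, mem_centralizer_iff, mem_center_iff]
    exact ⟨fun h g hg => congrArg Subtype.val (h ⟨g, hg⟩), fun h g => Subtype.ext (h g g.2)⟩
  rw [this]

namespace MetaData

variable (D : MetaData p G)
include D

theorem central_product_le (R : Subgroup G) :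
    Nat.card ↥R * Nat.card ↥(center ↥R) ≤ (commutator G).index ^ 2 ∧
      (Nat.card ↥R * Nat.card ↥(center ↥R) = (commutator G).index ^ 2 ↔
        (¬ IsMulCommutative ↥R ∨ Maximal (fun K : Subgroup G => IsMulCommutative ↥K) R)) := by
  rw [D.maximal_iff]
  by_cases h : IsMulCommutative ↥R
  · have hc : Nat.card ↥(center ↥R) = Nat.card ↥R := by
      rw [center_eq_top, Subgroup.card_top]
    have hle := (D.not_comm_iff_card R).mp h
    rw [hc, sq]
    refine ⟨Nat.mul_le_mul hle hle, fun he => Or.inr (Nat.mul_self_inj.mp he), ?_⟩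
    rintro (h' | h')
    · exact absurd h h'
    · rw [h']
  · have hZ := D.center_le_of_not_comm h
    have hperp : centralizer (R : Set G) ≤ R := fun x hx => by
      rw [← D.psi_mem_img_iff hZ]
      exact (nonisotropic (mt (D.isotropic_iff R).mpr h)).1 ((D.mem_centralizer_iff_psi _ x).mp hx)
    have e : Nat.card ↥R * Nat.card ↥(center ↥R) = (commutator G).index ^ 2 := by
      have h2 := D.card_centralizer R
      rw [card_center_eq, inf_eq_right.mpr hperp, D.card_of_ge hZ, mul_assoc,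
        mul_comm (Nat.card ↥(D.img R)), h2, D.commutator_index, D.card_group]
      ring
    exact ⟨e.le, fun _ => Or.inl h, fun _ => e⟩

end MetaData

end Cfsg.Agent.H73
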