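import Cfsg.Agent.H73.Metacyclic

/-!
# Metacyclic `p`-groups, `p` odd, are products of two disjoint cyclic subgroups
-/

set_option autoImplicit false
set_option linter.unusedSectionVars false

namespace Cfsg.Agent.H73

open Subgroup

variable {p : ℕ} [hp : Fact p.Prime]

theorem geo_modEq_prime (hp2 : p ≠ 2) {X Y m : ℕ} (hX : (X : ZMod p) = 1) (hY : (Y : ZMod p) = 1)
    (h : X ≡ Y [MOD p ^ m]) : geo X p ≡ geo Y p [MOD p ^ (m + 1)] := by
  rw [Nat.modEq_iff_dvd] at h ⊢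
  push_cast at h ⊢
  have hgeo : ∀ Z : ℕ, ((geo Z p : ℕ) : ℤ) = ∑ i ∈ Finset.range p, (Z : ℤ) ^ i := fun Z => by
    simp [geo]
  set S : ℤ := ∑ i ∈ Finset.range p, ∑ j ∈ Finset.range i, (Y : ℤ) ^ j * (X : ℤ) ^ (i - 1 - j) with hS
  have e : ((geo Y p : ℕ) : ℤ) - geo X p = ((Y : ℤ) - X) * S := by
    rw [hgeo, hgeo, ← Finset.sum_sub_distrib, hS, Finset.mul_sum]
    exact Finset.sum_congr rfl fun i _ => by rw [mul_comm, geom_sum₂_mul]
  have hd : (p : ℤ) ∣ S := by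
    rw [← ZMod.intCast_zmod_eq_zero_iff_dvd, hS]
    push_cast
    simp only [hX, hY, one_pow, mul_one, Finset.sum_const, Finset.card_range, nsmul_eq_mul]
    rw [← Nat.cast_sum, ZMod.natCast_eq_zero_iff]
    have h2 : p ∣ (∑ i ∈ Finset.range p, i) * 2 := by
      rw [Finset.sum_range_id_mul_two]
      exact dvd_mul_right _ _
    exact ((hp.out.coprime_iff_not_dvd).mpr fun h' =>
      hp2 ((Nat.prime_dvd_prime_iff_eq hp.out Nat.prime_two).mp h')).dvd_of_dvd_mul_right h2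
  rw [e, pow_succ]
  exact mul_dvd_mul h hd

theorem geo_modEq (hp2 : p ≠ 2) : ∀ (s X Y m : ℕ), (X : ZMod p) = 1 → (Y : ZMod p) = 1 →
    X ≡ Y [MOD p ^ m] → geo X (p ^ s) ≡ geo Y (p ^ s) [MOD p ^ (s + m)] := by
  intro s
  induction s with
  | zero => intro X Y m _ _ _; simp [geo, Nat.ModEq]
  | succ s ih =>
    intro X Y m hX hY h
    rw [pow_succ', geo_mul, geo_mul]
    have h1 := geo_modEq_prime hp2 hX hY h
    have hXp : ((X ^ p : ℕ) : ZMod p) = 1 := by simp [hX]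
    have hYp : ((Y ^ p : ℕ) : ZMod p) = 1 := by simp [hY]
    have hd : p ^ s ∣ geo (X ^ p) (p ^ s) := (dvd_geo_iff hp2 s _ _ hXp).mpr dvd_rfl
    have h2 : geo (X ^ p) (p ^ s) ≡ geo (Y ^ p) (p ^ s) [MOD p ^ (s + (m + 1))] := by
      refine ih _ _ (m + 1) hXp hYp ?_
      rcases Nat.eq_zero_or_pos m with rfl | hm
      · rw [zero_add, pow_one, ← ZMod.natCast_eq_natCast_iff, hXp, hYp]
      · rw [Nat.modEq_iff_dvd] at h ⊢
        push_cast at h ⊢
        rw [← geom_sum₂_mul, pow_succ']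
        refine mul_dvd_mul ?_ h
        rw [← ZMod.intCast_zmod_eq_zero_iff_dvd]
        push_cast
        simp [hX, hY]
    rw [Nat.modEq_iff_dvd] at h1 h2 ⊢
    push_cast at h1 h2 ⊢
    have hd' : (p : ℤ) ^ s ∣ ((geo (X ^ p) (p ^ s) : ℕ) : ℤ) := by exact_mod_cast hd
    have e : ((geo Y p : ℕ) : ℤ) * geo (Y ^ p) (p ^ s) - geo X p * geo (X ^ p) (p ^ s) =
        ((geo Y p : ℕ) - (geo X p : ℕ)) * (geo (X ^ p) (p ^ s) : ℕ) +
        (geo Y p : ℕ) * ((geo (Y ^ p) (p ^ s) : ℕ) - (geo (X ^ p) (p ^ s) : ℕ)) := by ring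
    rw [e, show s + 1 + m = s + (m + 1) by omega]
    refine dvd_add ?_ (h2.mul_left _)
    rw [pow_add, mul_comm]
    exact mul_dvd_mul h1 hd'

theorem pow_modEq_one {R : ℕ} (hR : (R : ZMod p) = 1) (m t : ℕ) :
    R ^ (p ^ m * t) ≡ 1 [MOD p ^ (m + 1)] := by
  have key : ∀ m, R ^ (p ^ m) ≡ 1 [MOD p ^ (m + 1)] := by
    intro m
    induction m with
    | zero =>
      rw [pow_zero, pow_one, pow_one, ← ZMod.natCast_eq_natCast_iff, hR, Nat.cast_one]
    | succ m ih =>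
      rw [pow_succ p m, pow_mul, Nat.modEq_iff_dvd]
      rw [Nat.modEq_iff_dvd] at ih
      push_cast at ih ⊢
      have e : (1 : ℤ) - ((R : ℤ) ^ p ^ m) ^ p = 1 ^ p - ((R : ℤ) ^ p ^ m) ^ p := by rw [one_pow]
      rw [e, ← geom_sum₂_mul, pow_succ' (p : ℤ) (m + 1)]
      refine mul_dvd_mul ?_ ih
      rw [← ZMod.intCast_zmod_eq_zero_iff_dvd]
      push_cast
      simp [hR]
  rw [pow_mul]
  simpa using (key m).pow t

theorem exists_split_exponent (hp2 : p ≠ 2) {R u : ℕ} (hR : (R : ZMod p) = 1) (hu : ¬ p ∣ u)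
    (s : ℕ) : ∀ m : ℕ, ∃ k : ℕ, p ^ (s + m) ∣ geo (R ^ k) (p ^ s) + p ^ s * u * k := by
  intro m
  induction m with
  | zero =>
    refine ⟨0, ?_⟩
    simp [geo_one]
  | succ m ih =>
    obtain ⟨k, q, hq⟩ := ih
    obtain ⟨t, ht⟩ : ∃ t : ℕ, ((q + u * t : ℕ) : ZMod p) = 0 := by
      have hu' : (u : ZMod p) ≠ 0 := fun h => hu ((ZMod.natCast_eq_zero_iff u p).mp h)
      exact ⟨(-(q : ZMod p) / u).val, by
        push_cast
        rw [ZMod.natCast_zmod_val, mul_div_cancel₀ _ hu', add_neg_cancel]⟩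
    refine ⟨k + p ^ m * t, ?_⟩
    have hc : geo (R ^ (k + p ^ m * t)) (p ^ s) ≡ geo (R ^ k) (p ^ s) [MOD p ^ (s + (m + 1))] := by
      refine geo_modEq hp2 s _ _ (m + 1) (by simp [hR]) (by simp [hR]) ?_
      rw [pow_add R]
      simpa using (pow_modEq_one hR m t).mul_left (R ^ k)
    rw [ZMod.natCast_eq_zero_iff] at ht
    have h2 : p ^ (s + (m + 1)) ∣ geo (R ^ k) (p ^ s) + p ^ s * u * (k + p ^ m * t) := by
      rw [mul_add (p ^ s * u), ← add_assoc (geo (R ^ k) (p ^ s)), hq,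
        show p ^ (s + m) * q + p ^ s * u * (p ^ m * t) = p ^ (s + m) * (q + u * t) by rw [pow_add]; ring,
        ← add_assoc s m 1, pow_succ]
      exact Nat.mul_dvd_mul_left _ ht
    exact (Nat.modEq_zero_iff_dvd).mp ((hc.add_right _).trans (Nat.modEq_zero_iff_dvd.mpr h2))

variable {G : Type*} [Group G] [Finite G]

theorem inf_zpowers_eq_bot (N : Subgroup G) [N.Normal] {y : G}
    (hy : orderOf y = orderOf (y : G ⧸ N)) : N ⊓ zpowers y = ⊥ := by
  rw [eq_bot_iff]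
  rintro x ⟨hxN, hxy⟩
  obtain ⟨t, rfl⟩ := mem_powers_iff_mem_zpowers.mpr hxy
  rw [mem_bot]
  simp only
  rw [← orderOf_dvd_iff_pow_eq_one, hy, orderOf_dvd_iff_pow_eq_one, ← QuotientGroup.mk_pow]
  exact (QuotientGroup.eq_one_iff _).mpr hxN

theorem MetaData.split (D : MetaData p G) :
    ∃ A B : Subgroup G, IsCyclic ↥A ∧ IsCyclic ↥B ∧ A ⊓ B = ⊥ ∧
      Nat.card ↥A * Nat.card ↥B = Nat.card G := by
  classical
  set N := zpowers D.a with hN
  have hb : ∀ j i : ℕ, D.b ^ j * D.a ^ i * (D.b ^ j)⁻¹ ∈ N := fun j i => by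
    rw [D.conj_pow_b]
    exact pow_mem (mem_zpowers _) _
  haveI hNn : N.Normal := by
    refine ⟨fun x hx g => ?_⟩
    obtain ⟨i, j, rfl⟩ := D.gen g
    obtain ⟨k, rfl⟩ := mem_powers_iff_mem_zpowers.mpr hx
    simp only
    rw [show D.a ^ i * D.b ^ j * D.a ^ k * (D.a ^ i * D.b ^ j)⁻¹ =
      D.a ^ i * (D.b ^ j * D.a ^ k * (D.b ^ j)⁻¹) * (D.a ^ i)⁻¹ by group]
    exact mul_mem (mul_mem (pow_mem (mem_zpowers _) _) (hb j k)) (inv_mem (pow_mem (mem_zpowers _) _))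
  obtain ⟨μ, hμ⟩ := IsPGroup.iff_orderOf.mp D.isP D.a
  obtain ⟨ν, hν⟩ := IsPGroup.iff_orderOf.mp (D.isP.to_quotient N) (D.b : G ⧸ N)
  have hidx : N.index = p ^ ν := by
    rw [index_eq_card, ← hν, ← Nat.card_zpowers]
    refine (Nat.card_congr (Equiv.subtypeUnivEquiv fun q => ?_)).symm
    obtain ⟨x, rfl⟩ := QuotientGroup.mk_surjective q
    obtain ⟨i, j, rfl⟩ := D.gen x
    rw [QuotientGroup.mk_mul, (QuotientGroup.eq_one_iff _).mpr (pow_mem (mem_zpowers D.a) i),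
      one_mul, QuotientGroup.mk_pow]
    exact pow_mem (mem_zpowers _) _
  have hG : Nat.card G = p ^ μ * p ^ ν := by
    rw [← N.card_mul_index, hidx, Nat.card_zpowers, hμ]
  have hbν : D.b ^ p ^ ν ∈ N := by
    rw [← QuotientGroup.eq_one_iff, QuotientGroup.mk_pow, ← hν]
    exact pow_orderOf_eq_one _
  obtain ⟨w₀, hw₀⟩ := mem_powers_iff_mem_zpowers.mpr hbν
  set w := w₀ % p ^ μ
  have hw : D.b ^ p ^ ν = D.a ^ w := by
    rw [← hw₀]
    show D.a ^ w₀ = _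
    rw [show w = w₀ % orderOf D.a by rw [hμ], pow_mod_orderOf]
  have hpos : 0 < p ^ μ := pow_pos hp.out.pos _
  have powformula : ∀ (i j t : ℕ), (D.a ^ i * D.b ^ j) ^ t =
      D.a ^ (i * geo ((D.c + 1) ^ j) t) * D.b ^ (j * t) := by
    intro i j t
    induction t with
    | zero => simp [geo_zero]
    | succ t ih =>
      rw [pow_succ', ih, D.mul_ab, add_comm t 1, geo_add, show geo ((D.c + 1) ^ j) 1 = 1 by simp [geo],
        pow_one]
      congr 2 <;> ring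
  have hr := D.r_cast
  by_cases hdiv : p ^ ν ∣ w
  · obtain ⟨w', hw'⟩ := hdiv
    obtain ⟨e, he⟩ : p ^ ν ∣ geo (D.c + 1) (p ^ ν) := (dvd_geo_iff D.p_ne ν _ _ hr).mpr dvd_rfl
    have hne : ¬ p ∣ e := by
      intro hd
      have h1 : p ^ (ν + 1) ∣ geo (D.c + 1) (p ^ ν) := by
        rw [he, pow_succ]; exact Nat.mul_dvd_mul_left _ hd
      rw [dvd_geo_iff D.p_ne _ _ _ hr, Nat.pow_dvd_pow_iff_le_right hp.out.one_lt] at h1
      omega
    haveI : NeZero (p ^ μ) := ⟨hpos.ne'⟩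
    obtain ⟨k, hk⟩ : ∃ k : ℕ, (p ^ μ) ∣ k * e + w' := by
      have hu : IsUnit (e : ZMod (p ^ μ)) := (ZMod.isUnit_iff_coprime _ _).mpr
        (((hp.out.coprime_iff_not_dvd).mpr hne).pow_left μ).symm
      obtain ⟨z, hz⟩ := hu.exists_left_inv
      refine ⟨(-(w' : ZMod (p ^ μ)) * z).val, ?_⟩
      rw [← ZMod.natCast_eq_zero_iff]
      push_cast
      rw [ZMod.natCast_zmod_val, mul_assoc, hz, mul_one, neg_add_cancel]
    set x := D.a ^ k * D.b with hx
    have hxq : (x : G ⧸ N) = (D.b : G ⧸ N) := by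
      rw [hx, QuotientGroup.mk_mul, (QuotientGroup.eq_one_iff _).mpr (pow_mem (mem_zpowers D.a) k), one_mul]
    have hx1 : x ^ p ^ ν = 1 := by
      have h := powformula k 1 (p ^ ν)
      rw [pow_one, one_mul] at h
      rw [h, hw, ← pow_add, ← orderOf_dvd_iff_pow_eq_one, hμ, pow_one, he, hw',
        show k * (p ^ ν * e) + p ^ ν * w' = p ^ ν * (k * e + w') by ring]
      exact dvd_mul_of_dvd_right hk _
    have hxo : orderOf x = p ^ ν := by
      refine dvd_antisymm (orderOf_dvd_iff_pow_eq_one.mpr hx1) ?_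
      rw [← hν, ← hxq]
      exact orderOf_map_dvd (QuotientGroup.mk' N) x
    refine ⟨N, zpowers x, inferInstance, inferInstance,
      inf_zpowers_eq_bot N (by rw [hxo, hxq, hν]), ?_⟩
    rw [Nat.card_zpowers, Nat.card_zpowers, hxo, hμ, hG]
  · have hw0 : w ≠ 0 := fun h => hdiv (h ▸ dvd_zero _)
    obtain ⟨σ, u, hu, hwu⟩ := Nat.exists_eq_pow_mul_and_not_dvd hw0 p hp.out.ne_one
    have hσν : σ < ν := by
      by_contra h
      exact hdiv (hwu ▸ dvd_mul_of_dvd_left (pow_dvd_pow p (by omega)) u)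
    have hσμ : σ < μ := by
      have h1 : p ^ σ ≤ w := Nat.le_of_dvd (Nat.pos_of_ne_zero hw0) (hwu ▸ dvd_mul_right _ _)
      exact (Nat.pow_lt_pow_iff_right hp.out.one_lt).mp (h1.trans_lt (Nat.mod_lt _ hpos))
    set R := (D.c + 1) ^ p ^ (ν - σ)
    obtain ⟨k, hk⟩ := exists_split_exponent D.p_ne (R := R) (by rw [Nat.cast_pow, hr, one_pow]) hu σ (μ - σ)
    rw [Nat.add_sub_cancel' hσμ.le] at hk
    set j := p ^ (ν - σ) * k with hj
    set x := D.a * D.b ^ j with hx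
    have hjσ : j * p ^ σ = p ^ ν * k := by
      rw [hj, mul_right_comm, ← pow_add, Nat.sub_add_cancel hσν.le]
    have hx1 : x ^ p ^ σ = 1 := by
      have h := powformula 1 j (p ^ σ)
      rw [pow_one, one_mul] at h
      rw [h, hjσ, pow_mul D.b (p ^ ν) k, hw, ← pow_mul, ← pow_add, ← orderOf_dvd_iff_pow_eq_one, hμ,
        hwu, hj, pow_mul]
      exact hk
    have hbo : orderOf D.b = p ^ (ν + (μ - σ)) := by
      have h1 : orderOf (D.b ^ p ^ ν) = p ^ (μ - σ) := by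
        rw [hw, hwu, pow_mul, Nat.Coprime.orderOf_pow, orderOf_pow' _ (pow_ne_zero _ hp.out.ne_zero),
          hμ, Nat.gcd_eq_right (pow_dvd_pow p hσμ.le), Nat.pow_div hσμ.le hp.out.pos]
        · rw [orderOf_pow' _ (pow_ne_zero _ hp.out.ne_zero), hμ, Nat.gcd_eq_right (pow_dvd_pow p hσμ.le),
            Nat.pow_div hσμ.le hp.out.pos]
          exact ((hp.out.coprime_iff_not_dvd).mpr hu).pow_left _
      have h2 : p ^ ν ∣ orderOf D.b := hν ▸ orderOf_map_dvd (QuotientGroup.mk' N) D.b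
      rw [orderOf_pow' _ (pow_ne_zero _ hp.out.ne_zero), Nat.gcd_eq_right h2] at h1
      rw [pow_add, ← h1, Nat.mul_div_cancel' h2]
    have hab : ∀ t : ℕ, D.a ^ t ∈ zpowers D.b → p ^ σ ∣ t := by
      intro t ht
      obtain ⟨l, hl⟩ := mem_powers_iff_mem_zpowers.mpr ht
      simp only at hl
      have hlN : ((D.b : G ⧸ N)) ^ l = 1 := by
        rw [← QuotientGroup.mk_pow, hl, QuotientGroup.eq_one_iff]
        exact pow_mem (mem_zpowers _) _
      rw [← orderOf_dvd_iff_pow_eq_one, hν] at hlN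
      obtain ⟨l', rfl⟩ := hlN
      rw [pow_mul, hw, ← pow_mul, pow_eq_pow_iff_modEq, hμ] at hl
      exact (Nat.ModEq.dvd_iff hl (pow_dvd_pow p hσμ.le)).mp
        (dvd_mul_of_dvd_left (hwu ▸ dvd_mul_right _ _) _)
    have hord : ∀ t : ℕ, x ^ t ∈ zpowers D.b → p ^ σ ∣ t := by
      intro t ht
      have h := powformula 1 j t
      rw [pow_one, one_mul] at h
      have h2 : D.a ^ geo ((D.c + 1) ^ j) t ∈ zpowers D.b := by
        have := mul_mem ht (inv_mem (pow_mem (mem_zpowers D.b) (j * t)))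
        rwa [h, mul_inv_cancel_right] at this
      exact (dvd_geo_iff D.p_ne σ _ t (by rw [Nat.cast_pow, hr, one_pow])).mp (hab _ h2)
    have hxo : orderOf x = p ^ σ := dvd_antisymm (orderOf_dvd_iff_pow_eq_one.mpr hx1)
      (hord _ (by rw [pow_orderOf_eq_one]; exact one_mem _))
    refine ⟨zpowers x, zpowers D.b, inferInstance, inferInstance, ?_, ?_⟩
    · rw [eq_bot_iff]
      rintro z ⟨hzx, hzb⟩
      obtain ⟨t, rfl⟩ := mem_powers_iff_mem_zpowers.mpr hzx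
      rw [mem_bot]
      simp only
      rw [← orderOf_dvd_iff_pow_eq_one, hxo]
      exact hord t hzb
    · rw [Nat.card_zpowers, Nat.card_zpowers, hxo, hbo, hG, ← pow_add, ← pow_add]
      congr 1
      omega

end Cfsg.Agent.H73
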