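import Mathlib
import Cfsg.Agent.H24.Nilp

/-!
Minimal covers: two members never lie in one proper subgroup.
Nilpotent groups: central elements of each prime order dividing the order.
-/

set_option autoImplicit false

namespace Cfsg.Agent.H73

/-- A finite cover by proper subgroups. -/
def IsCov {G : Type*} [Group G] (A : Finset (Subgroup G)) : Prop :=
  (∀ H ∈ A, H ≠ ⊤) ∧ ∀ g : G, ∃ H ∈ A, g ∈ H

theorem IsCov.two_in_one {G : Type*} [Group G] {𝓐 : Finset (Subgroup G)} (h : IsCov 𝓐)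
    (hmin : ∀ 𝓑 : Finset (Subgroup G), IsCov 𝓑 → 𝓐.card ≤ 𝓑.card) {A B M : Subgroup G}
    (hA : A ∈ 𝓐) (hB : B ∈ 𝓐) (hne : A ≠ B) (hAM : A ≤ M) (hBM : B ≤ M) (hM : M ≠ ⊤) : False := by
  classical
  have hcov : IsCov (insert M ((𝓐.erase A).erase B)) := by
    refine ⟨fun H hH => ?_, fun g => ?_⟩
    · rcases Finset.mem_insert.mp hH with rfl | hH
      · exact hM
      · exact h.1 H (Finset.mem_of_mem_erase (Finset.mem_of_mem_erase hH))
    · obtain ⟨H, hH, hg⟩ := h.2 g
      by_cases h1 : H = A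
      · exact ⟨M, Finset.mem_insert_self _ _, hAM (h1 ▸ hg)⟩
      by_cases h2 : H = B
      · exact ⟨M, Finset.mem_insert_self _ _, hBM (h2 ▸ hg)⟩
      exact ⟨H, Finset.mem_insert_of_mem
        (Finset.mem_erase.mpr ⟨h2, Finset.mem_erase.mpr ⟨h1, hH⟩⟩), hg⟩
  have h3 := hmin _ hcov
  have h4 := Finset.card_insert_le M ((𝓐.erase A).erase B)
  have hB' : B ∈ 𝓐.erase A := Finset.mem_erase.mpr ⟨hne.symm, hB⟩
  have h5 := Finset.card_erase_add_one hB'
  have h6 := Finset.card_erase_add_one hA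
  omega

/-- A finite nilpotent group with an element of prime order `r` has a central one. -/
theorem exists_central_orderOf {N : Type*} [Group N] [Finite N] (hN : Group.IsNilpotent N) {r : ℕ}
    [Fact r.Prime] {x : N} (hx : orderOf x = r) :
    ∃ z ∈ Subgroup.center N, orderOf z = r := by
  obtain ⟨P, hP⟩ := (IsPGroup.of_card (n := 1) (by rw [pow_one, Nat.card_zpowers, hx]) :
    IsPGroup r (Subgroup.zpowers x)).exists_le_sylow
  have : (P : Subgroup N).Normal :=
    ((Group.isNilpotent_of_finite_tfae (G := N)).out 0 3 rfl rfl).mp hN r inferInstance P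
  have hne : (P : Subgroup N) ≠ ⊥ := fun hb => by
    have h1 : x = 1 := by
      have := hP (Subgroup.mem_zpowers x)
      rwa [hb, Subgroup.mem_bot] at this
    rw [h1, orderOf_one] at hx
    exact (Fact.out : r.Prime).one_lt.ne hx
  have := hN
  obtain ⟨z, hz⟩ := Subgroup.ne_bot_iff_exists_ne_one.mp (H24.inf_center_ne_bot _ hne)
  obtain ⟨k, hk⟩ := IsPGroup.iff_orderOf.mp P.isPGroup' ⟨z.1, z.2.1⟩
  rw [Subgroup.orderOf_mk] at hk
  have hk0 : k ≠ 0 := fun h0 => by
    rw [h0, pow_zero, orderOf_eq_one_iff] at hk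
    exact hz (Subtype.ext hk)
  refine ⟨(z : N) ^ r ^ (k - 1), Subgroup.pow_mem _ z.2.2 _, ?_⟩
  rw [orderOf_pow_of_dvd (pow_ne_zero _ (Fact.out : r.Prime).ne_zero)
    (hk ▸ pow_dvd_pow r (by omega)), hk, Nat.pow_div (by omega) (Fact.out : r.Prime).pos]
  conv_rhs => rw [← pow_one r]
  congr 1
  omega

end Cfsg.Agent.H73
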