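import Cfsg.Agent.H73.NilCover
import Cfsg.Agent.Linear.Unitriangular

/-!
Nilpotent subgroups of a projective general linear group: preimages, fixed vectors of the
p-elements, line stabilisers; no two members of a minimal cover for degree at least three.
-/

set_option autoImplicit false

namespace Cfsg.Agent.H73

open Matrix

variable {F : Type*} [Field F] {n : ℕ}

/-- GL modulo its centre. -/
abbrev PGLq (n : ℕ) (F : Type*) [Field F] := GL (Fin n) F ⧸ Subgroup.center (GL (Fin n) F)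

/-- The projection. -/
abbrev projq (n : ℕ) (F : Type*) [Field F] : GL (Fin n) F →* PGLq n F :=
  QuotientGroup.mk' (Subgroup.center (GL (Fin n) F))

/-- The image of SL in GL. -/
abbrev slRange (n : ℕ) (F : Type*) [Field F] : Subgroup (GL (Fin n) F) :=
  (Matrix.SpecialLinearGroup.toGL : Matrix.SpecialLinearGroup (Fin n) F →* GL (Fin n) F).range

/-- An element of SL as element of GL. -/
def slElt (A : Matrix (Fin n) (Fin n) F) (h : A.det = 1) : GL (Fin n) F :=
  Matrix.SpecialLinearGroup.toGL ⟨A, h⟩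

theorem slElt_mem (A : Matrix (Fin n) (Fin n) F) (h : A.det = 1) : slElt A h ∈ slRange n F :=
  ⟨_, rfl⟩

@[simp] theorem slElt_val (A : Matrix (Fin n) (Fin n) F) (h : A.det = 1) :
    ((slElt A h : GL (Fin n) F) : Matrix (Fin n) (Fin n) F) = A := rfl

variable (G : Subgroup (PGLq n F))

/-- The preimage in GL of a subgroup of `G`. -/
def preImg (A : Subgroup G) : Subgroup (GL (Fin n) F) := (A.map G.subtype).comap (projq n F)

/-- The subgroup of `G` covered by a subgroup of GL. -/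
def imgIn (K : Subgroup (GL (Fin n) F)) : Subgroup G := (K.map (projq n F)).subgroupOf G

variable {G}

theorem mem_preImg {A : Subgroup G} {g : GL (Fin n) F} :
    g ∈ preImg G A ↔ ∃ h : projq n F g ∈ G, (⟨_, h⟩ : G) ∈ A := by
  simp [preImg]

theorem le_imgIn {A : Subgroup G} {K : Subgroup (GL (Fin n) F)} (h : preImg G A ≤ K) :
    A ≤ imgIn G K := by
  intro a ha
  obtain ⟨g, hg⟩ := QuotientGroup.mk'_surjective _ (a : PGLq n F)
  refine ⟨g, h ⟨a, ha, hg.symm⟩, hg⟩

theorem imgIn_ne_top (hG : (slRange n F).map (projq n F) ≤ G) {K : Subgroup (GL (Fin n) F)}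
    (hZ : Subgroup.center (GL (Fin n) F) ≤ K) {s : GL (Fin n) F} (hs : s ∈ slRange n F)
    (hsK : s ∉ K) : imgIn G K ≠ ⊤ := by
  intro htop
  have hm : (⟨projq n F s, hG ⟨s, hs, rfl⟩⟩ : G) ∈ imgIn G K := htop ▸ Subgroup.mem_top _
  have hm' : s ∈ (K.map (projq n F)).comap (projq n F) := hm
  rw [Subgroup.comap_map_eq_self (by rw [QuotientGroup.ker_mk']; exact hZ)] at hm'
  exact hsK hm'

theorem exists_mem_preImg {𝓐 : Finset (Subgroup G)} (h : IsCov 𝓐)
    (hG : (slRange n F).map (projq n F) ≤ G) {s : GL (Fin n) F} (hs : s ∈ slRange n F) :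
    ∃ A ∈ 𝓐, s ∈ preImg G A := by
  obtain ⟨A, hA, hg⟩ := h.2 ⟨projq n F s, hG ⟨s, hs, rfl⟩⟩
  exact ⟨A, hA, mem_preImg.mpr ⟨_, hg⟩⟩

theorem isNilpotent_preImg {A : Subgroup G} (hA : Group.IsNilpotent A) :
    Group.IsNilpotent (preImg G A) := by
  let f : preImg G A →* A :=
    { toFun := fun g => ⟨⟨projq n F g, (mem_preImg.mp g.2).1⟩, (mem_preImg.mp g.2).2⟩
      map_one' := by ext; simp
      map_mul' := fun g h => by ext; simp }
  haveI := hA
  refine Subgroup.isNilpotent_of_ker_le_center f ?_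
  intro g hg
  have hg' : projq n F g = 1 := congrArg (fun a : A => ((a : G) : PGLq n F)) (MonoidHom.mem_ker.mp hg)
  rw [QuotientGroup.mk'_apply, QuotientGroup.eq_one_iff] at hg'
  exact Subgroup.mem_center_iff.mpr fun h => Subtype.ext (Subgroup.mem_center_iff.mp hg' h)

variable [Fintype F]

theorem exists_fixed_vec (p : ℕ) [Fact p.Prime] [CharP F p] (hn : n ≠ 0)
    {S : Subgroup (GL (Fin n) F)} (hS : IsPGroup p S) :
    (∃ v : Fin n → F, v ≠ 0 ∧ ∀ s ∈ S, (s : Matrix (Fin n) (Fin n) F) *ᵥ v = v) ∧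
    (∃ v : Fin n → F, v ≠ 0 ∧ ∀ s ∈ S, v ᵥ* (s : Matrix (Fin n) (Fin n) F) = v) := by
  have hdvd : p ∣ Nat.card (Fin n → F) := by
    obtain ⟨k, -, hk⟩ := FiniteField.card F p
    rw [Nat.card_fun, Nat.card_fin, Nat.card_eq_fintype_card, hk, ← pow_mul]
    exact dvd_pow_self p (Nat.mul_ne_zero k.ne_zero hn)
  constructor
  · let _ : MulAction S (Fin n → F) :=
      { smul := fun s v => ((s : GL (Fin n) F) : Matrix (Fin n) (Fin n) F) *ᵥ v
        one_smul := fun v => Matrix.one_mulVec v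
        mul_smul := fun s t v => (Matrix.mulVec_mulVec v _ _).symm }
    obtain ⟨v, hv, hv0⟩ := hS.exists_fixed_point_of_prime_dvd_card_of_fixed_point (Fin n → F) hdvd
      (a := 0) (fun s => Matrix.mulVec_zero _)
    exact ⟨v, hv0.symm, fun s hs => hv ⟨s, hs⟩⟩
  · let _ : MulAction S (Fin n → F) :=
      { smul := fun s v => v ᵥ* (((s : GL (Fin n) F)⁻¹ : GL (Fin n) F) : Matrix (Fin n) (Fin n) F)
        one_smul := fun v => by
          change v ᵥ* (((1 : S) : GL (Fin n) F)⁻¹ : GL (Fin n) F).val = v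
          simp
        mul_smul := fun s t v => by
          change v ᵥ* (((s * t : S) : GL (Fin n) F)⁻¹ : GL (Fin n) F).val =
            (v ᵥ* ((t : GL (Fin n) F)⁻¹ : GL (Fin n) F).val) ᵥ* ((s : GL (Fin n) F)⁻¹ : GL (Fin n) F).val
          rw [Matrix.vecMul_vecMul, Subgroup.coe_mul, _root_.mul_inv_rev, Units.val_mul] }
    obtain ⟨v, hv, hv0⟩ := hS.exists_fixed_point_of_prime_dvd_card_of_fixed_point (Fin n → F) hdvd
      (a := 0) (fun s => Matrix.zero_vecMul _)
    refine ⟨v, hv0.symm, fun s hs => ?_⟩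
    have h := hv ⟨s⁻¹, S.inv_mem hs⟩
    change v ᵥ* ((s⁻¹)⁻¹ : GL (Fin n) F).val = v at h
    rwa [inv_inv] at h

/-- The p-elements of a nilpotent subgroup of GL_n fix a common vector, mapped to such vectors by
the whole subgroup; also a common covector. -/
theorem exists_common_fixed (p : ℕ) [Fact p.Prime] [CharP F p] (hn : n ≠ 0)
    {H : Subgroup (GL (Fin n) F)} (hH : Group.IsNilpotent H) :
    (∃ v : Fin n → F, v ≠ 0 ∧ ∀ h ∈ H, ∀ u ∈ H, (∃ k : ℕ, u ^ p ^ k = 1) →
      (u : Matrix (Fin n) (Fin n) F) *ᵥ ((h : Matrix (Fin n) (Fin n) F) *ᵥ v) =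
        (h : Matrix (Fin n) (Fin n) F) *ᵥ v) ∧
    (∃ v : Fin n → F, v ≠ 0 ∧ ∀ u ∈ H, (∃ k : ℕ, u ^ p ^ k = 1) →
      v ᵥ* (u : Matrix (Fin n) (Fin n) F) = v) := by
  let P : Sylow p H := Classical.arbitrary _
  have hPn : (P : Subgroup H).Normal :=
    ((Group.isNilpotent_of_finite_tfae (G := H)).out 0 3 rfl rfl).mp hH p inferInstance P
  have : Unique (Sylow p H) := Sylow.unique_of_normal P hPn
  have hmem : ∀ u ∈ H, (∃ k : ℕ, u ^ p ^ k = 1) → u ∈ (P : Subgroup H).map H.subtype := by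
    rintro u hu ⟨k, hk⟩
    have hp : IsPGroup p (Subgroup.zpowers (⟨u, hu⟩ : H)) := by
      rintro ⟨x, j, rfl⟩
      refine ⟨k, Subtype.ext ?_⟩
      have hk' : (⟨u, hu⟩ : H) ^ p ^ k = 1 := Subtype.ext hk
      change ((⟨u, hu⟩ : H) ^ j) ^ p ^ k = 1
      rw [← zpow_natCast, ← _root_.zpow_mul, mul_comm, _root_.zpow_mul, zpow_natCast, hk', _root_.one_zpow]
    obtain ⟨Q, hQ⟩ := hp.exists_le_sylow
    rw [Subsingleton.elim Q P] at hQ
    exact ⟨⟨u, hu⟩, hQ (Subgroup.mem_zpowers _), rfl⟩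
  obtain ⟨⟨v, hv0, hv⟩, ⟨f, hf0, hf⟩⟩ := exists_fixed_vec p hn
    (P.isPGroup'.map H.subtype)
  refine ⟨⟨v, hv0, fun h hh u hu hk => ?_⟩, ⟨f, hf0, fun u hu hk => hf u (hmem u hu hk)⟩⟩
  obtain ⟨k, hk⟩ := hk
  have h1 := hv _ (hmem (h⁻¹ * u * h) (H.mul_mem (H.mul_mem (H.inv_mem hh) hu) hh) ⟨k, by
    have e : h⁻¹ * u * h = MulAut.conj h⁻¹ u := by simp
    rw [e, ← map_pow, hk, map_one]⟩)
  have h2 : (h : Matrix (Fin n) (Fin n) F) *
      ((h⁻¹ * u * h : GL (Fin n) F) : Matrix (Fin n) (Fin n) F) =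
      (u : Matrix (Fin n) (Fin n) F) * (h : Matrix (Fin n) (Fin n) F) := by
    rw [← Units.val_mul, ← Units.val_mul]
    exact congrArg Units.val (by group)
  rw [Matrix.mulVec_mulVec, ← h2, ← Matrix.mulVec_mulVec, h1]

/-- The stabiliser of the line through `v`. -/
def lineStab (v : Fin n → F) : Subgroup (GL (Fin n) F) where
  carrier := {g | ∃ c : F, (g : Matrix (Fin n) (Fin n) F) *ᵥ v = c • v}
  one_mem' := ⟨1, by simp⟩
  mul_mem' := by
    rintro a b ⟨c, hc⟩ ⟨d, hd⟩
    exact ⟨d * c, by rw [Units.val_mul, ← Matrix.mulVec_mulVec, hd, Matrix.mulVec_smul, hc, smul_smul]⟩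
  inv_mem' := by
    rintro a ⟨c, hc⟩
    refine ⟨c⁻¹, ?_⟩
    have h1 : v = c • (((a⁻¹ : GL (Fin n) F) : Matrix (Fin n) (Fin n) F) *ᵥ v) := by
      rw [← Matrix.mulVec_smul, ← hc, Matrix.mulVec_mulVec, ← Units.val_mul, inv_mul_cancel,
        Units.val_one, Matrix.one_mulVec]
    rcases eq_or_ne c 0 with rfl | hc0
    · rw [zero_smul] at h1
      simp [h1]
    · conv_rhs => rw [h1, inv_smul_smul₀ hc0]

omit [Fintype F] in
theorem center_le_lineStab (v : Fin n → F) : Subgroup.center (GL (Fin n) F) ≤ lineStab v := by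
  intro g hg
  obtain ⟨c, hc⟩ := Matrix.GeneralLinearGroup.mem_center_iff_val_mem_range_scalar.mp hg
  refine ⟨c, ?_⟩
  rw [← hc]
  ext i
  simp [Matrix.mulVec_diagonal]

/-- A nilpotent subgroup containing a p-element fixing only the line through `v` stabilises it. -/
theorem le_lineStab (p : ℕ) [Fact p.Prime] [CharP F p] (hn : n ≠ 0)
    {H : Subgroup (GL (Fin n) F)} (hH : Group.IsNilpotent H) {u : GL (Fin n) F} (hu : u ∈ H)
    (hk : ∃ k : ℕ, u ^ p ^ k = 1) {v : Fin n → F}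
    (hker : ∀ w, (u : Matrix (Fin n) (Fin n) F) *ᵥ w = w → ∃ c : F, w = c • v) :
    H ≤ lineStab v := by
  obtain ⟨⟨w, hw0, hw⟩, -⟩ := exists_common_fixed p hn hH
  have hw1 := hw 1 H.one_mem u hu hk
  simp only [Units.val_one, Matrix.one_mulVec] at hw1
  obtain ⟨c, rfl⟩ := hker w hw1
  have hc : c ≠ 0 := fun h => hw0 (by simp [h])
  intro h hh
  obtain ⟨d, hd⟩ := hker _ (hw h hh u hu hk)
  refine ⟨c⁻¹ * d, ?_⟩
  rw [← smul_smul, ← hd, Matrix.mulVec_smul, inv_smul_smul₀ hc]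

/-- The strictly upper shift. -/
def shiftM (n : ℕ) (F : Type*) [Field F] : Matrix (Fin n) (Fin n) F :=
  Matrix.of fun i j => if i.val + 1 = j.val then 1 else 0

omit [Fintype F] in
theorem shiftM_mulVec (v : Fin n → F) (i j : Fin n) (h : i.val + 1 = j.val) :
    (shiftM n F *ᵥ v) i = v j := by
  rw [Matrix.mulVec, dotProduct, Finset.sum_eq_single j]
  · simp [shiftM, h]
  · intro k _ hk
    have : i.val + 1 ≠ k.val := fun e => hk (Fin.ext (by omega))
    simp [shiftM, this]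
  · exact fun e => absurd (Finset.mem_univ j) e

omit [Fintype F] in
theorem vecMul_shiftM (v : Fin n → F) (i j : Fin n) (h : i.val + 1 = j.val) :
    (v ᵥ* shiftM n F) j = v i := by
  rw [Matrix.vecMul, dotProduct, Finset.sum_eq_single i]
  · simp [shiftM, h]
  · intro k _ hk
    have : k.val + 1 ≠ j.val := fun e => hk (Fin.ext (by omega))
    simp [shiftM, this]
  · exact fun e => absurd (Finset.mem_univ i) e

omit [Fintype F] in
theorem shift_triangular :
    (1 + shiftM n F).BlockTriangular id ∧ ∀ i, (1 + shiftM n F) i i = 1 := by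
  refine ⟨fun i j (hij : j < i) => ?_, fun i => by simp [shiftM]⟩
  have : i.val + 1 ≠ j.val := by have : j.val < i.val := hij; omega
  simp [shiftM, Matrix.one_apply, hij.ne', this]

/-- No minimal nilpotent cover between PSL and PGL in degree at least three. -/
theorem no_cover_three (hn : 3 ≤ n) (hG : (slRange n F).map (projq n F) ≤ G)
    {𝓐 : Finset (Subgroup G)} (hcov : IsCov 𝓐)
    (hmin : ∀ 𝓑 : Finset (Subgroup G), IsCov 𝓑 → 𝓐.card ≤ 𝓑.card)
    (hnil : ∀ A ∈ 𝓐, Group.IsNilpotent A) : False := by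
  obtain ⟨p, hp⟩ := CharP.exists F
  have hpr : Fact p.Prime := ⟨CharP.char_is_prime F p⟩
  let i0 : Fin n := ⟨0, by omega⟩
  let i1 : Fin n := ⟨1, by omega⟩
  let il : Fin n := ⟨n - 1, by omega⟩
  have h1l : i1 ≠ il := fun h => by have := congrArg Fin.val h; simp [i1, il] at this; omega
  have h0l : il ≠ i0 := fun h => by have := congrArg Fin.val h; simp [i0, il] at this; omega
  have h10 : i1 ≠ i0 := fun h => by simp [i0, i1] at h
  obtain ⟨hbt, hdg⟩ := shift_triangular (n := n) (F := F)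
  set u := slElt (1 + shiftM n F)
    (by rw [Linear.blockTriangular_det hbt]; simp [hdg]) with hu
  set g := slElt (Matrix.transvection il i1 (1 : F))
    (Matrix.det_transvection_of_ne il i1 h1l.symm 1) with hg
  have huk : ∃ k : ℕ, u ^ p ^ k = 1 := by
    obtain ⟨k, hk⟩ := Linear.isPGroup_unitriGL (n := n) (F := F) p ⟨u, hbt, hdg⟩
    exact ⟨k, congrArg Subtype.val hk⟩
  have hu'k : ∃ k : ℕ, (g * u * g⁻¹) ^ p ^ k = 1 := by
    obtain ⟨k, hk⟩ := huk
    exact ⟨k, by rw [conj_pow, hk, mul_one, mul_inv_cancel]⟩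
  let e0 : Fin n → F := Pi.single i0 1
  have hker : ∀ w, (u : Matrix (Fin n) (Fin n) F) *ᵥ w = w → ∃ c : F, w = c • e0 := by
    intro w hw
    rw [hu, slElt_val, Matrix.add_mulVec, Matrix.one_mulVec, add_eq_left] at hw
    refine ⟨w i0, funext fun j => ?_⟩
    by_cases hj : j = i0
    · simp [hj, e0]
    · have hj' : j.val ≠ 0 := fun h => hj (Fin.ext h)
      have := shiftM_mulVec w ⟨j.val - 1, by omega⟩ j (by simp; omega)
      rw [hw] at this
      simp [e0, hj, ← this]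
  have hge : (g : Matrix (Fin n) (Fin n) F) *ᵥ e0 = e0 := by
    rw [hg, slElt_val, Matrix.transvection, Matrix.add_mulVec, Matrix.one_mulVec]
    ext j
    simp [e0, Matrix.mulVec_single_one, Matrix.single_apply, h10]
  have hker' : ∀ w, ((g * u * g⁻¹ : GL (Fin n) F) : Matrix (Fin n) (Fin n) F) *ᵥ w = w →
      ∃ c : F, w = c • e0 := by
    intro w hw
    set x := ((g⁻¹ : GL (Fin n) F) : Matrix (Fin n) (Fin n) F) *ᵥ w with hx
    have hwx : (g : Matrix (Fin n) (Fin n) F) *ᵥ x = w := by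
      rw [hx, Matrix.mulVec_mulVec, ← Units.val_mul, mul_inv_cancel, Units.val_one,
        Matrix.one_mulVec]
    have h2 : (u : Matrix (Fin n) (Fin n) F) *ᵥ x = x := by
      conv_rhs => rw [hx, ← hw]
      rw [hx, Matrix.mulVec_mulVec, Matrix.mulVec_mulVec, ← Units.val_mul, ← Units.val_mul]
      congr 2
      group
    obtain ⟨c, hc⟩ := hker x h2
    exact ⟨c, by rw [← hwx, hc, Matrix.mulVec_smul, hge]⟩
  have hfk : ∀ f, f ᵥ* (u : Matrix (Fin n) (Fin n) F) = f → ∀ j, j ≠ il → f j = 0 := by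
    intro f hf j hj
    rw [hu, slElt_val, Matrix.vecMul_add, Matrix.vecMul_one, add_eq_left] at hf
    have hj' : j.val ≠ n - 1 := fun h => hj (Fin.ext h)
    have := vecMul_shiftM f j ⟨j.val + 1, by omega⟩ rfl
    rw [hf] at this
    simp [← this]
  have hus : u ∈ slRange n F := slElt_mem _ _
  have hgs : g ∈ slRange n F := slElt_mem _ _
  have hu's : g * u * g⁻¹ ∈ slRange n F :=
    Subgroup.mul_mem _ (Subgroup.mul_mem _ hgs hus) (Subgroup.inv_mem _ hgs)
  obtain ⟨A, hA, huA⟩ := exists_mem_preImg hcov hG hus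
  obtain ⟨B, hB, huB⟩ := exists_mem_preImg hcov hG hu's
  have hAH := isNilpotent_preImg (hnil A hA)
  have hBH := isNilpotent_preImg (hnil B hB)
  have hn0 : n ≠ 0 := by omega
  refine hcov.two_in_one hmin hA hB ?_ (le_imgIn (le_lineStab p hn0 hAH huA huk hker))
    (le_imgIn (le_lineStab p hn0 hBH huB hu'k hker'))
    (imgIn_ne_top hG (center_le_lineStab e0)
      (slElt_mem (Matrix.transvection i1 i0 (1 : F)) (Matrix.det_transvection_of_ne i1 i0 h10 1)) ?_)
  · rintro rfl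
    obtain ⟨-, f, hf0, hf⟩ := exists_common_fixed p hn0 hAH
    have hfu := hf u huA huk
    have hfu' := hf _ huB hu'k
    have h3 : (f ᵥ* (g : Matrix (Fin n) (Fin n) F)) ᵥ* (u : Matrix (Fin n) (Fin n) F) =
        f ᵥ* (g : Matrix (Fin n) (Fin n) F) := by
      conv_rhs => rw [← hfu']
      rw [Matrix.vecMul_vecMul, Matrix.vecMul_vecMul, ← Units.val_mul, ← Units.val_mul]
      congr 2
      group
    have h4 := hfk f hfu
    have h5 := hfk _ h3 i1 h1l
    rw [hg, slElt_val, Matrix.transvection, Matrix.vecMul_add, Matrix.vecMul_one, Pi.add_apply,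
      h4 i1 h1l, zero_add] at h5
    have h6 : (f ᵥ* Matrix.single il i1 (1 : F)) i1 = f il := by
      rw [Matrix.vecMul, dotProduct, Finset.sum_eq_single il]
      · simp
      · intro k _ hk; simp [h4 k hk]
      · exact fun e => absurd (Finset.mem_univ il) e
    rw [h6] at h5
    refine hf0 (funext fun j => ?_)
    by_cases hj : j = il
    · simpa [hj] using h5
    · exact h4 j hj
  · rintro ⟨c, hc⟩
    have := congrFun hc i1
    rw [slElt_val, Matrix.transvection, Matrix.add_mulVec, Matrix.one_mulVec] at this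
    simp [e0, Matrix.mulVec_single_one, h10] at this

end Cfsg.Agent.H73
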