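import Cfsg.Agent.H73.NilCoverPGL
import Cfsg.Agent.Linear.TwoGL
import Cfsg.Agent.H41.Nilpotent

/-!
No minimal nilpotent cover between PSL and PGL in degree two.
-/

set_option autoImplicit false
set_option linter.unusedSectionVars false

namespace Cfsg.Agent.H73

open Matrix

variable {F : Type*} [Field F] [Fintype F]

local notation "M2" => Matrix (Fin 2) (Fin 2) F

theorem commute_of_coprime_mem {H : Subgroup (GL (Fin 2) F)} (hH : Group.IsNilpotent H)
    {x y : GL (Fin 2) F} (hx : x ∈ H) (hy : y ∈ H) (h : (orderOf x).Coprime (orderOf y)) :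
    Commute x y :=
  congrArg Subtype.val (H41.commute_of_coprime_orderOf hH
    (x := (⟨x, hx⟩ : H)) (y := (⟨y, hy⟩ : H)) (by simpa [Subgroup.orderOf_mk] using h)).eq

/-- An element of determinant one with a fixed vector has order dividing the characteristic. -/
theorem pow_char_eq_one {p : ℕ} [Fact p.Prime] [CharP F p] {g : GL (Fin 2) F}
    (hd : (g : M2).det = 1) {v : Fin 2 → F} (hv : v ≠ 0) (hfix : (g : M2) *ᵥ v = v) :
    g ^ p = 1 := by
  have h0 : ((g : M2) - 1).det = 0 :=
    Matrix.exists_mulVec_eq_zero_iff.mp ⟨v, hv, by rw [Matrix.sub_mulVec, hfix, Matrix.one_mulVec, sub_self]⟩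
  have hsq : ((g : M2) - 1) ^ 2 = 0 := by
    rw [Matrix.det_fin_two] at h0 hd
    simp only [Matrix.sub_apply, Matrix.one_apply_eq, Fin.isValue, ne_eq, zero_ne_one, one_ne_zero,
      not_false_eq_true, Matrix.one_apply_ne, sub_zero] at h0
    rw [sq]
    apply Linear.ext_two <;> simp [Linear.mul_two_apply]
    · linear_combination ((g : M2) 0 0 - 1) * (-h0 + hd) - h0
    · linear_combination (g : M2) 0 1 * (-h0 + hd)
    · linear_combination (g : M2) 1 0 * (-h0 + hd)
    · linear_combination ((g : M2) 1 1 - 1) * (-h0 + hd) - h0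
  have hp2 : ((g : M2) - 1) ^ p = 0 := pow_eq_zero_of_le (Fact.out : p.Prime).two_le hsq
  rw [sub_pow_char_of_commute p (Commute.one_right _), one_pow, sub_eq_zero] at hp2
  exact Units.ext (by rw [Units.val_pow_eq_pow_val, hp2, Units.val_one])

theorem orderOf_dvd_sub_one {c : F} (hc : c ≠ 0) : orderOf c ∣ Fintype.card F - 1 :=
  orderOf_dvd_of_pow_eq_one (FiniteField.pow_card_sub_one_eq_one c hc)

theorem eq_one_of_pow_eq_one {r : ℕ} (hr : r.Coprime (Fintype.card F - 1)) (hr0 : r ≠ 0) {c : F}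
    (h : c ^ r = 1) : c = 1 := by
  have hc : c ≠ 0 := fun h0 => by simp [h0, zero_pow hr0] at h
  exact orderOf_eq_one_iff.mp (Nat.eq_one_of_dvd_coprimes hr (orderOf_dvd_of_pow_eq_one h)
    (orderOf_dvd_sub_one hc))

/-- The transvection fixing `v`. -/
def uMat (v : Fin 2 → F) : M2 := !![1 - v 0 * v 1, v 0 ^ 2; -v 1 ^ 2, 1 + v 0 * v 1]

theorem uMat_det (v : Fin 2 → F) : (uMat v).det = 1 := by
  rw [uMat, Matrix.det_fin_two_of]; ring

/-- The transvection fixing `v`, in GL. -/
def uVec (v : Fin 2 → F) : GL (Fin 2) F := slElt (uMat v) (uMat_det v)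

theorem uVec_fix (v : Fin 2 → F) : (uVec v : M2) *ᵥ v = v := by
  rw [uVec, slElt_val, uMat]
  ext i
  fin_cases i <;> simp [Matrix.mulVec, dotProduct, Fin.sum_univ_two] <;> ring

theorem uVec_pow {p : ℕ} [Fact p.Prime] [CharP F p] {v : Fin 2 → F} (hv : v ≠ 0) :
    uVec v ^ p = 1 :=
  pow_char_eq_one (by rw [uVec, slElt_val, uMat_det]) hv (uVec_fix v)

theorem orderOf_uVec {p : ℕ} [Fact p.Prime] [CharP F p] {v : Fin 2 → F} (hv : v ≠ 0) :
    orderOf (uVec v) ∣ p :=
  orderOf_dvd_of_pow_eq_one (uVec_pow hv)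

theorem uVec_ker {v : Fin 2 → F} (hv : v ≠ 0) {w : Fin 2 → F} (h : (uVec v : M2) *ᵥ w = w) :
    ∃ c : F, w = c • v := by
  rw [uVec, slElt_val, uMat] at h
  have h0 := congrFun h 0
  have h1 := congrFun h 1
  simp [Matrix.mulVec, dotProduct, Fin.sum_univ_two] at h0 h1
  by_cases ha : v 0 = 0
  · have hb : v 1 ≠ 0 := fun hb => hv (funext fun i => by fin_cases i <;> assumption)
    have hw : w 0 = 0 := by simpa [ha, hb] using h1
    refine ⟨w 1 / v 1, funext fun i => ?_⟩
    fin_cases i <;> simp [ha, hb, hw]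
  · have key : v 0 * w 1 = v 1 * w 0 := by
      apply mul_left_cancel₀ ha
      linear_combination h0
    refine ⟨w 0 / v 0, funext fun i => ?_⟩
    fin_cases i <;> simp [ha]
    field_simp
    linear_combination key

theorem uVec_mem_lineStab {v : Fin 2 → F} : uVec v ∈ lineStab v := ⟨1, by rw [uVec_fix, one_smul]⟩

theorem exists_sl_notMem_lineStab {v : Fin 2 → F} (hv : v ≠ 0) :
    ∃ s ∈ slRange 2 F, s ∉ lineStab v := by
  by_cases hb : v 1 = 0
  · have ha : v 0 ≠ 0 := fun ha => hv (funext fun i => by fin_cases i <;> assumption)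
    refine ⟨uVec ![0, 1], slElt_mem _ _, ?_⟩
    rintro ⟨c, hc⟩
    have h0 := congrFun hc 0
    have h1 := congrFun hc 1
    simp [uVec, uMat, Matrix.mulVec, dotProduct, Fin.sum_univ_two, hb, ha] at h0 h1
  · refine ⟨uVec ![1, 0], slElt_mem _ _, ?_⟩
    rintro ⟨c, hc⟩
    have h0 := congrFun hc 0
    have h1 := congrFun hc 1
    simp [uVec, uMat, Matrix.mulVec, dotProduct, Fin.sum_univ_two] at h0 h1
    have hc1 : c = 1 := by
      rw [eq_comm, mul_eq_right₀ hb] at h1
      exact h1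
    rw [hc1, one_mul, add_eq_left] at h0
    exact hb h0

variable {G : Subgroup (PGLq 2 F)}

/-- A diagonal element with ratio other than ±1 commutes projectively only with diagonal ones. -/
theorem diag_of_projq_commute {d x : GL (Fin 2) F} (h01 : (d : M2) 0 1 = 0) (h10 : (d : M2) 1 0 = 0)
    (hne : (d : M2) 0 0 ≠ (d : M2) 1 1) (hne' : (d : M2) 0 0 ≠ -(d : M2) 1 1)
    (h : projq 2 F (d * x) = projq 2 F (x * d)) : (x : M2) 0 1 = 0 ∧ (x : M2) 1 0 = 0 := by
  rw [QuotientGroup.mk'_apply, QuotientGroup.mk'_apply, QuotientGroup.eq] at h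
  obtain ⟨c, hc⟩ := Matrix.GeneralLinearGroup.mem_center_iff_val_mem_range_scalar.mp h
  have hx : (x : M2) * d = (c • (1 : M2)) * ((d : M2) * x) := by
    have e : x * d = d * x * ((d * x)⁻¹ * (x * d)) := by group
    have e' : (x : M2) * d = (d : M2) * x * (((d * x)⁻¹ * (x * d) : GL (Fin 2) F) : M2) := by
      have := congrArg Units.val e
      simpa only [Units.val_mul] using this
    rw [e', ← hc]
    simp [Matrix.scalar_apply, ← Matrix.smul_one_eq_diagonal]
  rw [smul_mul_assoc, one_mul] at hx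
  have e00 := congrFun (congrFun hx 0) 0
  have e01 := congrFun (congrFun hx 0) 1
  have e10 := congrFun (congrFun hx 1) 0
  have e11 := congrFun (congrFun hx 1) 1
  simp only [Linear.mul_two_apply, Matrix.smul_apply, smul_eq_mul, h01, h10, mul_zero, zero_mul,
    zero_add, add_zero] at e00 e01 e10 e11
  by_contra hno
  have hd0 : (d : M2) 0 0 ≠ 0 ∧ (d : M2) 1 1 ≠ 0 := by
    have := d.det.ne_zero
    simpa [Matrix.GeneralLinearGroup.val_det_apply, Matrix.det_fin_two, h01, h10] using this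
  rcases not_and_or.mp hno with hb | hb
  · have hbc : (d : M2) 1 1 = c * (d : M2) 0 0 := by
      apply mul_left_cancel₀ hb; linear_combination e01
    by_cases hg : (x : M2) 1 0 = 0
    · have hxd : (x : M2) 0 0 ≠ 0 := fun h0 => by
        have := x.det.ne_zero
        simp [Matrix.GeneralLinearGroup.val_det_apply, Matrix.det_fin_two, h0, hg] at this
      have : (d : M2) 0 0 = c * (d : M2) 0 0 := by
        apply mul_left_cancel₀ hxd; linear_combination e00
      exact hne (this.trans hbc.symm)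
    · have hac : (d : M2) 0 0 = c * (d : M2) 1 1 := by
        apply mul_left_cancel₀ hg; linear_combination e10
      have : ((d : M2) 0 0 - (d : M2) 1 1) * ((d : M2) 0 0 + (d : M2) 1 1) = 0 := by
        linear_combination (d : M2) 0 0 * hac - (d : M2) 1 1 * hbc
      rcases mul_eq_zero.mp this with h' | h'
      · exact hne (sub_eq_zero.mp h')
      · exact hne' (eq_neg_of_add_eq_zero_left h')
  · have hac : (d : M2) 0 0 = c * (d : M2) 1 1 := by
      apply mul_left_cancel₀ hb; linear_combination e10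
    by_cases hg : (x : M2) 0 1 = 0
    · have hxd : (x : M2) 1 1 ≠ 0 := fun h0 => by
        have := x.det.ne_zero
        simp [Matrix.GeneralLinearGroup.val_det_apply, Matrix.det_fin_two, h0, hg] at this
      have : (d : M2) 1 1 = c * (d : M2) 1 1 := by
        apply mul_left_cancel₀ hxd; linear_combination e11
      exact hne (hac.trans this.symm)
    · have hbc : (d : M2) 1 1 = c * (d : M2) 0 0 := by
        apply mul_left_cancel₀ hg; linear_combination e01
      have : ((d : M2) 0 0 - (d : M2) 1 1) * ((d : M2) 0 0 + (d : M2) 1 1) = 0 := by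
        linear_combination (d : M2) 0 0 * hac - (d : M2) 1 1 * hbc
      rcases mul_eq_zero.mp this with h' | h'
      · exact hne (sub_eq_zero.mp h')
      · exact hne' (eq_neg_of_add_eq_zero_left h')

/-- diag(a, a⁻¹). -/
def tEl (a : Fˣ) : GL (Fin 2) F :=
  slElt !![(a : F), 0; 0, ((a⁻¹ : Fˣ) : F)] (by simp [Matrix.det_fin_two_of])

theorem tEl_val (a : Fˣ) : (tEl a : M2) = !![(a : F), 0; 0, ((a⁻¹ : Fˣ) : F)] := rfl

theorem orderOf_tEl (a : Fˣ) : orderOf (tEl a) ∣ orderOf a := by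
  have h : ∀ k : ℕ, (tEl a : M2) ^ k = !![((a ^ k : Fˣ) : F), 0; 0, (((a⁻¹) ^ k : Fˣ) : F)] := by
    intro k
    induction k with
    | zero => simp [Matrix.one_fin_two]
    | succ k ih =>
      rw [pow_succ, ih, tEl_val]
      apply Linear.ext_two <;> simp [Linear.mul_two_apply, pow_succ]
  apply orderOf_dvd_of_pow_eq_one
  apply Units.ext
  rw [Units.val_pow_eq_pow_val, h, inv_pow, pow_orderOf_eq_one]
  simp [Matrix.one_fin_two]

theorem not_commute_tEl_uVec {a : Fˣ} (ha : (a : F) ≠ ((a⁻¹ : Fˣ) : F)) {v : Fin 2 → F}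
    (hv : v ≠ 0) : ¬ Commute (tEl a) (uVec v) := by
  intro h
  have h' : (tEl a : M2) * (uVec v : M2) = (uVec v : M2) * (tEl a : M2) := congrArg Units.val h.eq
  have e01 := congrFun (congrFun h' 0) 1
  have e10 := congrFun (congrFun h' 1) 0
  simp [tEl_val, uVec, uMat, Linear.mul_two_apply] at e01 e10
  have hsub : (a : F) - ((a⁻¹ : Fˣ) : F) ≠ 0 := sub_ne_zero.mpr ha
  rw [Units.val_inv_eq_inv_val] at hsub
  refine hv (funext fun i => ?_)
  fin_cases i
  · have : ((a : F) - (a : F)⁻¹) * v 0 ^ 2 = 0 := by linear_combination e01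
    simpa [hsub] using this
  · have : ((a : F) - (a : F)⁻¹) * v 1 ^ 2 = 0 := by linear_combination -e10
    simpa [hsub] using this

theorem one_ne (p : ℕ) [Fact p.Prime] [CharP F p] :
    (Fintype.card F - 1).Coprime p := by
  obtain ⟨k, -, hk⟩ := FiniteField.card F p
  refine ((Nat.Prime.coprime_iff_not_dvd Fact.out).mpr ?_).symm
  intro h
  have h1 : p ∣ Fintype.card F := hk ▸ dvd_pow_self p k.ne_zero
  have hpos : 0 < Fintype.card F := Fintype.card_pos
  have h2 : p ∣ Fintype.card F - (Fintype.card F - 1) := Nat.dvd_sub h1 h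
  rw [show Fintype.card F - (Fintype.card F - 1) = 1 by omega] at h2
  exact (Fact.out : p.Prime).one_lt.ne' (Nat.dvd_one.mp h2)

/-- An odd prime divides q - 1. -/
theorem no_cover_two_minus (hG : (slRange 2 F).map (projq 2 F) ≤ G)
    {𝓐 : Finset (Subgroup G)} (hcov : IsCov 𝓐)
    (hmin : ∀ 𝓑 : Finset (Subgroup G), IsCov 𝓑 → 𝓐.card ≤ 𝓑.card)
    (hnil : ∀ A ∈ 𝓐, Group.IsNilpotent A) {r : ℕ} [Fact r.Prime] (hr2 : r ≠ 2)
    (hr : r ∣ Fintype.card F - 1) : False := by
  classical
  obtain ⟨p, hp⟩ := CharP.exists F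
  have hpr : Fact p.Prime := ⟨CharP.char_is_prime F p⟩
  have hrp : r.Prime := Fact.out
  obtain ⟨a, ha⟩ := exists_prime_orderOf_dvd_card' (G := Fˣ) r
    (by rwa [Nat.card_units, Nat.card_eq_fintype_card])
  have hr3 : 3 ≤ r := by have := hrp.two_le; omega
  have ha2 : ∀ b : Fˣ, b ^ r = 1 → b ^ 2 = 1 → b = 1 := fun b h1 h2 => orderOf_eq_one_iff.mp
    (Nat.eq_one_of_dvd_coprimes ((Nat.coprime_primes hrp Nat.prime_two).mpr hr2)
      (orderOf_dvd_of_pow_eq_one h1) (orderOf_dvd_of_pow_eq_one h2))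
  have har : a ^ r = 1 := ha ▸ pow_orderOf_eq_one a
  have ha1 : a ≠ 1 := fun h => by rw [h, orderOf_one] at ha; omega
  have hne : (a : F) ≠ ((a⁻¹ : Fˣ) : F) := fun h => ha1 (ha2 a har (by
    rw [sq]; exact mul_eq_one_iff_eq_inv.mpr (Units.ext h)))
  have hne' : (a : F) ≠ -((a⁻¹ : Fˣ) : F) := fun h => by
    have h1 : a * a = -1 := by
      apply Units.ext
      rw [Units.val_mul, Units.val_neg, Units.val_one]
      nth_rewrite 2 [h]
      simp
    have h2 : (a ^ 2) ^ 2 = 1 := by rw [sq a, h1]; simp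
    exact ha1 (ha2 a har (ha2 _ (by rw [← pow_mul, mul_comm, pow_mul, har, one_pow]) h2))
  set e : Fin 2 → F := ![1, 0] with he
  have he0 : e ≠ 0 := fun h => by simpa [he] using congrFun h 0
  obtain ⟨A, hA, htA⟩ := exists_mem_preImg hcov hG (slElt_mem _ _ : tEl a ∈ slRange 2 F)
  obtain ⟨B, hB, huB⟩ := exists_mem_preImg hcov hG (slElt_mem _ _ : uVec e ∈ slRange 2 F)
  have hBH := isNilpotent_preImg (hnil B hB)
  have hAH := isNilpotent_preImg (hnil A hA)
  have htr : orderOf (tEl a) = r := by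
    refine ((Nat.dvd_prime hrp).mp (ha ▸ orderOf_tEl a)).resolve_left fun h => ?_
    have := congrFun (congrFun (congrArg (fun x : GL (Fin 2) F => (x : M2)) (orderOf_eq_one_iff.mp h)) 0) 0
    simp [tEl_val, Units.val_one, Matrix.one_apply_eq] at this
    exact ha1 this
  obtain ⟨s, hs, hsn⟩ := exists_sl_notMem_lineStab he0
  refine hcov.two_in_one hmin hA hB ?_ (le_imgIn ?_)
    (le_imgIn (le_lineStab p two_ne_zero hBH huB ⟨1, by rw [pow_one]; exact uVec_pow he0⟩
      fun w hw => uVec_ker he0 hw))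
    (imgIn_ne_top hG (center_le_lineStab e) hs hsn)
  · rintro rfl
    refine not_commute_tEl_uVec hne he0 (commute_of_coprime_mem hAH htA huB ?_)
    rw [htr]
    exact Nat.Coprime.coprime_dvd_right (orderOf_uVec he0)
      (Nat.Coprime.coprime_dvd_left hr (one_ne p))
  · -- the member of `tEl a` is diagonal
    obtain ⟨htG, htA'⟩ := mem_preImg.mp htA
    set T : A := ⟨⟨_, htG⟩, htA'⟩ with hT
    have hTr : orderOf T = r := by
      refine ((Nat.dvd_prime hrp).mp ?_).resolve_left fun h => ?_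
      · rw [← Subgroup.orderOf_coe, ← Subgroup.orderOf_coe]
        exact (orderOf_map_dvd _ _).trans htr.dvd
      · have h1 : projq 2 F (tEl a) = 1 :=
          congrArg (fun x : A => ((x : G) : PGLq 2 F)) (orderOf_eq_one_iff.mp h)
        rw [QuotientGroup.mk'_apply, QuotientGroup.eq_one_iff] at h1
        obtain ⟨c, hc⟩ := Matrix.GeneralLinearGroup.mem_center_iff_val_mem_range_scalar.mp h1
        have e0 := congrFun (congrFun hc 0) 0
        have e1 := congrFun (congrFun hc 1) 1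
        rw [tEl_val] at e0 e1
        simp at e0 e1
        exact hne (e0.symm.trans (e1.trans (Units.val_inv_eq_inv_val a).symm))
    obtain ⟨z, hzc, hzr⟩ := exists_central_orderOf (hnil A hA) hTr
    obtain ⟨z0, hz0⟩ := QuotientGroup.mk'_surjective _ ((z : G) : PGLq 2 F)
    have hcomm : ∀ x : A, ((z : G) : PGLq 2 F) * (x : G) = (x : G) * (z : G) := fun x =>
      congrArg (fun y : A => ((y : G) : PGLq 2 F)) (Subgroup.mem_center_iff.mp hzc x).symm
    have hzt : projq 2 F (tEl a * z0) = projq 2 F (z0 * tEl a) := by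
      rw [map_mul, map_mul, hz0]
      exact (hcomm T).symm
    obtain ⟨hz01, hz10⟩ := diag_of_projq_commute (by rw [tEl_val]; rfl) (by rw [tEl_val]; rfl)
      (by rw [tEl_val]; exact hne) (by rw [tEl_val]; exact hne') hzt
    have hzpow : ∀ k : ℕ, z0 ^ k ∈ Subgroup.center (GL (Fin 2) F) → r ∣ k := by
      intro k hk
      rw [← QuotientGroup.eq_one_iff, QuotientGroup.mk_pow] at hk
      rw [← hzr]
      refine orderOf_dvd_of_pow_eq_one (Subtype.ext (Subtype.ext ?_))
      change ((z : G) : PGLq 2 F) ^ k = 1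
      rw [← hz0]
      exact hk
    have hz00 : (z0 : M2) 0 0 ≠ (z0 : M2) 1 1 := fun h => by
      have : z0 ^ 1 ∈ Subgroup.center (GL (Fin 2) F) :=
        Matrix.GeneralLinearGroup.mem_center_iff_val_mem_range_scalar.mpr ⟨(z0 : M2) 0 0, by
          rw [pow_one]
          apply Linear.ext_two <;> simp [hz01, hz10, h]⟩
      have := hzpow 1 this
      rw [Nat.dvd_one] at this
      omega
    have hz00' : (z0 : M2) 0 0 ≠ -(z0 : M2) 1 1 := fun h => by
      have : z0 ^ 2 ∈ Subgroup.center (GL (Fin 2) F) :=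
        Matrix.GeneralLinearGroup.mem_center_iff_val_mem_range_scalar.mpr ⟨(z0 : M2) 0 0 ^ 2, by
          rw [Units.val_pow_eq_pow_val, sq (z0 : M2)]
          apply Linear.ext_two <;> simp [Linear.mul_two_apply, hz01, hz10, h, sq]⟩
      exact absurd (Nat.le_of_dvd two_pos (hzpow 2 this)) (by omega)
    intro x hx
    obtain ⟨hxG, hxA⟩ := mem_preImg.mp hx
    obtain ⟨-, hx10⟩ := diag_of_projq_commute (x := x) hz01 hz10 hz00 hz00' (by
      rw [map_mul, map_mul, hz0]; exact hcomm ⟨⟨_, hxG⟩, hxA⟩)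
    refine ⟨(x : M2) 0 0, funext fun i => ?_⟩
    fin_cases i <;> simp [he, Matrix.mulVec, dotProduct, Fin.sum_univ_two, hx10]

/-- An odd prime divides q + 1. -/
theorem no_cover_two_plus (hq : 4 ≤ Fintype.card F) (hG : (slRange 2 F).map (projq 2 F) ≤ G)
    {𝓐 : Finset (Subgroup G)} (hcov : IsCov 𝓐)
    (hmin : ∀ 𝓑 : Finset (Subgroup G), IsCov 𝓑 → 𝓐.card ≤ 𝓑.card)
    (hnil : ∀ A ∈ 𝓐, Group.IsNilpotent A) {r : ℕ} [Fact r.Prime] (hr2 : r ≠ 2)
    (hr : r ∣ Fintype.card F + 1) : False := by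
  classical
  obtain ⟨p, hp⟩ := CharP.exists F
  have hpr : Fact p.Prime := ⟨CharP.char_is_prime F p⟩
  have hrp : r.Prime := Fact.out
  have hrq : r.Coprime (Fintype.card F - 1) := (Nat.Prime.coprime_iff_not_dvd hrp).mpr fun h => hr2 <| by
    have h2 : r ∣ Fintype.card F + 1 - (Fintype.card F - 1) := Nat.dvd_sub hr h
    rw [show Fintype.card F + 1 - (Fintype.card F - 1) = 2 by omega] at h2
    exact (Nat.prime_dvd_prime_iff_eq hrp Nat.prime_two).mp h2
  have hrnp : r.Coprime p := (Nat.coprime_primes hrp Fact.out).mpr fun h => by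
    subst h
    obtain ⟨k, -, hk⟩ := FiniteField.card F r
    have h1 : r ∣ Fintype.card F := hk ▸ dvd_pow_self r k.ne_zero
    exact hrp.not_dvd_one ((Nat.dvd_add_right h1).mp hr)
  -- elements of order r and determinant one
  let Y : GL (Fin 2) F → Prop := fun y => orderOf y = r ∧ (y : M2).det = 1
  have hYsl : ∀ y, Y y → y ∈ slRange 2 F := fun y hy => ⟨⟨(y : M2), hy.2⟩, Units.ext rfl⟩
  have hYfix : ∀ y, Y y → ∀ (c : F) (v : Fin 2 → F), v ≠ 0 → (y : M2) *ᵥ v ≠ c • v := by
    intro y hy c v hv hyv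
    have hk : ∀ k : ℕ, (y : M2) ^ k *ᵥ v = c ^ k • v := by
      intro k
      induction k with
      | zero => simp
      | succ k ih => rw [pow_succ, ← Matrix.mulVec_mulVec, hyv, Matrix.mulVec_smul, ih, smul_smul,
          pow_succ, mul_comm]
    have h1 := hk r
    rw [← Units.val_pow_eq_pow_val, ← hy.1, pow_orderOf_eq_one, Units.val_one, Matrix.one_mulVec] at h1
    have hc : c ^ orderOf y = 1 := by
      obtain ⟨i, hi⟩ := Function.ne_iff.mp hv
      have h2 := congrFun h1 i
      rw [Pi.smul_apply, smul_eq_mul] at h2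
      exact (mul_eq_right₀ hi).mp h2.symm
    rw [hy.1] at hc
    rw [eq_one_of_pow_eq_one hrq hrp.ne_zero hc, one_smul] at hyv
    have h3 := Nat.eq_one_of_dvd_coprimes hrnp hy.1.dvd
      (orderOf_dvd_of_pow_eq_one (pow_char_eq_one (p := p) hy.2 hv hyv))
    rw [hy.1] at h3
    exact hrp.one_lt.ne' h3
  have hYns : ∀ y, Y y → ¬ Linear.IsScalarTwo (y : M2) := fun y hy hs => by
    obtain ⟨c, hc⟩ := Linear.isScalarTwo_iff.mp hs
    refine hYfix y hy c ![1, 0] (fun h => by simpa using congrFun h 0) ?_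
    rw [hc, Matrix.smul_mulVec, Matrix.one_mulVec]
  -- the two index sets
  let 𝓛 : Finset (Subgroup (GL (Fin 2) F)) :=
    ((Finset.univ : Finset (Fin 2 → F)).filter (fun v => v ≠ 0)).image lineStab
  let 𝒯 : Finset (Subgroup (GL (Fin 2) F)) :=
    ((Finset.univ : Finset (GL (Fin 2) F)).filter Y).image fun y => Subgroup.centralizer {y}
  -- the smaller cover
  have hcov' : IsCov ((𝓛 ∪ 𝒯).image (imgIn G)) := by
    refine ⟨fun H hH => ?_, fun g => ?_⟩
    · obtain ⟨K, hK, rfl⟩ := Finset.mem_image.mp hH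
      rcases Finset.mem_union.mp hK with hK | hK
      · obtain ⟨v, hv, rfl⟩ := Finset.mem_image.mp hK
        obtain ⟨s, hs, hsn⟩ := exists_sl_notMem_lineStab (Finset.mem_filter.mp hv).2
        exact imgIn_ne_top hG (center_le_lineStab v) hs hsn
      · obtain ⟨y, hy, rfl⟩ := Finset.mem_image.mp hK
        have hy' : Y y := (Finset.mem_filter.mp hy).2
        obtain ⟨s, hs, hsn⟩ : ∃ s ∈ slRange 2 F, s ∉ Subgroup.centralizer {y} := by
          by_contra hall
          push_neg at hall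
          have key : ∀ v : Fin 2 → F, (y : M2) * uMat v = uMat v * (y : M2) := fun v =>
            (congrArg Units.val
              (Subgroup.mem_centralizer_singleton_iff.mp (hall (uVec v) (slElt_mem _ _)))).symm
          have k1 := key ![1, 0]
          have k2 := key ![0, 1]
          refine hYns y hy' ⟨?_, ?_, ?_⟩
          · have := congrFun (congrFun k2 0) 0
            simpa [uMat, Linear.mul_two_apply] using this
          · have := congrFun (congrFun k1 0) 0
            simpa [uMat, Linear.mul_two_apply] using this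
          · have := congrFun (congrFun k1 0) 1
            simp [uMat, Linear.mul_two_apply] at this
            linear_combination this
        exact imgIn_ne_top hG (Subgroup.center_le_centralizer _) hs hsn
    · obtain ⟨g0, hg0⟩ := QuotientGroup.mk'_surjective _ (g : PGLq 2 F)
      by_cases hev : ∃ (c : F) (v : Fin 2 → F), v ≠ 0 ∧ (g0 : M2) *ᵥ v = c • v
      · obtain ⟨c, v, hv, hcv⟩ := hev
        exact ⟨imgIn G (lineStab v), Finset.mem_image_of_mem _ (Finset.mem_union_left _
          (Finset.mem_image_of_mem _ (Finset.mem_filter.mpr ⟨Finset.mem_univ _, hv⟩))),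
          ⟨g0, ⟨c, hcv⟩, hg0⟩⟩
      · push_neg at hev
        have hcard := Linear.card_centralizer_noEigen (Linear.noEigen_iff.mp hev)
        have hdvd : r ∣ Nat.card (Subgroup.centralizer {g0}) := by
          rw [hcard, show Fintype.card F ^ 2 - 1 = (Fintype.card F + 1) * (Fintype.card F - 1) from
            Nat.sq_sub_sq _ 1]
          exact dvd_mul_of_dvd_left hr _
        obtain ⟨y, hy⟩ := exists_prime_orderOf_dvd_card' r hdvd
        have hy1 : orderOf (y : GL (Fin 2) F) = r := by rwa [Subgroup.orderOf_coe]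
        have hdet : ((y : GL (Fin 2) F) : M2).det = 1 := by
          refine eq_one_of_pow_eq_one hrq hrp.ne_zero ?_
          rw [← Matrix.det_pow, ← Units.val_pow_eq_pow_val, ← hy1, pow_orderOf_eq_one,
            Units.val_one, Matrix.det_one]
        exact ⟨imgIn G (Subgroup.centralizer {(y : GL (Fin 2) F)}), Finset.mem_image_of_mem _
          (Finset.mem_union_right _ (Finset.mem_image.mpr
            ⟨(y : GL (Fin 2) F), Finset.mem_filter.mpr ⟨Finset.mem_univ _, hy1, hdet⟩, rfl⟩)),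
          ⟨g0, Subgroup.mem_centralizer_singleton_iff.mpr
            (Subgroup.mem_centralizer_singleton_iff.mp y.2).symm, hg0⟩⟩
  -- members of the nilpotent cover
  obtain ⟨a, ha⟩ := IsCyclic.exists_generator (α := Fˣ)
  have hao : orderOf a = Fintype.card F - 1 := by
    rw [orderOf_eq_card_of_forall_mem_zpowers ha, Nat.card_units, Nat.card_eq_fintype_card]
  have hne : (a : F) ≠ ((a⁻¹ : Fˣ) : F) := fun h => by
    have h2 : a ^ 2 = 1 := by rw [sq]; exact mul_eq_one_iff_eq_inv.mpr (Units.ext h)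
    have h3 := Nat.le_of_dvd two_pos (hao ▸ orderOf_dvd_of_pow_eq_one h2)
    omega
  obtain ⟨At, hAt, htA⟩ := exists_mem_preImg hcov hG (slElt_mem _ _ : tEl a ∈ slRange 2 F)
  have keyL : ∀ K ∈ 𝓛, ∃ A ∈ 𝓐, ∃ v : Fin 2 → F, v ≠ 0 ∧ K = lineStab v ∧
      uVec v ∈ preImg G A := by
    intro K hK
    obtain ⟨v, hv, rfl⟩ := Finset.mem_image.mp hK
    obtain ⟨A, hA, huA⟩ := exists_mem_preImg hcov hG (slElt_mem _ _ : uVec v ∈ slRange 2 F)
    exact ⟨A, hA, v, (Finset.mem_filter.mp hv).2, rfl, huA⟩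
  have keyT : ∀ K ∈ 𝒯, ∃ A ∈ 𝓐, ∃ y, Y y ∧ K = Subgroup.centralizer {y} ∧ y ∈ preImg G A := by
    intro K hK
    obtain ⟨y, hy, rfl⟩ := Finset.mem_image.mp hK
    have hy' : Y y := (Finset.mem_filter.mp hy).2
    obtain ⟨A, hA, hyA⟩ := exists_mem_preImg hcov hG (hYsl y hy')
    exact ⟨A, hA, y, hy', rfl, hyA⟩
  choose! f hf vL hvL hKL huL using keyL
  choose! g hg yT hyT hKT hyA using keyT
  have hfinj : Set.InjOn f 𝓛 := by
    intro K hK K' hK' heq
    have hH := isNilpotent_preImg (hnil _ (hf K hK))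
    obtain ⟨⟨w, hw0, hw⟩, -⟩ := exists_common_fixed p two_ne_zero hH
    have h1 := hw 1 (Subgroup.one_mem _) _ (huL K hK) ⟨1, by rw [pow_one]; exact uVec_pow (hvL K hK)⟩
    have h2 := hw 1 (Subgroup.one_mem _) _ (heq.symm ▸ huL K' hK')
      ⟨1, by rw [pow_one]; exact uVec_pow (hvL K' hK')⟩
    simp only [Units.val_one, Matrix.one_mulVec] at h1 h2
    obtain ⟨c, hc⟩ := uVec_ker (hvL K hK) h1
    obtain ⟨c', hc'⟩ := uVec_ker (hvL K' hK') h2
    have hc0 : c ≠ 0 := fun h => hw0 (by rw [hc, h, zero_smul])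
    have hc0' : c' ≠ 0 := fun h => hw0 (by rw [hc', h, zero_smul])
    have hls : ∀ (v : Fin 2 → F) (d : F), d ≠ 0 → lineStab (d • v) = lineStab v := by
      intro v d hd
      ext x
      refine ⟨fun ⟨e, he⟩ => ⟨e, ?_⟩, fun ⟨e, he⟩ => ⟨e, by rw [Matrix.mulVec_smul, he, smul_comm]⟩⟩
      rw [Matrix.mulVec_smul, smul_comm e d] at he
      exact (smul_right_injective (Fin 2 → F) hd) he
    rw [hKL K hK, hKL K' hK', ← hls _ c hc0, ← hls (vL K') c' hc0', ← hc, ← hc']
  have hginj : Set.InjOn g 𝒯 := by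
    intro K hK K' hK' heq
    have hH := isNilpotent_preImg (hnil _ (hg K hK))
    have hy1 := hyA K hK
    have hy2 : yT K' ∈ preImg G (g K) := heq.symm ▸ hyA K' hK'
    obtain ⟨z, hzc, hzr⟩ := exists_central_orderOf (r := r) hH
      (x := ⟨yT K, hy1⟩) (by rw [Subgroup.orderOf_mk]; exact (hyT K hK).1)
    have hzns : ¬ Linear.IsScalarTwo ((z : GL (Fin 2) F) : M2) := fun hs => by
      obtain ⟨c, hc⟩ := Linear.isScalarTwo_iff.mp hs
      have hcr : c ^ r = 1 := by
        have h := congrArg (fun x : preImg G (g K) => ((x : GL (Fin 2) F) : M2) 0 0)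
          (hzr ▸ pow_orderOf_eq_one z : z ^ r = 1)
        simpa [hc, smul_pow] using h
      rw [eq_one_of_pow_eq_one hrq hrp.ne_zero hcr, one_smul] at hc
      have : z = 1 := Subtype.ext (Units.ext hc)
      rw [this, orderOf_one] at hzr
      exact hrp.one_lt.ne hzr
    have hcz : ∀ x ∈ preImg G (g K), x ∈ Subgroup.centralizer {(z : GL (Fin 2) F)} := fun x hx =>
      Subgroup.mem_centralizer_singleton_iff.mpr
        (congrArg Subtype.val (Subgroup.mem_center_iff.mp hzc ⟨x, hx⟩))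
    obtain ⟨a1, b1, hab1⟩ := (Linear.mem_centralizer_GL_two hzns).mp (hcz _ hy1)
    obtain ⟨a2, b2, hab2⟩ := (Linear.mem_centralizer_GL_two hzns).mp (hcz _ hy2)
    have hyy : yT K * yT K' = yT K' * yT K := Units.ext (by
      simp only [Units.val_mul, hab1, hab2, add_mul, mul_add, smul_mul_assoc, mul_smul_comm,
        one_mul, mul_one]
      module)
    have hsub : ∀ y y' : GL (Fin 2) F, Y y → y * y' = y' * y →
        Subgroup.centralizer {y} ≤ Subgroup.centralizer {y'} := by
      intro y y' hy hc x hx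
      obtain ⟨s, t, hst⟩ := (Linear.mem_centralizer_GL_two (hYns y hy)).mp hx
      refine Subgroup.mem_centralizer_singleton_iff.mpr (Units.ext ?_)
      have hc' : (y : M2) * y' = (y' : M2) * y := congrArg Units.val hc
      simp only [Units.val_mul, hst, add_mul, mul_add, smul_mul_assoc, mul_smul_comm, one_mul,
        mul_one, hc']
    rw [hKT K hK, hKT K' hK']
    exact le_antisymm (hsub _ _ (hyT K hK) hyy) (hsub _ _ (hyT K' hK') hyy.symm)
  have hfg : ∀ K ∈ 𝓛, ∀ K' ∈ 𝒯, f K ≠ g K' := by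
    intro K hK K' hK' heq
    have hH := isNilpotent_preImg (hnil _ (hf K hK))
    have hc := commute_of_coprime_mem hH (huL K hK) (heq.symm ▸ hyA K' hK')
      (by rw [(hyT K' hK').1]; exact Nat.Coprime.coprime_dvd_left (orderOf_uVec (hvL K hK)) hrnp.symm)
    have hv := hvL K hK
    have hfix : (uVec (vL K) : M2) *ᵥ ((yT K' : M2) *ᵥ vL K) = (yT K' : M2) *ᵥ vL K := by
      rw [Matrix.mulVec_mulVec, ← Units.val_mul, hc.eq, Units.val_mul, ← Matrix.mulVec_mulVec,
        uVec_fix]
    obtain ⟨c, hc'⟩ := uVec_ker hv hfix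
    exact hYfix _ (hyT K' hK') c _ hv hc'
  have hft : ∀ K ∈ 𝓛, f K ≠ At := by
    intro K hK heq
    refine not_commute_tEl_uVec hne (hvL K hK) (commute_of_coprime_mem
      (isNilpotent_preImg (hnil _ hAt)) htA (heq ▸ huL K hK) ?_)
    exact Nat.Coprime.coprime_dvd_right (orderOf_uVec (hvL K hK))
      (Nat.Coprime.coprime_dvd_left (hao ▸ orderOf_tEl a) (one_ne p))
  have hgt : ∀ K ∈ 𝒯, g K ≠ At := by
    intro K hK heq
    have hc := commute_of_coprime_mem (isNilpotent_preImg (hnil _ hAt)) htA (heq ▸ hyA K hK)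
      (by rw [(hyT K hK).1]; exact Nat.Coprime.coprime_dvd_left (hao ▸ orderOf_tEl a) hrq.symm)
    have h10 := congrFun (congrFun (congrArg (fun x : GL (Fin 2) F => (x : M2)) hc.eq) 1) 0
    simp [tEl_val, Linear.mul_two_apply] at h10
    have hy10 : (yT K : M2) 1 0 = 0 := by
      have hsub : ((a : F))⁻¹ - (a : F) ≠ 0 := by
        rw [← Units.val_inv_eq_inv_val]; exact sub_ne_zero.mpr hne.symm
      apply mul_left_cancel₀ hsub
      linear_combination h10
    refine hYfix _ (hyT K hK) ((yT K : M2) 0 0) ![1, 0] (fun h => by simpa using congrFun h 0) ?_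
    ext i
    fin_cases i <;> simp [Matrix.mulVec, dotProduct, Fin.sum_univ_two, hy10]
  have hdisj : Disjoint (𝓛.image f) (𝒯.image g) := by
    rw [Finset.disjoint_left]
    intro A h1 h2
    obtain ⟨K, hK, rfl⟩ := Finset.mem_image.mp h1
    obtain ⟨K', hK', h'⟩ := Finset.mem_image.mp h2
    exact hfg K hK K' hK' h'.symm
  have hnot : At ∉ 𝓛.image f ∪ 𝒯.image g := by
    intro h
    rcases Finset.mem_union.mp h with h | h <;> obtain ⟨K, hK, h'⟩ := Finset.mem_image.mp h
    · exact hft K hK h'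
    · exact hgt K hK h'
  have hle : insert At (𝓛.image f ∪ 𝒯.image g) ⊆ 𝓐 := by
    intro A h
    rcases Finset.mem_insert.mp h with rfl | h
    · exact hAt
    rcases Finset.mem_union.mp h with h | h <;> obtain ⟨K, hK, rfl⟩ := Finset.mem_image.mp h
    · exact hf K hK
    · exact hg K hK
  have h1 := Finset.card_le_card hle
  rw [Finset.card_insert_of_notMem hnot, Finset.card_union_of_disjoint hdisj,
    Finset.card_image_of_injOn hfinj, Finset.card_image_of_injOn hginj] at h1
  have h2 := hmin _ hcov'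
  have h3 := (Finset.card_image_le (s := 𝓛 ∪ 𝒯) (f := imgIn G)).trans (Finset.card_union_le 𝓛 𝒯)
  omega

/-- No minimal nilpotent cover between PSL and PGL in degree two, q at least four. -/
theorem no_cover_two (hq : 4 ≤ Fintype.card F) (hG : (slRange 2 F).map (projq 2 F) ≤ G)
    {𝓐 : Finset (Subgroup G)} (hcov : IsCov 𝓐)
    (hmin : ∀ 𝓑 : Finset (Subgroup G), IsCov 𝓑 → 𝓐.card ≤ 𝓑.card)
    (hnil : ∀ A ∈ 𝓐, Group.IsNilpotent A) : False := by
  by_cases h1 : ∃ r, r.Prime ∧ r ∣ Fintype.card F + 1 ∧ r ≠ 2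
  · obtain ⟨r, hr, hd, h2⟩ := h1
    have := Fact.mk hr
    exact no_cover_two_plus hq hG hcov hmin hnil h2 hd
  by_cases h2 : ∃ r, r.Prime ∧ r ∣ Fintype.card F - 1 ∧ r ≠ 2
  · obtain ⟨r, hr, hd, h2⟩ := h2
    have := Fact.mk hr
    exact no_cover_two_minus hG hcov hmin hnil h2 hd
  push_neg at h1 h2
  have ea := Nat.eq_prime_pow_of_unique_prime_dvd (by omega : Fintype.card F + 1 ≠ 0)
    (fun {d} hd hdd => h1 d hd hdd)
  have eb := Nat.eq_prime_pow_of_unique_prime_dvd (by omega : Fintype.card F - 1 ≠ 0)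
    (fun {d} hd hdd => h2 d hd hdd)
  set i := (Fintype.card F + 1).primeFactorsList.length
  set j := (Fintype.card F - 1).primeFactorsList.length
  have hj : 2 ≤ j := by
    by_contra h
    have : j = 0 ∨ j = 1 := by omega
    rcases this with h | h <;> rw [h] at eb <;> omega
  have hi : 2 ≤ i := by
    by_contra h
    have : i = 0 ∨ i = 1 := by omega
    rcases this with h | h <;> rw [h] at ea <;> omega
  have d1 : 4 ∣ 2 ^ i := (pow_dvd_pow 2 hi : 2 ^ 2 ∣ 2 ^ i)
  have d2 : 4 ∣ 2 ^ j := (pow_dvd_pow 2 hj : 2 ^ 2 ∣ 2 ^ j)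
  omega

end Cfsg.Agent.H73
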