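import Cfsg.Agent.H73.NilCover
import Cfsg.Agent.H41.Nilpotent
import Cfsg.Agent.Components.Fitting
import Cfsg.Prelude.Def_Transfer

/-!
Abelian Sylow subgroups of a group with trivial centre and a nilpotent minimal cover.
-/

set_option autoImplicit false

open scoped Pointwise

namespace Cfsg.Agent.H73

variable {G : Type*} [Group G] [Finite G] {p : ℕ} [Fact p.Prime]

theorem exists_sylow_of_pow_eq_one {x : G} (hx : ∃ k : ℕ, x ^ p ^ k = 1) :
    ∃ Q : Sylow p G, x ∈ (Q : Subgroup G) := by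
  obtain ⟨k, hk⟩ := hx
  have hp : IsPGroup p (Subgroup.zpowers x) := by
    obtain ⟨j, -, hj⟩ := (Nat.dvd_prime_pow Fact.out).mp (orderOf_dvd_of_pow_eq_one hk)
    exact IsPGroup.of_card (n := j) (by rw [Nat.card_zpowers, hj])
  obtain ⟨Q, hQ⟩ := hp.exists_le_sylow
  exact ⟨Q, hQ (Subgroup.mem_zpowers x)⟩

theorem sylow_commute (P : Sylow p G) (hab : IsMulCommutative (P : Subgroup G)) (Q : Sylow p G)
    {x y : G} (hx : x ∈ (Q : Subgroup G)) (hy : y ∈ (Q : Subgroup G)) : Commute x y := by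
  obtain ⟨g, rfl⟩ := MulAction.exists_smul_eq G P Q
  rw [Sylow.smul_def, Sylow.pointwise_smul_def, ← SetLike.mem_coe, Subgroup.coe_pointwise_smul,
    Set.mem_smul_set] at hx hy
  obtain ⟨a, ha, rfl⟩ := hx
  obtain ⟨b, hb, rfl⟩ := hy
  exact (congrArg Subtype.val (hab.is_comm.comm (⟨a, ha⟩ : (P : Subgroup G)) ⟨b, hb⟩) :
    a * b = b * a) |> fun h => (show Commute a b from h).map (MulAut.conj g).toMonoidHom

/-- A nilpotent subgroup centralises each of its p-elements, if a Sylow p-subgroup is abelian. -/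
theorem le_centralizer_of_nilpotent (P : Sylow p G) (hab : IsMulCommutative (P : Subgroup G))
    {A : Subgroup G} (hA : Group.IsNilpotent A) {x : G} (hxA : x ∈ A)
    (hx : ∃ k : ℕ, x ^ p ^ k = 1) : A ≤ Subgroup.centralizer {x} := by
  obtain ⟨k, hk⟩ := hx
  have htop : Subgroup.centralizer {(⟨x, hxA⟩ : A)} = ⊤ := by
    refine Components.eq_top_of_forall_sylow _ fun q _ => ⟨Classical.arbitrary _, ?_⟩
    intro a ha
    rw [Subgroup.mem_centralizer_singleton_iff]
    obtain ⟨j, hj⟩ := IsPGroup.iff_orderOf.mp (Sylow.isPGroup' _) ⟨a, ha⟩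
    rw [Subgroup.orderOf_mk] at hj
    by_cases hqp : q = p
    · subst hqp
      let S : Sylow q A := Classical.arbitrary _
      have hSn : (S : Subgroup A).Normal :=
        ((Group.isNilpotent_of_finite_tfae (G := A)).out 0 3 rfl rfl).mp hA q inferInstance S
      have : Unique (Sylow q A) := Sylow.unique_of_normal S hSn
      obtain ⟨Q, hQ⟩ := exists_sylow_of_pow_eq_one (G := A) (p := q)
        (x := ⟨x, hxA⟩) ⟨k, Subtype.ext hk⟩
      rw [Subsingleton.elim Q S] at hQ
      obtain ⟨R, hR⟩ := ((S.isPGroup').map A.subtype).exists_le_sylow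
      exact Subtype.ext (sylow_commute P hab R (hR ⟨a, ha, rfl⟩) (hR ⟨_, hQ, rfl⟩)).eq
    · refine (H41.commute_of_coprime_orderOf hA ?_).eq
      rw [hj, Subgroup.orderOf_mk]
      exact Nat.Coprime.coprime_dvd_right (orderOf_dvd_of_pow_eq_one hk)
        (((Nat.coprime_primes Fact.out Fact.out).mpr hqp).pow j k)
  intro a ha
  rw [Subgroup.mem_centralizer_singleton_iff]
  have := Subgroup.mem_centralizer_singleton_iff.mp (htop ▸ Subgroup.mem_top (⟨a, ha⟩ : A))
  exact congrArg Subtype.val this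

/-- An abelian Sylow subgroup which is not elementary abelian of rank at least two lies in a member
of a cover in which every p-element lies in one member only. -/
theorem exists_member_of_unique {𝓐 : Finset (Subgroup G)} (hcov : IsCov 𝓐)
    (hone : ∀ x : G, x ≠ 1 → (∃ k : ℕ, x ^ p ^ k = 1) → ∀ A ∈ 𝓐, ∀ B ∈ 𝓐, x ∈ A → x ∈ B → A = B)
    (Q : Sylow p G) (hab : ∀ x ∈ (Q : Subgroup G), ∀ y ∈ (Q : Subgroup G), Commute x y)
    (hel : (∀ x ∈ (Q : Subgroup G), x ^ p = 1) → Nat.card (Q : Subgroup G) ≤ p)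
    (hne : (Q : Subgroup G) ≠ ⊥) : ∃ A ∈ 𝓐, (Q : Subgroup G) ≤ A := by
  have hpp : p.Prime := Fact.out
  have hEQ : ∀ x ∈ (Q : Subgroup G), ∃ k : ℕ, x ^ p ^ k = 1 := fun x hx => by
    obtain ⟨k, hk⟩ := Q.isPGroup' ⟨x, hx⟩
    exact ⟨k, congrArg Subtype.val hk⟩
  by_cases he : ∀ x ∈ (Q : Subgroup G), x ^ p = 1
  · obtain ⟨x, hx⟩ := Subgroup.ne_bot_iff_exists_ne_one.mp hne
    obtain ⟨A, hA, hxA⟩ := hcov.2 x
    refine ⟨A, hA, ?_⟩
    have : Subgroup.zpowers (x : G) = (Q : Subgroup G) := by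
      refine Subgroup.eq_of_le_of_card_ge (Subgroup.zpowers_le.mpr x.2) ((hel he).trans ?_)
      rw [Nat.card_zpowers]
      rcases (Nat.dvd_prime hpp).mp (orderOf_dvd_of_pow_eq_one (he _ x.2)) with h | h
      · exact absurd (orderOf_eq_one_iff.mp h) fun e => hx (Subtype.ext e)
      · exact h.ge
    rw [← this]
    exact Subgroup.zpowers_le.mpr hxA
  · push_neg at he
    obtain ⟨x, hxQ, hx⟩ := he
    obtain ⟨A, hA, hxA⟩ := hcov.2 x
    have hlow : ∀ y ∈ (Q : Subgroup G), y ^ p = 1 → y ∈ A := by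
      intro y hy hyp
      obtain ⟨B, hB, hxyB⟩ := hcov.2 (x * y)
      have hpow : (x * y) ^ p = x ^ p := by rw [(hab x hxQ y hy).mul_pow, hyp, mul_one]
      obtain rfl := hone _ hx (hEQ _ (Subgroup.pow_mem _ hxQ p)) A hA B hB (A.pow_mem hxA p)
        (hpow ▸ B.pow_mem hxyB p)
      exact (A.mul_mem_cancel_left hxA).mp hxyB
    refine ⟨A, hA, fun y hy => ?_⟩
    rcases eq_or_ne y 1 with rfl | hy1
    · exact A.one_mem
    obtain ⟨B, hB, hyB⟩ := hcov.2 y
    obtain ⟨k, hk⟩ := IsPGroup.iff_orderOf.mp Q.isPGroup' ⟨y, hy⟩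
    rw [Subgroup.orderOf_mk] at hk
    have hk0 : k ≠ 0 := fun h0 => hy1 (orderOf_eq_one_iff.mp (by rw [hk, h0, pow_zero]))
    have hz : (y ^ p ^ (k - 1)) ^ p = 1 := by
      rw [← pow_mul, ← pow_succ, show k - 1 + 1 = k by omega, ← hk, pow_orderOf_eq_one]
    have hz1 : y ^ p ^ (k - 1) ≠ 1 := fun h => by
      have := hk ▸ orderOf_dvd_of_pow_eq_one h
      rw [Nat.pow_dvd_pow_iff_le_right hpp.one_lt] at this
      omega
    obtain rfl := hone _ hz1 (hEQ _ (Subgroup.pow_mem _ hy _)) A hA B hB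
      (hlow _ (Subgroup.pow_mem _ hy _) hz) (B.pow_mem hyB _)
    exact hyB

theorem abelian_sylow_of_nilpotent_cover (hZ : Subgroup.center G = ⊥) {𝓐 : Finset (Subgroup G)}
    (hcov : IsCov 𝓐) (hmin : ∀ 𝓑 : Finset (Subgroup G), IsCov 𝓑 → 𝓐.card ≤ 𝓑.card)
    (hnil : ∀ A ∈ 𝓐, Group.IsNilpotent A) (P : Sylow p G)
    (hab : IsMulCommutative (P : Subgroup G))
    (hel : Cfsg.IsElementaryAbelian p (P : Subgroup G) → Nat.card (P : Subgroup G) ≤ p)
    (hnn : ¬ (P : Subgroup G).Normal) :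
    ∃ A ∈ 𝓐, (P : Subgroup G) ≤ A ∧ ¬ p ∣ ((P : Subgroup G).subgroupOf A).index ∧
      IsCoatom (Subgroup.normalizer ((P : Subgroup G) : Set G)) ∧
      (∀ g : G, g ∉ Subgroup.normalizer ((P : Subgroup G) : Set G) →
        ¬ p ∣ Nat.card ↥(Subgroup.normalizer ((P : Subgroup G) : Set G) ⊓
          (Subgroup.normalizer ((P : Subgroup G) : Set G)).map (MulAut.conj g).toMonoidHom)) ∧
      Subgroup.centralizer ((P : Subgroup G) : Set G) = A ∧
      ∀ M : Subgroup G, IsCoatom M → A ≤ M → M = Subgroup.normalizer ((P : Subgroup G) : Set G) := by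
  classical
  have hpp : p.Prime := Fact.out
  let E : G → Prop := fun x => x ≠ 1 ∧ ∃ k : ℕ, x ^ p ^ k = 1
  have hcen : ∀ x, E x → Subgroup.centralizer {x} ≠ ⊤ := by
    intro x hx h
    have : x ∈ Subgroup.center G := Subgroup.mem_center_iff.mpr fun g =>
      (Subgroup.mem_centralizer_singleton_iff.mp (h ▸ Subgroup.mem_top g))
    rw [hZ, Subgroup.mem_bot] at this
    exact hx.1 this
  -- each p-element lies in one member only
  have hone : ∀ x, E x → ∀ A ∈ 𝓐, ∀ B ∈ 𝓐, x ∈ A → x ∈ B → A = B := fun x hx A hA B hB hxA hxB =>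
    by_contra fun hne => hcov.two_in_one hmin hA hB hne
      (le_centralizer_of_nilpotent P hab (hnil A hA) hxA hx.2)
      (le_centralizer_of_nilpotent P hab (hnil B hB) hxB hx.2) (hcen x hx)
  have hEP : ∀ (Q : Sylow p G), ∀ x ∈ (Q : Subgroup G), x ≠ 1 → E x := fun Q x hx h1 => by
    obtain ⟨k, hk⟩ := Q.isPGroup' ⟨x, hx⟩
    exact ⟨h1, k, congrArg Subtype.val hk⟩
  have hnb : ∀ Q : Sylow p G, (Q : Subgroup G) ≠ ⊥ := fun Q hQ => hnn (by
    have h1 := Nat.card_congr (Sylow.equiv Q P).toEquiv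
    rw [hQ, Subgroup.card_bot] at h1
    rw [Subgroup.eq_bot_of_card_eq _ h1.symm]
    infer_instance)
  -- every Sylow subgroup lies in a member
  have hmem : ∀ Q : Sylow p G, ∃ B ∈ 𝓐, (Q : Subgroup G) ≤ B := by
    intro Q
    refine exists_member_of_unique hcov (fun x h1 h2 => hone x ⟨h1, h2⟩) Q
      (fun x hx y hy => sylow_commute P hab Q hx hy) (fun he => ?_) (hnb Q)
    rw [Nat.card_congr (Sylow.equiv Q P).toEquiv]
    refine hel ⟨hab, fun a ha => ?_⟩
    have h := he _ ((Sylow.equiv P Q) ⟨a, ha⟩).2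
    have h' : (Sylow.equiv P Q) ((⟨a, ha⟩ : (P : Subgroup G)) ^ p) = 1 := by
      rw [map_pow]
      exact Subtype.ext h
    rw [MulEquiv.map_eq_one_iff] at h'
    exact congrArg Subtype.val h'
  obtain ⟨A, hA, hPA⟩ := hmem P
  have huniq : ∀ Q : Sylow p G, (Q : Subgroup G) ≤ A → Q = P := by
    intro Q hQ
    have hPn : (P.subtype hPA : Subgroup A).Normal :=
      ((Group.isNilpotent_of_finite_tfae (G := A)).out 0 3 rfl rfl).mp (hnil A hA) p inferInstance _
    have := Sylow.unique_of_normal _ hPn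
    exact Sylow.subtype_injective (Subsingleton.elim (Q.subtype hQ) (P.subtype hPA))
  -- any Sylow subgroup meeting A lies in A
  have hmeet : ∀ Q : Sylow p G, ∀ x ∈ (Q : Subgroup G), x ≠ 1 → x ∈ A → Q = P := by
    intro Q x hxQ hx1 hxA
    obtain ⟨B, hB, hQB⟩ := hmem Q
    have := hone x (hEP Q x hxQ hx1) A hA B hB hxA (hQB hxQ)
    subst this
    exact huniq Q hQB
  have hC : ∀ x ∈ (P : Subgroup G), x ≠ 1 → Subgroup.centralizer {x} = A := by
    intro x hxP hx1
    have hEx := hEP P x hxP hx1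
    refine le_antisymm ?_ (le_centralizer_of_nilpotent P hab (hnil A hA) (hPA hxP) hEx.2)
    rw [← Subgroup.subgroupOf_eq_top]
    refine Components.eq_top_of_forall_sylow _ fun q _ => ⟨Classical.arbitrary _, ?_⟩
    intro a ha
    rw [Subgroup.mem_subgroupOf]
    obtain ⟨j, hj⟩ := IsPGroup.iff_orderOf.mp (Sylow.isPGroup' _) ⟨a, ha⟩
    rw [Subgroup.orderOf_mk, ← Subgroup.orderOf_coe] at hj
    have hcomm : Commute x (a : G) := (Subgroup.mem_centralizer_singleton_iff.mp a.2).symm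
    by_cases hqp : q = p
    · subst hqp
      obtain ⟨R, hR⟩ : ∃ R : Sylow q G, x ∈ (R : Subgroup G) ∧ (a : G) ∈ (R : Subgroup G) := by
        obtain ⟨R, hR⟩ := ((Sylow.isPGroup'
          (Classical.arbitrary (Sylow q (Subgroup.centralizer {x})))).map
            (Subgroup.centralizer {x}).subtype).exists_le_sylow
        refine ⟨R, hR ⟨⟨x, Subgroup.mem_centralizer_singleton_iff.mpr rfl⟩, ?_, rfl⟩,
          hR ⟨a, ha, rfl⟩⟩
        -- x is central in its centraliser
        set C := Subgroup.centralizer ({x} : Set G)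
        set X : C := ⟨x, Subgroup.mem_centralizer_singleton_iff.mpr rfl⟩ with hX
        set S : Sylow q C := Classical.arbitrary _
        obtain ⟨k, hk⟩ := hEx.2
        have hXp : IsPGroup q (Subgroup.zpowers X) := by
          obtain ⟨i, -, hi⟩ := (Nat.dvd_prime_pow hpp).mp
            (orderOf_dvd_of_pow_eq_one (Subtype.ext hk : X ^ q ^ k = 1))
          exact IsPGroup.of_card (n := i) (by rw [Nat.card_zpowers, hi])
        have hnorm : (Subgroup.zpowers X).Normal := by
          refine ⟨fun n hn c => ?_⟩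
          obtain ⟨i, rfl⟩ := Subgroup.mem_zpowers_iff.mp hn
          have hc : Commute c X := Subtype.ext (Subgroup.mem_centralizer_singleton_iff.mp c.2)
          rw [(hc.zpow_right i).eq, mul_assoc, mul_inv_cancel, mul_one]
          exact Subgroup.zpow_mem _ (Subgroup.mem_zpowers X) i
        obtain ⟨S', hS'⟩ := hXp.exists_le_sylow
        obtain ⟨c, hc⟩ := MulAction.exists_smul_eq C S' S
        have hmem : X ∈ (S' : Subgroup C) := hS' (Subgroup.mem_zpowers X)
        have : c * X * c⁻¹ ∈ (S : Subgroup C) := by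
          rw [← hc, Sylow.smul_def, Sylow.pointwise_smul_def, ← SetLike.mem_coe,
            Subgroup.coe_pointwise_smul, Set.mem_smul_set]
          exact ⟨X, hmem, rfl⟩
        have hcX : Commute c X := Subtype.ext (Subgroup.mem_centralizer_singleton_iff.mp c.2)
        rwa [hcX.eq, mul_assoc, mul_inv_cancel, mul_one] at this
      obtain rfl := hmeet R x hR.1 hx1 (hPA hxP)
      exact hPA hR.2
    · obtain ⟨B, hB, hxaB⟩ := hcov.2 (x * a)
      obtain ⟨k, hk⟩ := hEx.2
      have hcop : (orderOf (a : G)).Coprime (orderOf x) := by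
        rw [hj]
        exact Nat.Coprime.coprime_dvd_right (orderOf_dvd_of_pow_eq_one hk)
          (((Nat.coprime_primes Fact.out Fact.out).mpr hqp).pow j k)
      obtain ⟨m, hm⟩ := exists_pow_eq_self_of_coprime hcop
      have hxB : x ∈ B := by
        rw [← hm, show x ^ orderOf (a : G) = (x * a) ^ orderOf (a : G) by
          rw [hcomm.mul_pow, pow_orderOf_eq_one, mul_one]]
        exact B.pow_mem (B.pow_mem hxaB _) _
      obtain rfl := hone x hEx A hA B hB (hPA hxP) hxB
      exact (A.mul_mem_cancel_left hxB).mp hxaB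
  obtain ⟨x0, hx0⟩ := Subgroup.ne_bot_iff_exists_ne_one.mp (hnb P)
  have hx01 : (x0 : G) ≠ 1 := fun h => hx0 (Subtype.ext h)
  have hCP : Subgroup.centralizer ((P : Subgroup G) : Set G) = A := by
    apply le_antisymm
    · rw [← hC x0 x0.2 hx01]
      exact Subgroup.centralizer_le (Set.singleton_subset_iff.mpr x0.2)
    · intro a ha
      rw [Subgroup.mem_centralizer_iff]
      intro x hx
      rcases eq_or_ne x 1 with rfl | hx1
      · rw [one_mul, mul_one]
      · exact (Subgroup.mem_centralizer_singleton_iff.mp ((hC x hx hx1).ge ha)).symm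
  have hAN : A ≤ Subgroup.normalizer ((P : Subgroup G) : Set G) := by
    rw [← hCP]; exact Subgroup.centralizer_le_normalizer _
  have hNtop : Subgroup.normalizer ((P : Subgroup G) : Set G) ≠ ⊤ := fun h =>
    hnn (Subgroup.normalizer_eq_top_iff.mp h)
  have hmax : ∀ M : Subgroup G, M ≠ ⊤ → A ≤ M → M ≤ Subgroup.normalizer ((P : Subgroup G) : Set G) := by
    intro M hM hAM m hm
    by_contra hmN
    obtain ⟨y, hy⟩ := Subgroup.ne_bot_iff_exists_ne_one.mp (hnb (m • P))
    obtain ⟨z, hz, hzy⟩ : ∃ z ∈ (P : Subgroup G), m * z * m⁻¹ = y := by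
      have hconj : ∀ v : G, v ∈ ((m • P : Sylow p G) : Subgroup G) →
          ∃ z ∈ (P : Subgroup G), m * z * m⁻¹ = v := fun v hv => by
        rw [Sylow.smul_def, Sylow.pointwise_smul_def, ← SetLike.mem_coe,
          Subgroup.coe_pointwise_smul, Set.mem_smul_set] at hv
        exact hv
      obtain ⟨z, hz, h⟩ := hconj y y.2
      exact ⟨z, hz, h⟩
    have hy1 : (y : G) ≠ 1 := fun h => hy (Subtype.ext h)
    have hz1 : z ≠ 1 := fun h => hy1 (by rw [← hzy, h]; simp)
    obtain ⟨B, hB, hyB⟩ := hcov.2 y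
    have hBM : B ≤ M := by
      intro b hb
      have h1 := Subgroup.mem_centralizer_singleton_iff.mp
        (le_centralizer_of_nilpotent P hab (hnil B hB) hyB (hEP _ _ y.2 hy1).2 hb)
      have h2 : m⁻¹ * b * m ∈ Subgroup.centralizer {z} := by
        rw [Subgroup.mem_centralizer_singleton_iff]
        rw [← hzy] at h1
        calc m⁻¹ * b * m * z = m⁻¹ * (b * (m * z * m⁻¹)) * m := by group
          _ = m⁻¹ * ((m * z * m⁻¹) * b) * m := by rw [h1]
          _ = z * (m⁻¹ * b * m) := by group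
      rw [hC z hz hz1] at h2
      have h3 := M.mul_mem (M.mul_mem hm (hAM h2)) (M.inv_mem hm)
      rwa [show m * (m⁻¹ * b * m) * m⁻¹ = b by group] at h3
    refine hcov.two_in_one hmin hA hB ?_ hAM hBM hM
    rintro rfl
    exact hmN (Sylow.smul_eq_iff_mem_normalizer.mp (hmeet _ y y.2 hy1 hyB))
  refine ⟨A, hA, hPA, ?_, ⟨hNtop, fun M hlt => ?_⟩, ?_, hCP, fun M hM hAM => ?_⟩
  · exact (P.subtype hPA).not_dvd_index
  · by_contra hM
    exact hlt.not_ge (hmax M hM (hAN.trans hlt.le))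
  · intro g hg hd
    obtain ⟨⟨u, hu⟩, hu'⟩ := exists_prime_orderOf_dvd_card' p hd
    rw [Subgroup.orderOf_mk] at hu'
    obtain ⟨hu1, w, hw, hwu⟩ := hu
    have hne : u ≠ 1 := fun h => by rw [h, orderOf_one] at hu'; exact hpp.one_lt.ne hu'
    have hNP : ∀ v ∈ Subgroup.normalizer ((P : Subgroup G) : Set G), orderOf v = p →
        v ∈ (P : Subgroup G) := by
      intro v hv hvp
      have hPn : (P.subtype (Subgroup.le_normalizer (H := (P : Subgroup G))) :
          Subgroup (Subgroup.normalizer ((P : Subgroup G) : Set G))).Normal :=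
        Subgroup.normal_in_normalizer
      have := Sylow.unique_of_normal _ hPn
      obtain ⟨Q, hQ⟩ := exists_sylow_of_pow_eq_one (p := p)
        (x := (⟨v, hv⟩ : Subgroup.normalizer ((P : Subgroup G) : Set G)))
        ⟨1, Subtype.ext (by simpa [← hvp] using pow_orderOf_eq_one v)⟩
      rw [Subsingleton.elim Q (P.subtype Subgroup.le_normalizer)] at hQ
      exact hQ
    have huP := hNP u hu1 hu'
    have hwP := hNP w hw (by
      rw [← hu', ← hwu, MulEquiv.coe_toMonoidHom, MulEquiv.orderOf_eq])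
    have hmem : u ∈ ((g • P : Sylow p G) : Subgroup G) := by
      rw [Sylow.smul_def, Sylow.pointwise_smul_def, ← SetLike.mem_coe,
        Subgroup.coe_pointwise_smul, Set.mem_smul_set]
      exact ⟨w, hwP, hwu⟩
    exact hg (Sylow.smul_eq_iff_mem_normalizer.mp (hmeet _ u hmem hne (hPA huP)))
  · exact le_antisymm (hmax M hM.1 hAM) (by
      by_contra h
      have hlt : M < M ⊔ Subgroup.normalizer ((P : Subgroup G) : Set G) :=
        lt_of_le_of_ne le_sup_left fun e => h (e ▸ le_sup_right)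
      have hsup := hM.2 _ hlt
      rw [sup_eq_right.mpr (hmax M hM.1 hAM)] at hsup
      exact hNtop hsup)

end Cfsg.Agent.H73
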