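import Cfsg.Agent.Frobenius.NoFrobenius
import Cfsg.Agent.S0144
import Mathlib.GroupTheory.NoncommCoprod
import Mathlib.GroupTheory.GroupAction.ConjAct
import Mathlib.GroupTheory.Solvable
import Mathlib.Algebra.IsPrimePow

/-!
# Elements of prime power order outside a normal subgroup
-/

set_option autoImplicit false
set_option linter.unusedSectionVars false
set_option linter.style.haveILetI false

namespace Cfsg.Agent.H73

open Subgroup Pointwise

universe u

variable {G : Type u} [Group G]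

/-- All elements outside the kernel have prime power order. -/
def OutsidePP {Q : Type u} [Group Q] (π : G →* Q) : Prop :=
  ∀ x : G, π x ≠ 1 → IsPrimePow (orderOf x)

theorem outsidePP_comp {Q : Type u} [Group Q] {π : G →* Q} (h : OutsidePP π) (H : Subgroup G) :
    OutsidePP (π.comp H.subtype) := fun x hx => by
  rw [← Subgroup.orderOf_coe]
  exact h (x : G) hx

theorem not_commute_outside {Q : Type u} [Group Q] {π : G →* Q} (h : OutsidePP π) [Finite G]
    {x y : G} (hx : π x ≠ 1) (hy : π y = 1) (hy1 : y ≠ 1) (hc : Commute x y)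
    (hco : (orderOf x).Coprime (orderOf y)) : False := by
  have hx1 : orderOf x ≠ 1 := fun h1 => hx (by rw [orderOf_eq_one_iff.mp h1, map_one])
  have hy2 : orderOf y ≠ 1 := fun h1 => hy1 (orderOf_eq_one_iff.mp h1)
  have hxy := h (x * y) (by rwa [map_mul, hy, mul_one])
  rw [hc.orderOf_mul_eq_mul_orderOf_of_coprime hco] at hxy
  obtain ⟨q, m, hq, -, hm⟩ := (isPrimePow_nat_iff _).mp hxy
  have h1 := Nat.minFac_prime hx1
  have h2 := Nat.minFac_prime hy2
  have e1 := (Nat.prime_dvd_prime_iff_eq h1 hq).mp (h1.dvd_of_dvd_pow (n := m)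
    (hm ▸ dvd_mul_of_dvd_left (Nat.minFac_dvd _) _))
  have e2 := (Nat.prime_dvd_prime_iff_eq h2 hq).mp (h2.dvd_of_dvd_pow (n := m)
    (hm ▸ dvd_mul_of_dvd_right (Nat.minFac_dvd _) _))
  exact h1.not_dvd_one (hco ▸ Nat.dvd_gcd (Nat.minFac_dvd _) ((e1.trans e2.symm) ▸ Nat.minFac_dvd _))

/-- An element outside whose image has order divisible by `s` has `s`-power order. -/
theorem orderOf_eq_pow {Q : Type u} [Group Q] {π : G →* Q} (h : OutsidePP π) [Finite G] {x : G}
    {s : ℕ} (hs : s.Prime) (hx : s ∣ orderOf (π x)) : ∃ k, orderOf x = s ^ k := by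
  have hx1 : π x ≠ 1 := fun h1 => hs.not_dvd_one (by rwa [h1, orderOf_one] at hx)
  obtain ⟨q, m, hq, -, hm⟩ := (isPrimePow_nat_iff _).mp (h x hx1)
  have := (Nat.prime_dvd_prime_iff_eq hs hq).mp
    (hs.dvd_of_dvd_pow (n := m) (hm ▸ hx.trans (orderOf_map_dvd π x)))
  exact ⟨m, this ▸ hm.symm⟩

theorem outsidePP_lift {Q : Type u} [Group Q] {π : G →* Q} (h : OutsidePP π) [Finite G]
    (M : Subgroup G) [M.Normal] (hM : M ≤ π.ker) : OutsidePP (QuotientGroup.lift M π hM) := by
  intro q hq
  obtain ⟨x, rfl⟩ := QuotientGroup.mk_surjective q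
  have hx : π x ≠ 1 := hq
  refine (h x hx).dvd (orderOf_map_dvd (QuotientGroup.mk' M) x) fun h1 => hx ?_
  exact hM ((QuotientGroup.eq_one_iff x).mp (orderOf_eq_one_iff.mp h1))

theorem cyc_fixed {M : Type*} [CommGroup M] (φ : G →* MulAut M) {w : G} {t : ℕ} (hw : w ^ t = 1)
    (v : M) : φ w (∏ i ∈ Finset.range t, φ (w ^ i) v) = ∏ i ∈ Finset.range t, φ (w ^ i) v := by
  rw [map_prod]
  have h1 := Finset.prod_range_succ' (fun i => φ (w ^ i) v) t
  have h2 := Finset.prod_range_succ (fun i => φ (w ^ i) v) t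
  simp only [hw, pow_zero, map_one, MulAut.one_apply] at h1 h2
  have h3 : ∀ i, φ w (φ (w ^ i) v) = φ (w ^ (i + 1)) v := fun i => by
    rw [pow_succ', map_mul, MulAut.mul_apply]
  simp only [h3]
  exact mul_right_cancel (h1.symm.trans h2)

variable [Finite G]

theorem relIndex_sup_eq_one {M D L : Subgroup G} {s : ℕ} [Fact s.Prime] (k : ℕ)
    (hM : M.relIndex L = s ^ k) (hD : ¬ s ∣ D.relIndex L) : (M ⊔ D).relIndex L = 1 := by
  have h1 := relIndex_dvd_of_le_left L (le_sup_left : M ≤ M ⊔ D)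
  have h2 := relIndex_dvd_of_le_left L (le_sup_right : D ≤ M ⊔ D)
  rw [hM] at h1
  exact Nat.eq_one_of_dvd_coprimes (Nat.Coprime.pow_left k
    ((Fact.out : s.Prime).coprime_iff_not_dvd.mpr hD)) h1 h2

theorem kernel_isPGroup {Q : Type u} [Group Q] [Finite Q] {s : ℕ} [Fact s.Prime] (E : Subgroup Q)
    (hE : Nat.card ↥E = s ^ 2) (hEc : ¬ IsCyclic ↥E)
    (ht : ∀ r : ℕ, ∃ t : ℕ, t.Prime ∧ t ∣ Nat.card Q ∧ t ≠ r ∧ t ≠ s) (n : ℕ) :
    ∀ (H : Type u) [Group H] [Finite H] (π : H →* Q), Nat.card H ≤ n → Function.Surjective π →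
      OutsidePP π → Group.IsSolvable ↥π.ker → IsPGroup s ↥π.ker := by
  classical
  induction n with
  | zero => intro H _ _ π hn; exact absurd hn (by have := Nat.card_pos (α := H); omega)
  | succ n ih =>
  intro H _ _ π hn hπ hpp hsol
  set L := π.ker with hLdef
  rcases eq_or_ne L ⊥ with hL | hL
  · rw [hL]; exact IsPGroup.of_bot
  have hquot : ∀ (M : Subgroup H) [M.Normal], M ≠ ⊥ → M ≤ L → ∃ k, M.relIndex L = s ^ k := by
    intro M _ hM hle
    have hlt : Nat.card (H ⧸ M) ≤ n := by
      rw [← index_eq_card]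
      have h1 := M.one_lt_card_iff_ne_bot.mpr hM
      have h2 := M.card_mul_index
      nlinarith
    have hk : (QuotientGroup.lift M π hle).ker = L.map (QuotientGroup.mk' M) :=
      QuotientGroup.ker_lift M π hle
    haveI hs' : Group.IsSolvable ↥(L.map (QuotientGroup.mk' M)) :=
      Group.isSolvable_of_surjective ((QuotientGroup.mk' M).subgroupMap_surjective L)
    have := ih (H ⧸ M) (QuotientGroup.lift M π hle) hlt
      (QuotientGroup.lift_surjective_of_surjective M π hπ hle)
      (outsidePP_lift hpp M hle) (by rw [hk]; exact hs')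
    rw [hk] at this
    obtain ⟨k, hk'⟩ := IsPGroup.iff_card.mp this
    refine ⟨k, ?_⟩
    rw [← hk', ← relIndex_ker, QuotientGroup.ker_mk']
  -- a minimal normal subgroup inside `L`
  haveI := hsol
  have hLnt : Nontrivial ↥L := (nontrivial_iff_ne_bot L).mpr hL
  obtain ⟨A, hAn, hAL, hAne, hAab⟩ : ∃ A : Subgroup H, A.Normal ∧ A ≤ L ∧ A ≠ ⊥ ∧
      ∀ a ∈ A, ∀ b ∈ A, a * b = b * a := by
    obtain ⟨m, hm⟩ := (Group.isSolvable_def ↥L).mp hsol
    have hex : ∃ m, derivedSeries ↥L m = ⊥ := ⟨m, hm⟩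
    set m0 := Nat.find hex
    have hm0 : m0 ≠ 0 := fun h => by
      have := Nat.find_spec hex
      rw [show Nat.find hex = 0 from h, derivedSeries_zero] at this
      exact top_ne_bot this
    obtain ⟨j, hj⟩ := Nat.exists_eq_succ_of_ne_zero hm0
    haveI : (derivedSeries ↥L j).Characteristic := derivedSeries_characteristic ↥L j
    refine ⟨(derivedSeries ↥L j).map L.subtype, inferInstance, map_subtype_le _, ?_, ?_⟩
    · intro h
      rw [map_eq_bot_iff_of_injective _ L.subtype_injective] at h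
      have := Nat.find_le (h := hex) h
      omega
    · rintro _ ⟨a, ha, rfl⟩ _ ⟨b, hb, rfl⟩
      have h0 := Nat.find_spec hex
      rw [show Nat.find hex = j + 1 from hj, derivedSeries_succ] at h0
      have hab := commutator_eq_bot_iff_le_centralizer.mp h0 ha
      exact congrArg Subtype.val (mem_centralizer_iff.mp hab b hb).symm
  obtain ⟨r, hr, hrd⟩ := Nat.exists_prime_and_dvd (A.one_lt_card_iff_ne_bot.mpr hAne).ne'
  haveI := Fact.mk hr
  let A₀ : Subgroup H :=
    { carrier := {a | a ∈ A ∧ a ^ r = 1}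
      one_mem' := ⟨A.one_mem, one_pow r⟩
      mul_mem' := fun {a b} ha hb => ⟨mul_mem ha.1 hb.1, by
        rw [Commute.mul_pow (hAab a ha.1 b hb.1), ha.2, hb.2, one_mul]⟩
      inv_mem' := fun {a} ha => ⟨inv_mem ha.1, by rw [inv_pow, ha.2, inv_one]⟩ }
  have hA₀ : A₀.Normal := ⟨fun a ha g => ⟨hAn.conj_mem a ha.1 g, by rw [conj_pow, ha.2, mul_one, mul_inv_cancel]⟩⟩
  have hA₀ne : A₀ ≠ ⊥ := by
    obtain ⟨x, hx⟩ := exists_prime_orderOf_dvd_card' (G := ↥A) r hrd
    intro h
    have hmem : (x : H) ∈ A₀ := ⟨x.2, by rw [← hx, ← Subgroup.orderOf_coe]; exact pow_orderOf_eq_one _⟩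
    rw [h, mem_bot] at hmem
    rw [← Subgroup.orderOf_coe, hmem, orderOf_one] at hx
    exact hr.ne_one hx.symm
  obtain ⟨M, ⟨hMn, hMne, hMA⟩, hMmin⟩ := Set.Finite.exists_minimal
    (s := {M : Subgroup H | M.Normal ∧ M ≠ ⊥ ∧ M ≤ A₀}) (Set.toFinite _) ⟨A₀, hA₀, hA₀ne, le_rfl⟩
  haveI := hMn
  have hML : M ≤ L := fun m hm => hAL (hMA hm).1
  have hMr : IsPGroup r ↥M := fun m => ⟨1, Subtype.ext (by simpa using (hMA m.2).2)⟩
  have hMab : ∀ a ∈ M, ∀ b ∈ M, a * b = b * a := fun a ha b hb => hAab a (hMA ha).1 b (hMA hb).1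
  obtain ⟨k, hk⟩ := hquot M hMne hML
  obtain ⟨l, hl⟩ := IsPGroup.iff_card.mp hMr
  have hLcard : Nat.card ↥L = Nat.card ↥M * s ^ k := by
    rw [← hk, ← relIndex_bot_left (H := L), ← relIndex_bot_left (H := M),
      relIndex_mul_relIndex _ _ _ bot_le hML]
  by_cases hrs : r = s
  · subst hrs
    exact IsPGroup.of_card (n := l + k) (by rw [hLcard, hl, pow_add])
  exfalso
  have hl0 : l ≠ 0 := by
    rintro rfl
    rw [pow_zero] at hl
    exact hMne (Subgroup.card_eq_one.mp hl)
  have hnoS : ∀ (Z : Subgroup H) [Z.Normal], Z ≤ L → IsPGroup s ↥Z → Z = ⊥ := by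
    intro Z _ hZL hZ
    by_contra hne
    obtain ⟨k', hk'⟩ := hquot Z hne hZL
    obtain ⟨z, hz⟩ := IsPGroup.iff_card.mp hZ
    have h1 : Nat.card ↥Z * Z.relIndex L = Nat.card ↥L := by
      rw [← relIndex_bot_left (H := L), ← relIndex_bot_left (H := Z),
        relIndex_mul_relIndex _ _ _ bot_le hZL]
    rw [hk', hz, ← pow_add, hLcard, hl] at h1
    have : r ∣ s ^ (z + k') := h1 ▸ dvd_mul_of_dvd_left (dvd_pow_self r hl0) _
    exact hrs ((Nat.prime_dvd_prime_iff_eq hr Fact.out).mp (hr.dvd_of_dvd_pow this))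
  letI : CommGroup ↥M :=
    { (inferInstance : Group ↥M) with mul_comm := fun a b => Subtype.ext (hMab a a.2 b b.2) }
  haveI : Nontrivial ↥M := (nontrivial_iff_ne_bot M).mpr hMne
  let φ : H →* MulAut ↥M := MulAut.conjNormal
  have hφ : ∀ (x : H) (m : ↥M), φ x m = m → Commute x (m : H) := fun x m h => by
    have := congrArg Subtype.val h
    rw [MulAut.conjNormal_apply] at this
    exact mul_inv_eq_iff_eq_mul.mp this
  have hfpf : ∀ (x : H) (q : ℕ), q.Prime → q ≠ r → q ∣ orderOf (π x) → ∀ m : ↥M, φ x m = m → m = 1 := by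
    intro x q hq hqr hdvd m hm
    by_contra hm1
    obtain ⟨i, hi⟩ := orderOf_eq_pow hpp hq hdvd
    obtain ⟨j, hj⟩ := IsPGroup.iff_orderOf.mp hMr m
    refine not_commute_outside hpp (x := x) (y := (m : H))
      (fun h1 => hq.not_dvd_one (by rwa [h1, orderOf_one] at hdvd)) (hML m.2)
      (fun h => hm1 (Subtype.ext h)) (hφ x m hm) ?_
    rw [hi, Subgroup.orderOf_coe, hj]
    exact Nat.Coprime.pow _ _ ((Nat.coprime_primes hq hr).mpr hqr)
  by_cases hLM : L ≤ M
  · -- the quotient acts on `M`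
    have hker : L ≤ φ.ker := by
      intro x hx
      rw [MonoidHom.mem_ker]
      apply MulEquiv.ext
      intro m
      apply Subtype.ext
      rw [MulAut.conjNormal_apply, MulAut.one_apply, hMab x (hLM hx) m m.2, mul_inv_cancel_right]
    let ψ : Q →* MulAut ↥M := MonoidHom.liftOfSurjective π hπ ⟨φ, hker⟩
    have hψ : ∀ x, ψ (π x) = φ x := fun x =>
      MonoidHom.liftOfRightInverse_comp_apply π (Function.surjInv hπ) (Function.rightInverse_surjInv hπ) ⟨φ, hker⟩ x
    have hEfpf : Frobenius.IsFPF (ψ.comp E.subtype) := by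
      intro c hc m hm
      obtain ⟨x, hx⟩ := hπ (c : Q)
      refine hfpf x s Fact.out (Ne.symm hrs) ?_ m ?_
      · obtain ⟨i, hi, he⟩ := (Nat.dvd_prime_pow Fact.out).mp (hE ▸ orderOf_dvd_natCard c)
        rw [hx, Subgroup.orderOf_coe, he]
        refine dvd_pow_self s ?_
        rintro rfl
        exact hc (orderOf_eq_one_iff.mp (he.trans (pow_zero s)))
      · rw [← hψ, hx]; exact hm
    exact hEc (Frobenius.isCyclic_of_card_sq hEfpf s hE)
  -- the Sylow `s`-subgroup of `L`
  set DS : Sylow s ↥L := default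
  set D : Subgroup H := (DS : Subgroup ↥L).map L.subtype with hDdef
  have hDL : D ≤ L := map_subtype_le _
  have hDs : IsPGroup s ↥D := DS.isPGroup'.map _
  have hMD : M ⊔ D = L := by
    refine le_antisymm (sup_le hML hDL) (relIndex_eq_one.mp (relIndex_sup_eq_one k hk ?_))
    rw [relIndex, hDdef, Subgroup.subgroupOf, comap_map_eq_self_of_injective L.subtype_injective]
    exact DS.not_dvd_index
  have hdisj : ∀ x, x ∈ M → x ∈ D → x = 1 := by
    intro x h1 h2
    obtain ⟨i, hi⟩ := IsPGroup.iff_orderOf.mp hMr ⟨x, h1⟩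
    obtain ⟨j, hj⟩ := IsPGroup.iff_orderOf.mp hDs ⟨x, h2⟩
    rw [Subgroup.orderOf_mk] at hi hj
    rw [← orderOf_eq_one_iff]
    exact Nat.eq_one_of_dvd_coprimes ((Nat.coprime_primes hr Fact.out).mpr hrs |>.pow i j)
      (hi ▸ dvd_rfl) (hj ▸ dvd_rfl)
  have hfr : normalizer (D : Set H) ⊔ L = ⊤ := Sylow.normalizer_sup_eq_top DS
  have hKL : normalizer (D : Set H) ⊔ M = ⊤ := by
    rw [← top_le_iff, ← hfr, ← hMD]
    exact sup_le le_sup_left (sup_le le_sup_right ((le_normalizer (H := D)).trans le_sup_left))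
  set C : Subgroup H := M ⊓ centralizer (D : Set H) with hCdef
  have hCn : C.Normal := by
    rw [← normalizer_eq_top_iff, ← top_le_iff, ← hKL]
    refine sup_le ?_ ?_
    · intro x hx
      rw [mem_normalizer_iff]
      intro y
      simp only [SetLike.mem_coe, hCdef, mem_inf, mem_centralizer_iff]
      refine and_congr ⟨fun h => hMn.conj_mem y h x, fun h => by
        simpa [mul_assoc] using hMn.conj_mem _ h x⁻¹⟩ ⟨fun h d hd => ?_, fun h d hd => ?_⟩
      · have hd' := (mem_normalizer_iff.mp (inv_mem hx) d).mp hd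
        calc d * (x * y * x⁻¹) = x * ((x⁻¹ * d * x⁻¹⁻¹) * y) * x⁻¹ := by group
          _ = x * (y * (x⁻¹ * d * x⁻¹⁻¹)) * x⁻¹ := by rw [h _ hd']
          _ = x * y * x⁻¹ * d := by group
      · have := h _ ((mem_normalizer_iff.mp hx d).mp hd)
        calc d * y = x⁻¹ * ((x * d * x⁻¹) * (x * y * x⁻¹)) * x := by group
          _ = x⁻¹ * ((x * y * x⁻¹) * (x * d * x⁻¹)) * x := by rw [this]
          _ = y * d := by group
    · intro x hx
      rw [mem_normalizer_iff]
      intro y
      constructor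
      · intro hy
        rwa [hMab x hx y hy.1, mul_inv_cancel_right]
      · intro hy
        have h1 : y ∈ M := by simpa [mul_assoc] using hMn.conj_mem _ hy.1 x⁻¹
        rwa [hMab x hx y h1, mul_inv_cancel_right] at hy
  have hCbot : C = ⊥ := by
    by_contra hne
    have hMC : M ≤ C := hMmin ⟨hCn, hne, inf_le_left.trans hMA⟩ inf_le_left
    have hDn : D.Normal := by
      rw [← normalizer_eq_top_iff, ← top_le_iff, ← hKL]
      refine sup_le le_rfl fun x hx => ?_
      apply centralizer_le_normalizer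
      exact (hMC hx).2
    have := @hnoS D hDn hDL hDs
    exact hLM (by rw [← hMD, this, sup_bot_eq])
  have hKLD : ∀ x, x ∈ normalizer (D : Set H) → x ∈ L → x ∈ D := by
    intro x hx hxL
    rw [← hMD, ← SetLike.mem_coe, normal_mul] at hxL
    obtain ⟨m, hm, d, hd, rfl⟩ := Set.mem_mul.mp hxL
    have hmK : m ∈ normalizer (D : Set H) :=
      (Subgroup.mul_mem_cancel_right _ (le_normalizer hd)).mp hx
    have : m ∈ C := by
      refine ⟨hm, mem_centralizer_iff.mpr fun e he => ?_⟩
      have h1 : m * e * m⁻¹ * e⁻¹ ∈ D := mul_mem ((mem_normalizer_iff.mp hmK e).mp he) (inv_mem he)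
      have h2 : m * e * m⁻¹ * e⁻¹ ∈ M := by
        rw [show m * e * m⁻¹ * e⁻¹ = m * (e * m⁻¹ * e⁻¹) from by group]
        exact mul_mem hm (hMn.conj_mem _ (inv_mem hm) e)
      calc e * m = (m * e * m⁻¹ * e⁻¹)⁻¹ * (m * e) := by group
        _ = m * e := by rw [hdisj _ h2 h1, inv_one, one_mul]
    rw [hCbot, mem_bot] at this
    simpa [this] using hd
  obtain ⟨t, htp, htQ, htr, hts⟩ := ht r
  haveI := Fact.mk htp
  obtain ⟨q, hq⟩ := exists_prime_orderOf_dvd_card' (G := Q) t htQ
  obtain ⟨x, rfl⟩ := hπ q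
  have hxmem : x ∈ (↑(normalizer (D : Set H)) : Set H) * (↑L : Set H) := by
    rw [← mul_normal, hfr]; trivial
  obtain ⟨u, hu, l', hl', rfl⟩ := Set.mem_mul.mp hxmem
  have hπu : orderOf (π u) = t := by rwa [map_mul, MonoidHom.mem_ker.mp hl', mul_one] at hq
  obtain ⟨i, hi⟩ := orderOf_eq_pow hpp htp (dvd_of_eq hπu.symm)
  have hut : u ^ t = 1 := by
    have h1 : u ^ t ∈ D := hKLD _ (pow_mem hu t) (MonoidHom.mem_ker.mpr (by
      rw [map_pow, ← hπu]; exact pow_orderOf_eq_one _))
    obtain ⟨j, hj⟩ := IsPGroup.iff_orderOf.mp hDs ⟨_, h1⟩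
    rw [Subgroup.orderOf_mk] at hj
    rw [← orderOf_eq_one_iff]
    exact Nat.eq_one_of_dvd_coprimes ((Nat.coprime_primes htp Fact.out).mpr hts |>.pow i j)
      (hi ▸ orderOf_pow_dvd t) (hj ▸ dvd_rfl)
  have hcentD : ∀ d ∈ D, Commute u d → d = 1 := by
    intro d hd hc
    by_contra hd1
    obtain ⟨j, hj⟩ := IsPGroup.iff_orderOf.mp hDs ⟨d, hd⟩
    rw [Subgroup.orderOf_mk] at hj
    exact not_commute_outside hpp (fun h1 => htp.ne_one (by rw [← hπu, h1, orderOf_one]))
      (hDL hd) hd1 hc (by rw [hi, hj]; exact (Nat.coprime_primes htp Fact.out).mpr hts |>.pow i j)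
  haveI : Fintype ↥D := Fintype.ofFinite _
  have hsum : ∀ v : ↥M, v ^ Nat.card ↥D = 1 := by
    intro v
    have h1 : ∀ d : ↥D, ∏ j ∈ Finset.range t, φ ((d : H) * u ^ j * (d : H)⁻¹) v = 1 := by
      intro d
      simp only [← conj_pow]
      refine hfpf ((d : H) * u * (d : H)⁻¹) t htp htr ?_ _
        (cyc_fixed φ (by rw [conj_pow, hut, mul_one, mul_inv_cancel]) v)
      rw [map_mul, map_mul, map_inv, MonoidHom.mem_ker.mp (hDL d.2), one_mul, inv_one, mul_one, hπu]
    have h2 : ∀ j ∈ Finset.range t, j ≠ 0 →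
        ∏ d : ↥D, φ ((d : H) * u ^ j * (d : H)⁻¹) v = 1 := by
      intro j hj hj0
      let σ : ↥D → ↥D := fun d => ⟨(d : H) * (u ^ j * (d : H)⁻¹ * (u ^ j)⁻¹),
        mul_mem d.2 ((mem_normalizer_iff.mp (pow_mem hu j) _).mp (inv_mem d.2))⟩
      have hσ : Function.Injective σ := by
        intro d e hde
        have h3 : (d : H) * (u ^ j * (d : H)⁻¹ * (u ^ j)⁻¹) = (e : H) * (u ^ j * (e : H)⁻¹ * (u ^ j)⁻¹) :=
          congrArg Subtype.val hde
        have hc : Commute (u ^ j) ((e : H)⁻¹ * d) := by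
          have := congrArg (fun z => (e : H)⁻¹ * z * (u ^ j) * (d : H)) h3
          simp only [mul_assoc, inv_mul_cancel_left, inv_mul_cancel, mul_one] at this
          show u ^ j * ((e : H)⁻¹ * d) = (e : H)⁻¹ * d * u ^ j
          rw [mul_assoc ((e : H)⁻¹) (d : H)]
          exact this.symm
        have hju : (orderOf u).Coprime j := by
          refine Nat.Coprime.coprime_dvd_left (orderOf_dvd_iff_pow_eq_one.mpr hut) ?_
          exact htp.coprime_iff_not_dvd.mpr
            (Nat.not_dvd_of_pos_of_lt (Nat.pos_of_ne_zero hj0) (Finset.mem_range.mp hj))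
        obtain ⟨m, hm⟩ := exists_pow_eq_self_of_coprime hju.symm
        have := hc.pow_left m
        rw [hm] at this
        exact (Subtype.ext (inv_mul_eq_one.mp (hcentD _ (mul_mem (inv_mem e.2) d.2) this))).symm
      have h4 : ∏ d : ↥D, φ ((d : H) * u ^ j * (d : H)⁻¹) v =
          ∏ d : ↥D, φ (d : H) (φ (u ^ j) v) := by
        refine Fintype.prod_bijective σ ⟨hσ, Finite.injective_iff_surjective.mp hσ⟩ _ _ fun d => ?_
        rw [← MulAut.mul_apply, ← map_mul]
        simp [σ, mul_assoc]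
      rw [h4]
      set w := ∏ d : ↥D, φ (d : H) (φ (u ^ j) v)
      have hw : (w : H) ∈ C := by
        refine ⟨w.2, mem_centralizer_iff.mpr fun d hd => hφ d w ?_⟩
        show φ d (∏ e : ↥D, φ (e : H) (φ (u ^ j) v)) = _
        rw [map_prod]
        refine Fintype.prod_equiv (Equiv.mulLeft (⟨d, hd⟩ : ↥D)) _ _ fun e => ?_
        rw [← MulAut.mul_apply, ← map_mul]
        rfl
      rw [hCbot, mem_bot] at hw
      exact Subtype.ext hw
    have h5 : ∏ j ∈ Finset.range t, ∏ d : ↥D, φ ((d : H) * u ^ j * (d : H)⁻¹) v = 1 := by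
      rw [Finset.prod_comm]
      exact Finset.prod_eq_one fun d _ => h1 d
    rw [Finset.prod_eq_single 0 h2 (fun h => absurd (Finset.mem_range.mpr htp.pos) h)] at h5
    simpa [Finset.prod_const, Nat.card_eq_fintype_card] using h5
  obtain ⟨d, hd⟩ := IsPGroup.iff_card.mp hDs
  exact Frobenius.exists_ne_of_pow_eq_one (M := ↥M)
    (by rw [hd, hl]; exact (Nat.coprime_primes Fact.out hr).mpr (Ne.symm hrs) |>.pow d l) hsum

theorem isSolvable_kernel {Q : Type u} [Group Q] [Finite Q] {s : ℕ} [Fact s.Prime] (E : Subgroup Q)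
    (hE : Nat.card ↥E = s ^ 2) (hEc : ¬ IsCyclic ↥E)
    (ht : ∀ r : ℕ, ∃ t : ℕ, t.Prime ∧ t ∣ Nat.card Q ∧ t ≠ r ∧ t ≠ s) (n : ℕ) :
    ∀ (H : Type u) [Group H] [Finite H] (π : H →* Q), Nat.card H ≤ n → Function.Surjective π →
      OutsidePP π → Group.IsSolvable ↥π.ker := by
  induction n with
  | zero => intro H _ _ π hn; exact absurd hn (by have := Nat.card_pos (α := H); omega)
  | succ n ih =>
  intro H _ _ π hn hπ hpp
  by_contra hsol
  have hr : ∃ r : ℕ, r.Prime ∧ r ∣ Nat.card ↥π.ker ∧ r ≠ s := by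
    by_contra hno
    push Not at hno
    have : IsPGroup s ↥π.ker := IsPGroup.of_card
      (Nat.eq_prime_pow_of_unique_prime_dvd Nat.card_pos.ne' fun hd h => hno _ hd h)
    haveI := this.isNilpotent
    exact hsol inferInstance
  obtain ⟨r, hr, hrd, hrs⟩ := hr
  haveI := Fact.mk hr
  set R : Sylow r ↥π.ker := default
  set R0 : Subgroup H := (R : Subgroup ↥π.ker).map π.ker.subtype with hR0
  have hR0ne : R0 ≠ ⊥ := by
    intro h
    rw [hR0, map_eq_bot_iff_of_injective _ π.ker.subtype_injective] at h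
    exact R.ne_bot_of_dvd_card hrd h
  by_cases hnorm : R0.Normal
  · haveI := hnorm
    have hlt : Nat.card (H ⧸ R0) ≤ n := by
      rw [← index_eq_card]
      have h1 := R0.one_lt_card_iff_ne_bot.mpr hR0ne
      have h2 := R0.card_mul_index
      nlinarith
    have hle : R0 ≤ π.ker := map_subtype_le _
    have hs := ih (H ⧸ R0) (QuotientGroup.lift R0 π hle) hlt
      (QuotientGroup.lift_surjective_of_surjective R0 π hπ hle) (outsidePP_lift hpp R0 hle)
    haveI : Group.IsSolvable ↥R0 := by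
      haveI := (R.isPGroup'.map π.ker.subtype : IsPGroup r ↥R0).isNilpotent
      infer_instance
    apply hsol
    let f : ↥π.ker →* ↥(QuotientGroup.lift R0 π hle).ker :=
      ((QuotientGroup.mk' R0).comp π.ker.subtype).codRestrict _ fun x => MonoidHom.mem_ker.mpr x.2
    have hf : f.ker ≤ (Subgroup.inclusion hle).range := by
      intro x hx
      exact ⟨⟨x, (QuotientGroup.eq_one_iff _).mp (congrArg Subtype.val hx)⟩, rfl⟩
    exact Group.isSolvable_of_ker_le_range (Subgroup.inclusion hle) f hf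
  · set K := normalizer (R0 : Set H)
    have hK : K ≠ ⊤ := fun h => hnorm (normalizer_eq_top_iff.mp h)
    have hlt : Nat.card ↥K ≤ n := by
      have h1 := one_lt_index_of_ne_top hK
      have h2 := K.card_mul_index
      nlinarith
    have hsurj : Function.Surjective (π.comp K.subtype) := by
      intro q
      obtain ⟨x, rfl⟩ := hπ q
      have : x ∈ (↑K : Set H) * (↑π.ker : Set H) := by
        rw [← mul_normal, Sylow.normalizer_sup_eq_top R]; trivial
      obtain ⟨a, ha, b, hb, rfl⟩ := Set.mem_mul.mp this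
      exact ⟨⟨a, ha⟩, by rw [map_mul, MonoidHom.mem_ker.mp hb, mul_one]; rfl⟩
    have hs := ih ↥K (π.comp K.subtype) hlt hsurj (outsidePP_comp hpp K)
    have hp := kernel_isPGroup E hE hEc ht _ ↥K (π.comp K.subtype) le_rfl hsurj
      (outsidePP_comp hpp K) hs
    obtain ⟨y, hy⟩ := exists_prime_orderOf_dvd_card' (G := ↥(R : Subgroup ↥π.ker)) r (by
      obtain ⟨m, hm, he⟩ := R.isPGroup'.nontrivial_iff_card.mp
        ((nontrivial_iff_ne_bot _).mpr (R.ne_bot_of_dvd_card hrd))
      exact he ▸ dvd_pow_self r hm.ne')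
    have hyK : ((y : ↥π.ker) : H) ∈ K := le_normalizer ⟨_, y.2, rfl⟩
    obtain ⟨j, hj⟩ := IsPGroup.iff_orderOf.mp hp
      ⟨⟨_, hyK⟩, MonoidHom.mem_ker.mpr (MonoidHom.mem_ker.mp (y : ↥π.ker).2)⟩
    rw [Subgroup.orderOf_mk, Subgroup.orderOf_mk, Subgroup.orderOf_coe, Subgroup.orderOf_coe, hy] at hj
    exact hrs ((Nat.prime_dvd_prime_iff_eq hr Fact.out).mp (hr.dvd_of_dvd_pow (n := j) (hj ▸ dvd_rfl)))

theorem exists_elementary [IsSimpleGroup G] (hns : ¬ Group.IsSolvable G)
    (hpp : ∀ x : G, x ≠ 1 → IsPrimePow (orderOf x)) :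
    ∃ (E : Subgroup G), Nat.card ↥E = (Nat.card G).minFac ^ 2 ∧ ¬ IsCyclic ↥E := by
  set s := (Nat.card G).minFac with hsdef
  have hG1 : Nat.card G ≠ 1 := Finite.one_lt_card.ne'
  haveI := Fact.mk (Nat.minFac_prime hG1)
  by_contra hno
  push Not at hno
  set P : Sylow s G := default
  have hPt : (P : Subgroup G) ≠ ⊤ := by
    intro h
    have hG : IsPGroup s G := (h ▸ P.isPGroup' : IsPGroup s ↥(⊤ : Subgroup G)).of_equiv topEquiv
    haveI := hG.isNilpotent
    exact hns inferInstance
  have hPb : (P : Subgroup G) ≠ ⊥ := P.ne_bot_of_dvd_card (Nat.minFac_dvd _)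
  haveI : Nontrivial ↥(P : Subgroup G) := (nontrivial_iff_ne_bot _).mpr hPb
  haveI : Nontrivial ↥(center ↥(P : Subgroup G)) := P.isPGroup'.center_nontrivial
  have hd : s ∣ Nat.card ↥(center ↥(P : Subgroup G)) := by
    obtain ⟨m, hm, he⟩ := (P.isPGroup'.to_subgroup _).nontrivial_iff_card.mp ‹_›
    exact he ▸ dvd_pow_self s hm.ne'
  obtain ⟨z', hz'⟩ := exists_prime_orderOf_dvd_card' s hd
  set z : G := ((z' : ↥(P : Subgroup G)) : G) with hzdef
  have hzP : z ∈ (P : Subgroup G) := (z' : ↥(P : Subgroup G)).2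
  have hzs : orderOf z = s := by rw [hzdef, Subgroup.orderOf_coe, Subgroup.orderOf_coe, hz']
  have hzc : ∀ w ∈ (P : Subgroup G), Commute z w := fun w hw =>
    (congrArg Subtype.val (mem_center_iff.mp z'.2 ⟨w, hw⟩)).symm
  have huniq : ∀ y ∈ (P : Subgroup G), y ^ s = 1 → y ∈ zpowers z := by
    intro y hy hys
    by_contra hnot
    have hy1 : y ≠ 1 := fun h => hnot (h ▸ one_mem _)
    have hyo : orderOf y = s := orderOf_eq_prime hys hy1
    have hcomm : ∀ (a : ↥(zpowers z)) (b : ↥(zpowers y)),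
        Commute ((zpowers z).subtype a) ((zpowers y).subtype b) := by
      rintro ⟨a, ha⟩ ⟨b, hb⟩
      obtain ⟨i, rfl⟩ := mem_zpowers_iff.mp ha
      obtain ⟨j, rfl⟩ := mem_zpowers_iff.mp hb
      exact (hzc y hy).zpow_zpow i j
    set f := (zpowers z).subtype.noncommCoprod (zpowers y).subtype hcomm
    have hf : Function.Injective f := by
      rw [MonoidHom.noncommCoprod_injective]
      refine ⟨subtype_injective _, subtype_injective _, ?_⟩
      rw [range_subtype, range_subtype]
      rw [Subgroup.disjoint_def]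
      intro w hw1 hw2
      by_contra hw
      have : zpowers y ≤ zpowers z := by
        have e : zpowers w = zpowers y := Subgroup.eq_of_le_of_card_ge (zpowers_le.mpr hw2) (by
          rw [Nat.card_zpowers, Nat.card_zpowers, hyo]
          refine (Nat.le_of_eq ?_)
          refine (orderOf_eq_prime ?_ hw).symm
          obtain ⟨j, rfl⟩ := mem_zpowers_iff.mp hw2
          rw [← zpow_natCast, zpow_comm, zpow_natCast, hys, one_zpow])
        exact e ▸ zpowers_le.mpr hw1
      exact hnot (this (mem_zpowers y))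
    have hc : Nat.card ↥f.range = s ^ 2 := by
      rw [← Nat.card_congr (MonoidHom.ofInjective hf).toEquiv, Nat.card_prod, Nat.card_zpowers,
        Nat.card_zpowers, hzs, hyo, sq]
    obtain ⟨g, hg⟩ := (hno f.range hc).exists_generator
    have hgo : orderOf g = s ^ 2 := (orderOf_eq_card_of_forall_mem_zpowers hg).trans hc
    obtain ⟨ab, hab⟩ := g.2
    have : g ^ s = 1 := by
      apply Subtype.ext
      rw [Subgroup.coe_pow, ← hab, ← map_pow]
      have : ab ^ s = 1 := by
        apply Prod.ext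
        · rw [Prod.pow_fst, Prod.fst_one, ← orderOf_dvd_iff_pow_eq_one]
          exact (orderOf_dvd_natCard ab.1).trans (by rw [Nat.card_zpowers, hzs])
        · rw [Prod.pow_snd, Prod.snd_one, ← orderOf_dvd_iff_pow_eq_one]
          exact (orderOf_dvd_natCard ab.2).trans (by rw [Nat.card_zpowers, hyo])
      rw [this, map_one, OneMemClass.coe_one]
    have h1 := Nat.le_of_dvd (Fact.out : s.Prime).pos (hgo ▸ orderOf_dvd_iff_pow_eq_one.mpr this)
    have := (Fact.out : s.Prime).two_le
    nlinarith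
  have hCz : centralizer ({z} : Set G) = P := by
    refine P.is_maximal' ?_ fun w hw =>
      mem_centralizer_singleton_iff.mpr (hzc w hw).symm
    rw [IsPGroup.iff_orderOf]
    intro w
    refine ⟨_, Nat.eq_prime_pow_of_unique_prime_dvd (orderOf_pos w).ne' fun {d} hd hdw => ?_⟩
    by_contra hne
    have hwz : Commute (w : G) z := mem_centralizer_singleton_iff.mp w.2
    set v := (w : G) ^ (orderOf (w : G) / d)
    have hv : orderOf v = d := by
      rw [← Subgroup.orderOf_coe] at hdw
      exact orderOf_pow_orderOf_div (orderOf_pos _).ne' hdw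
    have hvz : Commute v z := hwz.pow_left _
    have hco : (orderOf v).Coprime (orderOf z) := by
      rw [hv, hzs]; exact (Nat.coprime_primes hd Fact.out).mpr hne
    have hne1 : v * z ≠ 1 := by
      intro h1
      have := hvz.orderOf_mul_eq_mul_orderOf_of_coprime hco
      rw [h1, orderOf_one, hv, hzs] at this
      exact hd.ne_one (Nat.eq_one_of_mul_eq_one_right this.symm)
    obtain ⟨q, m, hq, -, hm⟩ := (isPrimePow_nat_iff _).mp (hpp _ hne1)
    rw [hvz.orderOf_mul_eq_mul_orderOf_of_coprime hco, hv, hzs] at hm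
    exact hne (((Nat.prime_dvd_prime_iff_eq hd hq).mp (hd.dvd_of_dvd_pow (n := m) (hm ▸ dvd_mul_right _ _))).trans
      ((Nat.prime_dvd_prime_iff_eq Fact.out hq).mp
        ((Fact.out : s.Prime).dvd_of_dvd_pow (n := m) (hm ▸ dvd_mul_left _ _))).symm)
  have hnorm : ∀ g : G, g * z * g⁻¹ ∈ zpowers z → g ∈ (P : Subgroup G) := by
    intro g hg
    obtain ⟨i, hi⟩ := mem_powers_iff_mem_zpowers.mpr hg
    simp only at hi
    have hiter : ∀ k : ℕ, g ^ k * z * (g ^ k)⁻¹ = z ^ (i ^ k) := by
      intro k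
      induction k with
      | zero => simp
      | succ k ihk =>
        calc g ^ (k + 1) * z * (g ^ (k + 1))⁻¹ = g * (g ^ k * z * (g ^ k)⁻¹) * g⁻¹ := by group
          _ = (g * z * g⁻¹) ^ (i ^ k) := by rw [ihk, conj_pow]
          _ = z ^ (i ^ (k + 1)) := by rw [← hi, ← pow_mul, pow_succ']
    have hi0 : ¬ s ∣ i := by
      intro hd
      have : g * z * g⁻¹ = 1 := by
        rw [← hi, ← orderOf_dvd_iff_pow_eq_one, hzs]; exact hd
      rw [conj_eq_one_iff] at this
      rw [this, orderOf_one] at hzs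
      exact (Fact.out : s.Prime).ne_one hzs.symm
    have hF : i ^ (s - 1) ≡ 1 [MOD s] := by
      have := Nat.ModEq.pow_totient (((Fact.out : s.Prime).coprime_iff_not_dvd.mpr hi0).symm)
      rwa [Nat.totient_prime Fact.out] at this
    have hc : g ^ (s - 1) ∈ centralizer ({z} : Set G) := by
      rw [mem_centralizer_singleton_iff, ← mul_inv_eq_iff_eq_mul, hiter]
      conv_rhs => rw [← pow_one z]
      rw [pow_eq_pow_iff_modEq, hzs]
      exact hF
    have hcop : (s - 1).Coprime (orderOf g) := by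
      refine Nat.coprime_of_dvd fun d hd h1 h2 => ?_
      have h3 := Nat.minFac_le_of_dvd hd.two_le (h2.trans (orderOf_dvd_natCard g))
      have hs2 : 2 ≤ s := (Nat.minFac_prime hG1).two_le
      have h4 : d ≤ s - 1 := Nat.le_of_dvd (by omega) h1
      have h3' : s ≤ d := h3
      omega
    obtain ⟨m, hm⟩ := exists_pow_eq_self_of_coprime hcop
    rw [← hCz, ← hm]
    exact pow_mem hc m
  have hF : IsFrobeniusComplement (P : Subgroup G) := by
    refine Frobenius.isFrobeniusComplement_of hPb hPt fun g x hx hx1 hgx => ?_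
    obtain ⟨j, hj⟩ := IsPGroup.iff_orderOf.mp P.isPGroup' ⟨x, hx⟩
    rw [Subgroup.orderOf_mk] at hj
    have hj0 : j ≠ 0 := by
      rintro rfl
      exact hx1 (orderOf_eq_one_iff.mp (hj.trans (pow_zero s)))
    set y := x ^ (orderOf x / s)
    have hy : orderOf y = s :=
      orderOf_pow_orderOf_div (orderOf_pos x).ne' (hj ▸ dvd_pow_self s hj0)
    have hys : y ^ s = 1 := hy ▸ pow_orderOf_eq_one y
    have hyz : zpowers y = zpowers z := Subgroup.eq_of_le_of_card_ge
      (zpowers_le.mpr (huniq y (pow_mem hx _) hys)) (by rw [Nat.card_zpowers, Nat.card_zpowers, hy, hzs])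
    have hgy : g⁻¹ * y * g ∈ zpowers z := by
      refine huniq _ ?_ ?_
      · have := pow_mem hgx (orderOf x / s)
        rwa [show (g⁻¹ * x * g) ^ (orderOf x / s) = g⁻¹ * y * g by
          simpa using conj_pow (i := orderOf x / s) (a := g⁻¹) (b := x)] at this
      · have := conj_pow (i := s) (a := g⁻¹) (b := y)
        rw [inv_inv, hys, mul_one, inv_mul_cancel] at this
        exact this
    have hg : g⁻¹ * z * g⁻¹⁻¹ ∈ zpowers z := by
      obtain ⟨i, hi⟩ := mem_zpowers_iff.mp (hyz ▸ mem_zpowers z : z ∈ zpowers y)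
      rw [← hi, ← conj_zpow, inv_inv]
      exact zpow_mem (hi.symm ▸ hgy) i
    exact inv_mem_iff.mp (hnorm g⁻¹ hg)
  haveI := Frobenius.kernel_normal hF
  rcases (Frobenius.kernel_normal hF).eq_bot_or_eq_top with h | h
  · have hc := (Frobenius.kernel_isComplement hF)
    rw [h, isComplement'_bot_left] at hc
    exact hPt hc
  · have hc := (Frobenius.kernel_isComplement hF)
    rw [h, isComplement'_top_left] at hc
    exact hPb hc

theorem exists_third_prime (hns : ¬ Group.IsSolvable G) (a b : ℕ) :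
    ∃ t : ℕ, t.Prime ∧ t ∣ Nat.card G ∧ t ≠ a ∧ t ≠ b := by
  classical
  by_contra hno
  push Not at hno
  apply hns
  set T := (Nat.card G).primeFactors with hT
  have hsub : T ⊆ {a, b} := fun t ht => by
    rw [Finset.mem_insert, Finset.mem_singleton]
    exact or_iff_not_imp_left.mpr
      (hno t (Nat.prime_of_mem_primeFactors ht) (Nat.dvd_of_mem_primeFactors ht))
  have hprod := (Nat.prod_factorization_pow_eq_self (n := Nat.card G) Nat.card_pos.ne').symm
  rw [Finsupp.prod, Nat.support_factorization, ← hT] at hprod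
  have hp : ∀ x ∈ T, x.Prime := fun x hx => Nat.prime_of_mem_primeFactors hx
  by_cases ha : a ∈ T <;> by_cases hb : b ∈ T
  · by_cases hab : a = b
    · subst hab
      have : T = {a} := Finset.Subset.antisymm (by simpa using hsub) (by simpa using ha)
      rw [this, Finset.prod_singleton] at hprod
      exact Cfsg.Agent.S0144.result (G := G) a a ((Nat.card G).factorization a) 0 (hp a ha) (hp a ha)
        (by rw [pow_zero, mul_one]; exact hprod)
    · have : T = {a, b} := Finset.Subset.antisymm hsub (by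
        intro x hx; rcases Finset.mem_insert.mp hx with rfl | h
        · exact ha
        · rw [Finset.mem_singleton] at h; exact h ▸ hb)
      rw [this, Finset.prod_pair hab] at hprod
      exact Cfsg.Agent.S0144.result (G := G) a b _ _ (hp a ha) (hp b hb) hprod
  · have : T = {a} := Finset.Subset.antisymm (fun x hx => by
      rcases Finset.mem_insert.mp (hsub hx) with rfl | h
      · simp
      · rw [Finset.mem_singleton] at h; exact absurd (h ▸ hx) hb) (by simpa using ha)
    rw [this, Finset.prod_singleton] at hprod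
    exact Cfsg.Agent.S0144.result (G := G) a a ((Nat.card G).factorization a) 0 (hp a ha) (hp a ha)
        (by rw [pow_zero, mul_one]; exact hprod)
  · have : T = {b} := Finset.Subset.antisymm (fun x hx => by
      rcases Finset.mem_insert.mp (hsub hx) with rfl | h
      · exact absurd hx ha
      · exact h) (by simpa using hb)
    rw [this, Finset.prod_singleton] at hprod
    exact Cfsg.Agent.S0144.result (G := G) b b ((Nat.card G).factorization b) 0 (hp b hb) (hp b hb)
        (by rw [pow_zero, mul_one]; exact hprod)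
  · have : T = ∅ := Finset.eq_empty_of_forall_notMem fun x hx => by
      rcases Finset.mem_insert.mp (hsub hx) with rfl | h
      · exact ha hx
      · rw [Finset.mem_singleton] at h; exact hb (h ▸ hx)
    rw [this, Finset.prod_empty] at hprod
    exact Cfsg.Agent.S0144.result (G := G) 2 2 0 0 Nat.prime_two Nat.prime_two (by simp [hprod])

theorem quotient_isSolvable (N : Subgroup G) [N.Normal] (hns : ¬ Group.IsSolvable ↥N)
    (h : ∀ x : G, x ∉ N → IsPrimePow (orderOf x)) : Group.IsSolvable (G ⧸ N) := by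
  by_contra hq
  obtain ⟨K, hK, hKmin⟩ := Set.Finite.exists_minimal
    (s := {K : Subgroup (G ⧸ N) | ¬ Group.IsSolvable ↥K}) (Set.toFinite _)
    ⟨⊤, fun hs => hq (Group.isSolvable_of_surjective (f := (topEquiv : ↥(⊤ : Subgroup (G ⧸ N)) ≃* G ⧸ N).toMonoidHom) (topEquiv : ↥(⊤ : Subgroup (G ⧸ N)) ≃* G ⧸ N).surjective)⟩
  haveI hKnt : Nontrivial ↥K := not_subsingleton_iff_nontrivial.mp fun hs => hK inferInstance
  obtain ⟨J, hJ, hJmax⟩ := Set.Finite.exists_maximal
    (s := {J : Subgroup ↥K | J.Normal ∧ J ≠ ⊤}) (Set.toFinite _) ⟨⊥, inferInstance, bot_ne_top⟩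
  haveI := hJ.1
  have hJs : Group.IsSolvable ↥J := by
    by_contra hJs
    refine hJ.2 ?_
    have h1 : J.map K.subtype = K := le_antisymm (map_subtype_le J) (hKmin (fun hs =>
      hJs (Group.isSolvable_of_surjective (f := (J.equivMapOfInjective K.subtype K.subtype_injective).symm.toMonoidHom)
        (MulEquiv.surjective _))) (map_subtype_le J))
    apply Subgroup.map_injective K.subtype_injective
    rw [h1, ← MonoidHom.range_eq_map, range_subtype]
  haveI : Nontrivial (↥K ⧸ J) := Finite.one_lt_card_iff_nontrivial.mp (by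
    rw [← index_eq_card]; exact one_lt_index_of_ne_top hJ.2)
  haveI : IsSimpleGroup (↥K ⧸ J) := by
    refine ⟨fun B hB => or_iff_not_imp_right.mpr fun hBt => ?_⟩
    haveI := hB
    have hle : J ≤ B.comap (QuotientGroup.mk' J) := fun x hx => by
      rw [mem_comap, QuotientGroup.mk'_apply, (QuotientGroup.eq_one_iff x).mpr hx]
      exact one_mem B
    have := hJmax ⟨inferInstance, fun ht => hBt (by
      rw [← map_comap_eq_self_of_surjective (QuotientGroup.mk'_surjective J) B, ht,
        map_top_of_surjective _ (QuotientGroup.mk'_surjective J)])⟩ hle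
    rw [← map_comap_eq_self_of_surjective (QuotientGroup.mk'_surjective J) B,
      le_antisymm this hle, QuotientGroup.map_mk'_self]
  have hQns : ¬ Group.IsSolvable (↥K ⧸ J) := fun hs =>
    hK ((Group.isSolvable_iff_subgroup_quotient J).mpr ⟨hJs, hs⟩)
  set A := K.comap (QuotientGroup.mk' N)
  let π : ↥A →* ↥K ⧸ J := (QuotientGroup.mk' J).comp
    (((QuotientGroup.mk' N).comp A.subtype).codRestrict K fun x => x.2)
  have hπ : Function.Surjective π := by
    intro q
    obtain ⟨⟨k, hk⟩, rfl⟩ := QuotientGroup.mk'_surjective J q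
    obtain ⟨g, rfl⟩ := QuotientGroup.mk'_surjective N k
    exact ⟨⟨g, hk⟩, rfl⟩
  have hNA : N ≤ A := fun x hx => by
    rw [mem_comap, QuotientGroup.mk'_apply, (QuotientGroup.eq_one_iff x).mpr hx]
    exact one_mem K
  have hker : ∀ x : ↥A, (x : G) ∈ N → π x = 1 := fun x hx => by
    refine (QuotientGroup.eq_one_iff _).mpr ?_
    rw [show ((((QuotientGroup.mk' N).comp A.subtype).codRestrict K fun x => x.2) x) = 1 from
      Subtype.ext ((QuotientGroup.eq_one_iff _).mpr hx)]
    exact one_mem J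
  have hpp : OutsidePP π := by
    intro x hx
    rw [← Subgroup.orderOf_coe]
    exact h _ fun hxN => hx (hker x hxN)
  have hqpp : ∀ q : ↥K ⧸ J, q ≠ 1 → IsPrimePow (orderOf q) := by
    intro q hq
    obtain ⟨x, rfl⟩ := hπ q
    exact (hpp x hq).dvd (orderOf_map_dvd π x) (fun h1 => hq (orderOf_eq_one_iff.mp h1))
  obtain ⟨E, hE, hEc⟩ := exists_elementary hQns hqpp
  haveI := Fact.mk (Nat.minFac_prime (n := Nat.card (↥K ⧸ J)) Finite.one_lt_card.ne')
  have hs := isSolvable_kernel E hE hEc (fun r => exists_third_prime hQns r _) _ ↥A π le_rfl hπ hpp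
  apply hns
  let f : ↥N →* ↥π.ker := (Subgroup.inclusion hNA).codRestrict π.ker fun x => hker _ x.2
  exact Group.isSolvable_of_isSolvable_injective (f := f) fun a b hab => by
    have e : (((f a : ↥π.ker) : ↥A) : G) = (((f b : ↥π.ker) : ↥A) : G) := by rw [hab]
    exact Subtype.ext e

end Cfsg.Agent.H73
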