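import Cfsg.Agent.CharInduce.CoprimeExt
import Cfsg.Agent.CharInduce.Induce
import Cfsg.Agent.H43.Galois
import Cfsg.Agent.H83.ClassConst

/-!
Characters fixed by the field automorphisms that fix the `m`-th roots of unity, and extensions of
invariant characters of a normal subgroup of coprime index having this property.
-/

set_option autoImplicit false
set_option linter.style.haveILetI false

namespace Cfsg.Agent.H73.PRat

open Cfsg.Agent.CharInduce Cfsg.Agent.CharBasic
open Cfsg

universe u

/-- `f` is fixed by every automorphism of `ℂ` fixing the `m`-th roots of unity. -/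
def FixedBy {X : Type*} (f : X → ℂ) (m : ℕ) : Prop :=
  ∀ σ : ℂ ≃+* ℂ, (∀ z : ℂ, z ^ m = 1 → σ z = z) → ∀ x, σ (f x) = f x

theorem fixedBy_of_isCharacter {N : Type*} [Group N] [Finite N] {θ : N → ℂ}
    (h : IsCharacter N θ) : FixedBy θ (Nat.card N) := fun σ hσ g =>
  H43.aut_eq_on_value (H43.gen_of_char h) g σ (RingEquiv.refl ℂ) fun z hz => hσ z (by
    obtain ⟨k, hk⟩ := orderOf_dvd_natCard g
    rw [hk, pow_mul, hz, one_pow])

/-- The determinant commutes with automorphisms of `ℂ`. -/
theorem aut_detChar {G : Type*} [Group G] [Finite G] (σ : ℂ ≃+* ℂ) {χ : G → ℂ}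
    (h : IsCharacter G χ) : detChar (fun g => σ (χ g)) = fun g => σ (detChar χ g) := by
  obtain ⟨n, ρ, rfl⟩ := h
  let ρ' : Representation ℂ G (Fin n → ℂ) :=
    { toFun := fun g => Matrix.toLin' ((LinearMap.toMatrix' (ρ g)).map σ)
      map_one' := by simp [Module.End.one_eq_id]
      map_mul' := fun a b => by
        rw [map_mul, Module.End.mul_eq_comp, LinearMap.toMatrix'_comp,
          show (LinearMap.toMatrix' (ρ a) * LinearMap.toMatrix' (ρ b)).map σ =
            (LinearMap.toMatrix' (ρ a)).map σ * (LinearMap.toMatrix' (ρ b)).map σ from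
            Matrix.map_mul (f := σ.toRingHom), Matrix.toLin'_mul]
        rfl }
  have hρ' : ρ'.character = fun g => σ (ρ.character g) := funext fun g => by
    show LinearMap.trace ℂ _ (Matrix.toLin' ((LinearMap.toMatrix' (ρ g)).map σ)) = σ (ρ.character g)
    rw [Matrix.trace_toLin'_eq, Representation.character, ← Matrix.toLin'_toMatrix' (ρ g),
      Matrix.trace_toLin'_eq, Matrix.toLin'_toMatrix']
    exact (AddMonoidHom.map_trace σ.toRingHom.toAddMonoidHom _).symm
  rw [detChar_eq ρ' hρ', detChar_eq ρ rfl]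
  funext g
  show LinearMap.det (Matrix.toLin' ((LinearMap.toMatrix' (ρ g)).map σ)) = σ (LinearMap.det (ρ g))
  rw [LinearMap.det_toLin', ← LinearMap.det_toMatrix' (f := ρ g)]
  exact (RingHom.map_det σ.toRingHom _).symm

/-- An invariant irreducible character of a normal Hall subgroup has an extension fixed by the
automorphisms fixing the roots of unity of order dividing the order of the subgroup. -/
theorem exists_fixed_extension {G : Type u} [Group G] [Finite G] {N : Subgroup G} [hN : N.Normal]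
    (hcop : N.index.Coprime (Nat.card N)) {θ : N → ℂ} (hθ : IsIrrCharacter N θ)
    (hinv : ∀ (g : G) (n : N), θ ⟨g * n * g⁻¹, hN.conj_mem (n : G) n.2 g⟩ = θ n) :
    ∃ χ : G → ℂ, IsIrrCharacter G χ ∧ (∀ n : N, χ n = θ n) ∧ FixedBy χ (Nat.card N) := by
  cases nonempty_fintype G
  haveI := Fintype.ofFinite N
  obtain ⟨hd, -⟩ := H83.charDegree_eq hθ
  have hdvd := H83.charDegree_dvd_card hθ
  set d := charDegree θ
  have hθc := CharBasic.IsIrr.isCharacter hθ
  obtain ⟨l, hl⟩ := exists_detChar_eq_hom hθc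
  have hol : orderOf l ∣ Nat.card N := orderOf_hom_dvd_card l
  have hodet : detOrder θ = orderOf l := by rw [detOrder, hl, orderOf_homFun]
  have hlinv : ∀ (g : G) (n : N), l ⟨g * n * g⁻¹, hN.conj_mem (n : G) n.2 g⟩ = l n := by
    intro g n
    obtain ⟨m, ρ, hρ⟩ := id hθc
    let c : N →* N := (MulAut.conjNormal g).toMonoidHom
    let ρ' : Representation ℂ N (Fin m → ℂ) := MonoidHom.comp ρ c
    have hc : ∀ x : N, c x = ⟨g * x * g⁻¹, hN.conj_mem (x : G) x.2 g⟩ := fun x => Subtype.ext rfl
    have hρ' : ρ'.character = θ := funext fun x => by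
      show ρ.character (c x) = θ x
      rw [hρ, hc, hinv]
    apply Units.ext
    rw [← congrFun hl, ← congrFun hl]
    rw [congrFun (detChar_eq ρ hρ) _, congrFun (detChar_eq ρ' hρ') n]
    show (detHom ρ _ : ℂ) = (detHom ρ (c n) : ℂ)
    rw [hc]
  obtain ⟨μ, hμN, hμo, -⟩ :=
    exists_hom_extension_coprime l hlinv (hcop.coprime_dvd_right hol)
  obtain ⟨η, hη, hres⟩ := exists_extension_of_coprime hθ hinv hd
    (Nat.Coprime.mul_right (hodet ▸ hcop.coprime_dvd_right hol) (hcop.coprime_dvd_right hdvd))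
  obtain ⟨χ, ⟨hχ, hχres, hχdet⟩, huniq⟩ := exists_unique_extension_det hθ hd
    (hcop.coprime_dvd_right hdvd) hη hres μ (fun n => by rw [hμN, hl])
  refine ⟨χ, hχ, hχres, fun σ hσ => ?_⟩
  have heq : (fun g => σ (χ g)) = χ := huniq _ ⟨H43.aut_irr σ hχ, fun n => by
      show σ (χ n) = θ n
      rw [hχres]; exact fixedBy_of_isCharacter hθc σ hσ n, by
      rw [aut_detChar σ (CharBasic.IsIrr.isCharacter hχ), hχdet]
      funext g
      refine hσ _ ?_
      obtain ⟨k, hk⟩ := hμo ▸ hol
      rw [hk, pow_mul, ← Units.val_pow_eq_pow_val, ← MonoidHom.pow_apply, pow_orderOf_eq_one]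
      simp⟩
  exact fun g => congrFun heq g

theorem fixedBy_indFun {G : Type u} [Group G] [Fintype G] (T : Subgroup G) {θ : T → ℂ} {m : ℕ}
    (h : FixedBy θ m) : FixedBy (indFun T θ) m := by
  intro σ hσ g
  simp only [indFun, map_mul, map_inv₀, map_natCast, map_sum]
  congr 1
  refine Finset.sum_congr rfl fun x _ => ?_
  by_cases hm : x⁻¹ * g * x ∈ T
  · rw [extendByZero_of_mem _ hm]; exact h σ hσ _
  · rw [extendByZero_of_not_mem _ hm]; exact map_zero σ

/-- Every invariant character of a normal Hall subgroup extends to a character fixed by the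
automorphisms fixing the roots of unity of order dividing the order of the subgroup. -/
theorem exists_fixed_char_extension {G : Type u} [Group G] [Fintype G] {N : Subgroup G} [N.Normal]
    [Fintype N]
    (hcop : N.index.Coprime (Nat.card N)) :
    ∀ (n : ℕ) (ψ : N → ℂ), IsCharacter N ψ → ψ 1 = n → (∀ g : G, CharInduce.conjFun N ψ g = ψ) →
      ∃ Ψ : G → ℂ, IsCharacter G Ψ ∧ (∀ x : N, Ψ x = ψ x) ∧ FixedBy Ψ (Nat.card N) := by
  classical
  intro n
  induction n using Nat.strong_induction_on with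
  | _ n ih =>
  intro ψ hψ hn hinv
  by_cases h0 : ψ = 0
  · exact ⟨0, CharBasic.IsChar.zero, fun x => by simp [h0], fun σ _ x => map_zero σ⟩
  obtain ⟨θ, hθne⟩ := exists_constituent hψ h0
  set T := inertia N (θ : N → ℂ) with hT
  have hNT : N ≤ T := le_inertia N (CharBasic.IsIrr.isClassFunction θ.2)
  let e : N.subgroupOf T ≃* N := Subgroup.subgroupOfEquivOfLe hNT
  have hcard : Nat.card (N.subgroupOf T) = Nat.card N := Nat.card_congr e.toEquiv
  obtain ⟨χ, hχ, hχres, hχfix⟩ := exists_fixed_extension (G := T) (N := N.subgroupOf T)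
    (by rw [hcard]; exact hcop.coprime_dvd_left (Subgroup.relIndex_dvd_index_of_normal N T))
    (θ := fun x => (θ : N → ℂ) (e x)) (IsIrr.comp θ.2 e.toMonoidHom e.surjective) (fun g x => by
      have h : CharInduce.conjFun N (θ : N → ℂ) (g : G) = θ := g.2
      exact (congrFun h (e x)))
  rw [hcard] at hχfix
  have hΦc : IsCharacter G (indFun T χ) := IsChar.ind T (CharBasic.IsIrr.isCharacter hχ)
  have hΦN : ∀ x : N, indFun T χ x =
      (Nat.card T : ℂ)⁻¹ * ∑ g : G, CharInduce.conjFun N (θ : N → ℂ) g x := by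
    intro x
    rw [indFun_apply]
    congr 1
    refine Fintype.sum_equiv (Equiv.inv G) _ _ fun g => ?_
    have hm : g⁻¹ * (x : G) * g ∈ N := by
      simpa using (inferInstance : N.Normal).conj_mem _ x.2 g⁻¹
    rw [extendByZero_of_mem _ (hNT hm)]
    refine (hχres ⟨⟨_, hNT hm⟩, hm⟩).trans ?_
    show (θ : N → ℂ) _ = (θ : N → ℂ) _
    exact congrArg (θ : N → ℂ) (Subtype.ext (show g⁻¹ * (x : G) * g = g⁻¹ * (x : G) * g⁻¹⁻¹ by group))
  have hΦinv : ∀ g : G, CharInduce.conjFun N (fun x : N => indFun T χ x) g = fun x : N => indFun T χ x :=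
    fun g => conjFun_res N (isClassFunction_indFun T χ) g
  have hrc : IsCharacter N (fun x : N => ψ x - indFun T χ x) := by
    refine isCharacter_of_coeff (fun a b => ?_) fun η => ?_
    · rw [CharBasic.IsChar.isClassFunction hψ a b,
        show indFun T χ ((b * a * b⁻¹ : N) : G) = indFun T χ a from
          CharBasic.IsChar.isClassFunction (IsChar.res hΦc N) a b]
    · have hfun : (fun x : N => indFun T χ x) =
          (Nat.card T : ℂ)⁻¹ • ∑ g : G, CharInduce.conjFun N (θ : N → ℂ) g := by
        funext x; simp [hΦN]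
      obtain ⟨a, ha⟩ := classInner_isChar_nat hψ (CharBasic.IsIrr.isCharacter η.2)
      rw [show (fun x : N => ψ x - indFun T χ x) = ψ - fun x : N => indFun T χ x from rfl,
        classInner_sub_left, ha, hfun, classInner_smul_left, classInner_sum_left]
      simp only [classInner_irr (isIrrCharacter_conjFun N θ.2 _) η.2, Finset.sum_boole]
      by_cases hc : ∃ g : G, CharInduce.conjFun N (θ : N → ℂ) g = (η : N → ℂ)
      · obtain ⟨g₀, hg₀⟩ := hc
        have hc' : (Finset.univ.filter fun g : G => CharInduce.conjFun N (θ : N → ℂ) g = (η : N → ℂ)).card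
            = Nat.card T := by
          rw [Nat.card_eq_fintype_card, Fintype.card_subtype]
          refine Finset.card_equiv (Equiv.mulRight g₀⁻¹) fun x => ?_
          simp [← hg₀, conjFun_eq_iff, hT]
        have ha0 : a ≠ 0 := fun e0 => hθne (by
          have := classInner_conjFun_conjFun N ψ (θ : N → ℂ) g₀
          rw [hinv, hg₀, ha, e0, Nat.cast_zero] at this
          exact this.symm)
        refine ⟨a - 1, ?_⟩
        rw [hc', inv_mul_cancel₀ (card_ne_zero_complex T), Nat.cast_sub (Nat.pos_of_ne_zero ha0),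
          Nat.cast_one]
      · refine ⟨a, ?_⟩
        rw [Finset.filter_false_of_mem (fun g _ e => hc ⟨g, e⟩)]
        simp
  obtain ⟨r, hr⟩ := CharBasic.IsChar.exists_degree hrc
  obtain ⟨c, hc, hcθ⟩ := CharBasic.IsIrr.exists_degree θ.2
  have hΦ1 : indFun T χ ((1 : N) : G) = ((T.index * c : ℕ) : ℂ) := by
    rw [Nat.cast_mul, ← hcθ]
    show indFun T χ 1 = _
    rw [indFun_one]
    congr 1
    exact hχres ⟨1, one_mem _⟩ |>.trans (congrArg _ (map_one e))
  have hlt : r < n := by
    have h1 : ((r + T.index * c : ℕ) : ℂ) = (n : ℂ) := by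
      rw [Nat.cast_add, ← hr, ← hΦ1, ← hn]
      ring
    rw [Nat.cast_inj] at h1
    have : 0 < T.index * c := Nat.mul_pos (Nat.pos_of_ne_zero Subgroup.index_ne_zero_of_finite) hc
    omega
  obtain ⟨R, hR, hRres, hRfix⟩ := ih r hlt _ hrc hr fun g => funext fun x => by
    have h1 := congrFun (hinv g) x
    have h2 := congrFun (hΦinv g) x
    simp only [CharInduce.conjFun] at h1 h2 ⊢
    rw [h1, h2]
  refine ⟨R + indFun T χ, CharBasic.IsChar.add hR hΦc, fun x => ?_, fun σ hσ x => ?_⟩
  · rw [Pi.add_apply, hRres]; ring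
  · rw [Pi.add_apply, map_add, hRfix σ hσ, fixedBy_indFun T hχfix σ hσ]

end Cfsg.Agent.H73.PRat
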