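import Cfsg.Agent.H73.PRationalExt
import Cfsg.Agent.Hall.SchurZassenhaus
import Cfsg.Agent.Cores.Constrained
import Cfsg.Agent.S4488
import Cfsg.Agent.H31.FFAmbient
import Cfsg.Agent.CharBasic.Kernel
import Mathlib.GroupTheory.SemidirectProduct

/-!
The bound for the `p`-part of `G/O_p(G)` for a `p`-solvable linear group.
-/

set_option autoImplicit false
set_option linter.style.haveILetI false

namespace Cfsg.Agent.H73.PBound

open Cfsg Subgroup Cfsg.Agent.CharInduce Cfsg.Agent.CharBasic

universe u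

/-- A `p`-group acting faithfully on a `p'`-group with an invariant faithful character of degree
`n` satisfies Schur's bound. -/
theorem factorization_le_of_action {Q : Type u} [Group Q] [Finite Q] (A : Subgroup (MulAut Q))
    {p : ℕ} [hp : Fact p.Prime] (hA : IsPGroup p A) (hQ : ¬ p ∣ Nat.card Q) {ψ : Q → ℂ}
    (hψ : IsCharacter Q ψ) (hfaith : ∀ q, ψ q = ψ 1 → q = 1)
    (hinv : ∀ a ∈ A, ∀ q, ψ (a q) = ψ q) {n : ℕ} (hn : ψ 1 = n) :
    (Nat.card A).factorization p ≤ ∑ i ∈ Finset.range (n + 1), n / ((p - 1) * p ^ i) := by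
  classical
  let H := Q ⋊[A.subtype] A
  haveI : Finite H := Finite.of_equiv (Q × A) (SemidirectProduct.equivProd).symm
  cases nonempty_fintype H
  let N : Subgroup H := (SemidirectProduct.inl : Q →* H).range
  haveI hNn : N.Normal := by
    show ((SemidirectProduct.inl : Q →* H).range).Normal
    rw [SemidirectProduct.range_inl_eq_ker_rightHom]
    infer_instance
  let e : Q ≃* N := MonoidHom.ofInjective SemidirectProduct.inl_injective
  have hNc : Nat.card N = Nat.card Q := Nat.card_congr e.symm.toEquiv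
  haveI := Fintype.ofFinite N
  have hNi : N.index = Nat.card A := by
    show ((SemidirectProduct.inl : Q →* H).range).index = _
    rw [SemidirectProduct.range_inl_eq_ker_rightHom, index_ker,
      MonoidHom.range_eq_top.mpr SemidirectProduct.rightHom_surjective, card_top]
  obtain ⟨k, hk⟩ := IsPGroup.iff_card.mp hA
  have hcop : N.index.Coprime (Nat.card N) := by
    rw [hNi, hNc, hk]
    exact ((Nat.Prime.coprime_iff_not_dvd hp.out).mpr hQ).pow_left k
  have hψN : IsCharacter N (fun x => ψ (e.symm x)) := IsChar.comp hψ e.symm.toMonoidHom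
  have hconj : ∀ (g : Q ⋊[A.subtype] A) (q : Q), g * SemidirectProduct.inl q * g⁻¹ =
      SemidirectProduct.inl (g.left * (g.right : MulAut Q) q * g.left⁻¹) := fun g q => by
    ext <;> simp
  have hinvN : ∀ g : H, CharInduce.conjFun N (fun x => ψ (e.symm x)) g = fun x => ψ (e.symm x) := by
    intro g
    funext x
    obtain ⟨q, rfl⟩ := e.surjective x
    have h : (⟨g * (e q : H) * g⁻¹, hNn.conj_mem _ (e q).2 g⟩ : N) =
        e (g.left * (g.right : MulAut Q) q * g.left⁻¹) := by
      apply Subtype.ext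
      exact hconj g q
    show ψ (e.symm ⟨g * (e q : H) * g⁻¹, _⟩) = ψ (e.symm (e q))
    rw [h, MulEquiv.symm_apply_apply, MulEquiv.symm_apply_apply,
      CharBasic.IsChar.isClassFunction hψ, hinv _ g.right.2]
  obtain ⟨Ψ, hΨ, hΨres, hΨfix⟩ := PRat.exists_fixed_char_extension hcop n _ hψN
    (by simpa using hn) hinvN
  rw [hNc] at hΨfix
  have hf : IsCharacter A (fun a => Ψ (SemidirectProduct.inr a)) :=
    IsChar.comp hΨ SemidirectProduct.inr
  have hf1 : Ψ (SemidirectProduct.inr 1) = n := by
    rw [map_one, ← show ((1 : N) : H) = 1 from rfl, hΨres, map_one, hn]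
  refine S4488.result (G := A) p hp.out _ hf ?_ ⟨1, one_pos, hp.out.not_dvd_one, fun a => ?_⟩ n ?_
  · -- faithful
    intro a ha
    obtain ⟨K, hKn, hKmem, -⟩ := CharBasic.IsChar.exists_kernel hΨ
    have hΨ1 : Ψ (1 : H) = n := by simpa using hf1
    have haK : (SemidirectProduct.inr a : H) ∈ K := (hKmem _).mpr (ha.trans (by simp))
    refine Subtype.ext (MulEquiv.ext fun q => ?_)
    show (a : MulAut Q) q = q
    have hmem : (SemidirectProduct.inl ((a : MulAut Q) q * q⁻¹) : H) ∈ K := by
      have h : (SemidirectProduct.inl ((a : MulAut Q) q * q⁻¹) : H) =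
          SemidirectProduct.inr a *
            (SemidirectProduct.inl q * (SemidirectProduct.inr a)⁻¹ * (SemidirectProduct.inl q)⁻¹) := by
        ext <;> simp
      rw [h]
      exact mul_mem haK (hKn.conj_mem _ (inv_mem haK) _)
    have h2 := (hKmem _).mp hmem
    rw [show (SemidirectProduct.inl ((a : MulAut Q) q * q⁻¹) : H) =
      ((e ((a : MulAut Q) q * q⁻¹) : N) : H) from rfl, hΨres, hΨ1, MulEquiv.symm_apply_apply,
      ← hn] at h2
    exact mul_inv_eq_one.mp (hfaith _ h2)
  · -- rational
    set z := Ψ (SemidirectProduct.inr a)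
    have hz : IsIntegral ℤ z := CharBasic.IsChar.isIntegral hf a
    obtain ⟨b, hb⟩ := hA.exists_orderOf_eq_pow a
    have hoa : orderOf (SemidirectProduct.inr a : H) = p ^ b := by
      rw [orderOf_injective _ SemidirectProduct.inr_injective, hb]
    have hcop' : (p ^ b).Coprime (Nat.card Q) :=
      ((Nat.Prime.coprime_iff_not_dvd hp.out).mpr hQ).pow_left b
    obtain ⟨q, hq⟩ : ∃ q : ℚ, (q : ℂ) = z := by
      refine (H43.rat_of_fixed hz.tower_top fun σ => ?_).imp fun _ h => h.symm
      obtain ⟨k, hk, hσ⟩ := H43.aut_eq_pow σ (pow_ne_zero b hp.out.ne_zero)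
      obtain ⟨k', h1, h2⟩ := Nat.chineseRemainder hcop' k 1
      have hk' : k'.Coprime (Nat.card Q * p ^ b) := Nat.Coprime.mul_right
        (by unfold Nat.Coprime; rw [h2.gcd_eq, Nat.gcd_one_left])
        (by unfold Nat.Coprime; rw [h1.gcd_eq]; exact hk)
      obtain ⟨τ, hτ⟩ := H43.exists_aut_pow
        (mul_ne_zero Nat.card_pos.ne' (pow_ne_zero b hp.out.ne_zero)) hk'
      rw [H43.aut_eq_on_value (H43.gen_of_char hΨ) (SemidirectProduct.inr a) σ τ fun w hw => ?_]
      · refine hΨfix τ (fun w hw => ?_) _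
        rw [hτ w (by rw [pow_mul, hw, one_pow])]
        conv_rhs => rw [← pow_one w]
        exact pow_eq_pow_of_modEq h2 hw
      · rw [hoa] at hw
        rw [hσ w hw, hτ w (by rw [mul_comm, pow_mul, hw, one_pow])]
        exact (pow_eq_pow_of_modEq h1 hw).symm
    show z ∈ _
    rw [← hq]
    exact IntermediateField.algebraMap_mem _ q
  · show charDegree (fun a => Ψ (SemidirectProduct.inr a)) = n
    show ⌊(Ψ (SemidirectProduct.inr 1)).re⌋₊ = n
    rw [hf1]
    simp

theorem bound {G : Type u} [Group G] [Finite G] {χ : G → ℂ} (hχ : IsCharacter G χ)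
    (hfaith : ∀ g : G, χ g = χ 1 → g = 1) {n : ℕ} (hn : χ 1 = n) {p : ℕ} [hp : Fact p.Prime]
    (hsolv : IsPSolvable p G) :
    (pCore p G).index.factorization p ≤ ∑ i ∈ Finset.range (n + 1), n / ((p - 1) * p ^ i) := by
  classical
  set K := pCore p G
  set π := QuotientGroup.mk' K
  set R := pPrimeCore p (G ⧸ K) with hR
  set M := R.comap π with hM
  have hKM : K ≤ M := by
    intro k hk
    show π k ∈ R
    rw [show π k = 1 from (QuotientGroup.eq_one_iff k).mpr hk]
    exact one_mem _
  haveI : M.Normal := (inferInstance : R.Normal).comap _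
  -- a complement of `O_p(G)` in `O_{p,p'}(G)`
  have hKp : IsPGroup p (K.subgroupOf M) := Cores.pCore_isPGroup.comap_subtype
  have hidx : ((K.subgroupOf M).index).Coprime p := by
    show (K.relIndex M).Coprime p
    rw [← Cores.card_map_mk', hM, map_comap_eq_self_of_surjective (QuotientGroup.mk'_surjective K)]
    exact Cores.coprime_card_pPrimeCore
  obtain ⟨k, hk⟩ := IsPGroup.iff_card.mp hKp
  have hcopM : (Nat.card (K.subgroupOf M)).Coprime (K.subgroupOf M).index := by
    rw [hk]; exact hidx.symm.pow_left k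
  obtain ⟨L, hL⟩ := exists_right_complement'_of_coprime hcopM
  set Q := L.map M.subtype with hQdef
  have hQM : Q ≤ M := map_subtype_le L
  have hQcard : Nat.card Q = (K.subgroupOf M).index := by
    rw [hQdef, card_map_of_injective M.subtype_injective, ← hL.symm.index_eq_card]
  have hQp : ¬ p ∣ Nat.card Q := by
    rw [hQcard]
    exact fun h => hp.out.ne_one (Nat.eq_one_of_dvd_coprimes hidx h dvd_rfl)
  have hQK : ∀ x ∈ K, x ∈ Q → x = 1 := by
    intro x hxK hxQ
    obtain ⟨y, hy, rfl⟩ := hxQ
    have : y ∈ K.subgroupOf M ⊓ L := ⟨hxK, hy⟩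
    rw [hL.disjoint.eq_bot, mem_bot] at this
    simp [this]
  -- the Frattini argument
  set NQ := normalizer (Q : Set G) with hNQ
  have hfr : ∀ g : G, ∃ m ∈ M, m * g ∈ NQ := by
    intro g
    let c : M ≃* M := MulAut.conjNormal g
    have hKc : (K.subgroupOf M).map c.toMonoidHom = K.subgroupOf M := by
      ext y
      rw [mem_map_equiv, mem_subgroupOf, mem_subgroupOf]
      show ((MulAut.conjNormal g).symm y : G) ∈ K ↔ _
      rw [MulAut.conjNormal_symm_apply]
      constructor
      · intro h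
        simpa [mul_assoc] using (inferInstance : K.Normal).conj_mem _ h g
      · intro h
        simpa using (inferInstance : K.Normal).conj_mem _ h g⁻¹
    have hL' : IsComplement' (K.subgroupOf M) (L.map c.toMonoidHom) := by
      apply isComplement'_of_coprime
      · rw [card_map_of_injective (f := c.toMonoidHom) (MulEquiv.injective c), hL.card_mul_card]
      · rw [card_map_of_injective (f := c.toMonoidHom) (MulEquiv.injective c), ← hL.symm.index_eq_card]
        exact hcopM
    obtain ⟨m, -, hm⟩ := Hall.complement_conj_of_solvable (K.subgroupOf M) hcopM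
      (by
        haveI := hKp.isNilpotent
        infer_instance) hL' hL
    refine ⟨m, m.2, mem_normalizer_iff_map_conj_eq.mpr ?_⟩
    ext y
    constructor
    · rintro ⟨q, ⟨l, hl, rfl⟩, rfl⟩
      refine ⟨m * c l * m⁻¹, ?_, by simp [c, mul_assoc]⟩
      rw [← hm]
      exact ⟨c l, ⟨l, hl, rfl⟩, rfl⟩
    · rintro ⟨y, hy, rfl⟩
      rw [← hm] at hy
      obtain ⟨_, ⟨l, hl, rfl⟩, rfl⟩ := hy
      exact ⟨l, ⟨l, hl, rfl⟩, by simp [c, mul_assoc]⟩
  have hsupQ : ∀ x ∈ M, ∃ k ∈ K, ∃ q ∈ Q, x = k * q := by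
    intro x hx
    obtain ⟨⟨a, b⟩, hab⟩ := hL.2 (⟨x, hx⟩ : M)
    exact ⟨((a : M) : G), a.2, ((b : M) : G), ⟨(b : M), b.2, rfl⟩,
      (congrArg Subtype.val hab).symm⟩
  have htop : ∀ x : G ⧸ K, x ∈ NQ.map π := by
    intro x
    obtain ⟨g, rfl⟩ := QuotientGroup.mk'_surjective K x
    obtain ⟨m, hm, hmg⟩ := hfr g
    obtain ⟨k, hk, q, hq, rfl⟩ := hsupQ m hm
    refine ⟨q⁻¹ * (k * q * g) * 1, ?_, ?_⟩
    · rw [mul_one]
      exact mul_mem (inv_mem (le_normalizer hq)) hmg
    · rw [map_mul, map_mul, map_mul, map_mul, show π k = 1 from (QuotientGroup.eq_one_iff k).mpr hk,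
        map_inv, map_one]
      show _ = π g
      group
  -- the action of a Sylow subgroup of the normalizer on the complement
  obtain ⟨P⟩ : Nonempty (Sylow p NQ) := inferInstance
  let φ : (P : Subgroup NQ) →* MulAut Q :=
    Q.normalizerMonoidHom.comp (P : Subgroup NQ).subtype
  have hker : ∀ y : (P : Subgroup NQ), y ∈ φ.ker → ((y : NQ) : G) ∈ K := by
    intro y hy
    have hcent : ∀ q ∈ Q, ((y : NQ) : G) * q = q * ((y : NQ) : G) := by
      intro q hq
      have h := congrArg Subtype.val (DFunLike.congr_fun (MonoidHom.mem_ker.mp hy) (⟨q, hq⟩ : Q))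
      exact mul_inv_eq_iff_eq_mul.mp h
    set yb := π ((y : NQ) : G) with hyb
    have hc : yb ∈ centralizer (R : Set (G ⧸ K)) := by
      rw [mem_centralizer_iff]
      intro r hr
      obtain ⟨x, rfl⟩ := QuotientGroup.mk'_surjective K r
      obtain ⟨k, hk, q, hq, rfl⟩ := hsupQ x hr
      rw [map_mul, show π k = 1 from (QuotientGroup.eq_one_iff k).mpr hk, one_mul, hyb, ← map_mul,
        ← map_mul, hcent q hq]
    -- `C(O_{p'}) ≤ O_{p'}` as `O_p = 1`
    have hbot : pCore p (G ⧸ K) = ⊥ := Cores.pCore_quotient_pCore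
    by_contra hne
    obtain ⟨b, hb⟩ := P.isPGroup'.exists_orderOf_eq_pow y
    have hyp : orderOf yb ∣ p ^ b := by
      rw [← hb]
      exact (orderOf_map_dvd π _).trans (by
        rw [Subgroup.orderOf_coe, Subgroup.orderOf_coe])
    have hle := H31.FFAmb.centralizer_pPrimeCore_le (Cores.isPSolvable_quotient hsolv K) hbot hc
    have h1 : orderOf yb ∣ Nat.card R := by
      have := orderOf_dvd_natCard (⟨yb, hle⟩ : R)
      rwa [Subgroup.orderOf_mk] at this
    have h2 : orderOf yb = 1 :=
      Nat.eq_one_of_dvd_coprimes (Cores.coprime_card_pPrimeCore.symm.pow_left b) hyp h1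
    exact hne ((QuotientGroup.eq_one_iff _).mp (orderOf_eq_one_iff.mp h2))
  have hv : (pCore p G).index.factorization p ≤ (Nat.card φ.range).factorization p := by
    let ρ : (P : Subgroup NQ) →* G ⧸ K := π.comp (NQ.subtype.comp (P : Subgroup NQ).subtype)
    have h1 : Nat.card ρ.range ∣ Nat.card φ.range := by
      rw [← index_ker, ← index_ker]
      refine index_dvd_of_le fun y hy => ?_
      exact (QuotientGroup.eq_one_iff _).mpr (hker y hy)
    have h2 : p ^ ((pCore p G).index.factorization p) ∣ Nat.card ρ.range := by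
      have hsurj : Function.Surjective (π.comp NQ.subtype) := fun x => by
        obtain ⟨y, hy, rfl⟩ := htop x
        exact ⟨⟨y, hy⟩, rfl⟩
      have hPmap := (P.mapSurjective hsurj).card_eq_multiplicity
      rw [Subgroup.index_eq_card]
      rw [← hPmap]
      refine dvd_of_eq (Nat.card_congr (Equiv.subtypeEquivRight fun x => ?_))
      show x ∈ (P : Subgroup NQ).map _ ↔ x ∈ ρ.range
      constructor
      · rintro ⟨y, hy, rfl⟩; exact ⟨⟨y, hy⟩, rfl⟩
      · rintro ⟨y, rfl⟩; exact ⟨y, y.2, rfl⟩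
    exact (hp.out.pow_dvd_iff_le_factorization Nat.card_pos.ne').mp (h2.trans h1)
  refine hv.trans (factorization_le_of_action φ.range ?_ hQp (ψ := fun q : Q => χ q)
    (IsChar.res hχ Q) (fun q hq => Subtype.ext (hfaith _ hq)) ?_ hn)
  · exact P.isPGroup'.of_surjective φ.rangeRestrict φ.rangeRestrict_surjective
  · rintro _ ⟨y, rfl⟩ q
    exact CharBasic.IsChar.isClassFunction hχ (q : G) ((y : NQ) : G)



end Cfsg.Agent.H73.PBound
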