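import Cfsg.Agent.CharBasic.Kernel
import Cfsg.Agent.CharInduce.Induce
import Cfsg.Agent.H85.CharAux
import Mathlib.LinearAlgebra.Trace
import Mathlib.GroupTheory.Perm.Fin

/-!
# Weighted projections onto the linear characters of an abelian normal subgroup
-/

open scoped ComplexConjugate
open Module

namespace Cfsg.Agent.H73.RootUnity

open Cfsg.Agent

universe u

/-! ### Irreducible characters of commutative groups -/

section Comm

variable {A : Type u} [Group A] [Finite A] [IsMulCommutative A] (θ : Cfsg.IrrCharacter A)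

theorem irr_mul (a b : A) : (θ : A → ℂ) (a * b) = (θ : A → ℂ) a * (θ : A → ℂ) b := by
  obtain ⟨l, hl⟩ := CharInduce.IsChar.exists_hom_of_degree_one
    (CharBasic.IsIrr.isCharacter θ.2) (H85.apply_one_eq_one_of_comm θ)
  simp [hl]

theorem irr_norm (a : A) : ‖(θ : A → ℂ) a‖ = 1 := by
  obtain ⟨l, hl⟩ := CharInduce.IsChar.exists_hom_of_degree_one
    (CharBasic.IsIrr.isCharacter θ.2) (H85.apply_one_eq_one_of_comm θ)
  rw [hl]; exact CharInduce.norm_hom l a

theorem irr_one : (θ : A → ℂ) 1 = 1 := H85.apply_one_eq_one_of_comm θ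

theorem irr_conj_inv (a : A) : conj ((θ : A → ℂ) a⁻¹) = (θ : A → ℂ) a := by
  rw [CharBasic.IsChar.inv_apply (CharBasic.IsIrr.isCharacter θ.2), Complex.conj_conj]

theorem irr_conj_mul_self (a : A) : conj ((θ : A → ℂ) a) * (θ : A → ℂ) a = 1 := by
  rw [Complex.conj_mul', irr_norm]; simp

open scoped Classical in
theorem sum_irr_apply (a : A) :
    ∑ θ : Cfsg.IrrCharacter A, (θ : A → ℂ) a = if a = 1 then (Nat.card A : ℂ) else 0 := by
  rw [← CharBasic.sum_degree_mul_apply a]
  exact Finset.sum_congr rfl fun θ _ => by rw [irr_one, one_mul]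

theorem card_irr : Nat.card (Cfsg.IrrCharacter A) = Nat.card A := by
  classical
  have h := sum_irr_apply (1 : A)
  simp only [irr_one, if_true, Finset.sum_const, Finset.card_univ, nsmul_eq_mul, mul_one,
    Nat.cast_inj] at h
  rw [Nat.card_eq_fintype_card, h]

/-- The trivial irreducible character. -/
def triv : Cfsg.IrrCharacter A := ⟨fun _ => (1 : ℂ), CharBasic.isIrrCharacter_one⟩

end Comm

/-! ### Idempotents of trace zero or one -/

section Idem

variable {V : Type*} [AddCommGroup V] [Module ℂ V] [FiniteDimensional ℂ V]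
variable {E : Module.End ℂ V}

theorem finrank_range_of_trace {k : ℕ} (hE : E * E = E) (ht : LinearMap.trace ℂ V E = k) :
    finrank ℂ (LinearMap.range E) = k := by
  have hp : LinearMap.IsProj (LinearMap.range E) E := by
    refine ⟨fun x => LinearMap.mem_range_self _ x, ?_⟩
    rintro _ ⟨y, rfl⟩
    rw [← Module.End.mul_apply, hE]
  have := hp.trace
  rw [ht] at this
  exact_mod_cast this.symm

theorem eq_zero_of_trace_zero (hE : E * E = E) (ht : LinearMap.trace ℂ V E = 0) : E = 0 := by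
  have h := finrank_range_of_trace (k := 0) hE (by simpa using ht)
  rw [Submodule.finrank_eq_zero, LinearMap.range_eq_bot] at h
  exact h

theorem exists_scalar_of_trace_one (hE : E * E = E) (ht : LinearMap.trace ℂ V E = 1)
    {T : Module.End ℂ V} (hc : T * E = E * T) :
    ∃ ω : ℂ, T * E = ω • E ∧ LinearMap.trace ℂ V (T * E) = ω := by
  have h := finrank_range_of_trace (k := 1) hE (by simpa using ht)
  obtain ⟨⟨v, hv⟩, -, hv2⟩ := finrank_eq_one_iff'.1 h
  obtain ⟨v', hv'⟩ := hv
  have hTv : T v ∈ LinearMap.range E := by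
    refine ⟨T v', ?_⟩
    rw [← hv', ← Module.End.mul_apply, ← hc, Module.End.mul_apply]
  obtain ⟨ω, hω⟩ := hv2 ⟨T v, hTv⟩
  have hω' : ω • v = T v := congrArg Subtype.val hω
  have heq : T * E = ω • E := by
    refine LinearMap.ext fun x => ?_
    obtain ⟨c, hcx⟩ := hv2 ⟨E x, LinearMap.mem_range_self _ x⟩
    have hcx' : c • v = E x := congrArg Subtype.val hcx
    simp only [Module.End.mul_apply, LinearMap.smul_apply, ← hcx', map_smul, ← hω', smul_smul,
      mul_comm]
  exact ⟨ω, heq, by rw [heq, map_smul, ht, smul_eq_mul, mul_one]⟩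

theorem norm_trace_eq_one (hE : E * E = E) (ht : LinearMap.trace ℂ V E = 1)
    {T : Module.End ℂ V} (hc : T * E = E * T) {N : ℕ} (hN : 0 < N) (hT : T ^ N = 1) :
    ‖LinearMap.trace ℂ V (T * E)‖ = 1 := by
  obtain ⟨ω, h1, h2⟩ := exists_scalar_of_trace_one hE ht hc
  rw [h2]
  have hpow : ∀ k : ℕ, T ^ k * E = ω ^ k • E := by
    intro k
    induction k with
    | zero => simp
    | succ k ih => rw [pow_succ, mul_assoc, h1, mul_smul_comm, ih, smul_smul, pow_succ', mul_comm]
  have h3 := congrArg (LinearMap.trace ℂ V) (hpow N)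
  rw [hT, one_mul, map_smul, ht, smul_eq_mul, mul_one] at h3
  exact Complex.norm_eq_one_of_pow_eq_one h3.symm hN.ne'

end Idem

/-! ### The projections -/

section Proj

variable {G : Type u} [Group G] [Fintype G] {n : ℕ} (ρ : Representation ℂ G (Fin n → ℂ))
variable {A : Subgroup G} [A.Normal] [IsMulCommutative A] [Fintype A]

/-- The projection attached to an irreducible character of `A`. -/
noncomputable def proj (θ : Cfsg.IrrCharacter A) : Module.End ℂ (Fin n → ℂ) :=
  (Nat.card A : ℂ)⁻¹ • ∑ a : A, conj ((θ : A → ℂ) a) • ρ (a : G)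

/-- `θ` is fixed by conjugation with `g`. -/
def IsFix (g : G) (θ : Cfsg.IrrCharacter A) : Prop :=
  ∀ b : A, (θ : A → ℂ) (MulAut.conjNormal g⁻¹ b) = (θ : A → ℂ) b

theorem trace_mul_proj (g : G) (θ : Cfsg.IrrCharacter A) :
    LinearMap.trace ℂ _ (ρ g * proj ρ θ)
      = Cfsg.classInner (fun a : A => ρ.character (g * a)) (θ : A → ℂ) := by
  rw [CharBasic.classInner_def, proj, mul_smul_comm, map_smul, Finset.mul_sum, map_sum,
    smul_eq_mul]
  refine congrArg _ (Finset.sum_congr rfl fun a _ => ?_)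
  rw [mul_smul_comm, map_smul, smul_eq_mul, ← map_mul, mul_comm]
  rfl

theorem trace_proj (θ : Cfsg.IrrCharacter A) :
    LinearMap.trace ℂ _ (proj ρ θ)
      = Cfsg.classInner (fun a : A => ρ.character a) (θ : A → ℂ) := by
  have := trace_mul_proj ρ (1 : G) θ
  simpa using this

theorem rho_mul_proj (θ : Cfsg.IrrCharacter A) (b : A) :
    ρ (b : G) * proj ρ θ = (θ : A → ℂ) b • proj ρ θ := by
  rw [proj, mul_smul_comm, smul_comm]
  congr 1
  rw [Finset.mul_sum, Finset.smul_sum]
  refine Fintype.sum_equiv (Equiv.mulLeft b) _ _ fun a => ?_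
  rw [Equiv.coe_mulLeft, mul_smul_comm, smul_smul, Subgroup.coe_mul, map_mul, irr_mul, map_mul]
  congr 1
  rw [← mul_assoc, mul_comm ((θ : A → ℂ) b), irr_conj_mul_self, one_mul]

theorem proj_mul_proj (θ : Cfsg.IrrCharacter A) : proj ρ θ * proj ρ θ = proj ρ θ := by
  show ((Nat.card A : ℂ)⁻¹ • ∑ a : A, conj ((θ : A → ℂ) a) • ρ (a : G)) * proj ρ θ = _
  rw [smul_mul_assoc, Finset.sum_mul]
  simp only [smul_mul_assoc, rho_mul_proj, smul_smul, irr_conj_mul_self, one_smul,
    Finset.sum_const, Finset.card_univ, ← Nat.card_eq_fintype_card]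
  rw [← Nat.cast_smul_eq_nsmul ℂ, smul_smul,
    inv_mul_cancel₀ (Nat.cast_ne_zero.2 Nat.card_pos.ne'), one_smul]

theorem sum_proj : ∑ θ : Cfsg.IrrCharacter A, proj ρ θ = 1 := by
  classical
  simp only [proj, ← Finset.smul_sum]
  rw [Finset.sum_comm]
  simp only [← Finset.sum_smul, ← map_sum, sum_irr_apply]
  rw [Finset.sum_eq_single (1 : A) (fun a _ ha => by simp [ha]) (by simp)]
  simp [smul_smul]

theorem IsFix.conj {g : G} {θ : Cfsg.IrrCharacter A} (h : IsFix g θ) (a : A) :
    (θ : A → ℂ) (MulAut.conjNormal g a) = (θ : A → ℂ) a := by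
  rw [← h (MulAut.conjNormal g a)]
  exact congrArg _ (Subtype.ext (by simp [mul_assoc]))

theorem rho_comm_proj {g : G} {θ : Cfsg.IrrCharacter A} (h : IsFix g θ) :
    ρ g * proj ρ θ = proj ρ θ * ρ g := by
  rw [proj, mul_smul_comm, smul_mul_assoc, Finset.mul_sum, Finset.sum_mul]
  refine congrArg _ (Fintype.sum_equiv (MulAut.conjNormal g).toEquiv _ _ fun a => ?_)
  rw [mul_smul_comm, smul_mul_assoc, ← map_mul, ← map_mul]
  show _ = conj ((θ : A → ℂ) (MulAut.conjNormal g a)) • _
  rw [h.conj]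
  congr 2
  show g * a = g * a * g⁻¹ * g
  group

theorem coeff_eq_zero_of_not_fix {g : G} {θ : Cfsg.IrrCharacter A} (h : ¬ IsFix g θ) :
    Cfsg.classInner (fun a : A => ρ.character (g * a)) (θ : A → ℂ) = 0 := by
  obtain ⟨b, hb⟩ := not_forall.1 h
  rw [← trace_mul_proj]
  set t := LinearMap.trace ℂ _ (ρ g * proj ρ θ) with ht
  have hfix : IsFix (b : G) θ := fun a => by
    refine congrArg _ (Subtype.ext ?_)
    show (b : G)⁻¹ * a * (b : G)⁻¹⁻¹ = a
    have := congrArg Subtype.val ((IsMulCommutative.is_comm (M := A)).comm a b)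
    simp only [Subgroup.coe_mul] at this
    rw [inv_inv, mul_assoc, this, inv_mul_cancel_left]
  have h1 : LinearMap.trace ℂ _ (ρ (b : G) * (ρ g * proj ρ θ))
      = (θ : A → ℂ) (MulAut.conjNormal g⁻¹ b) * t := by
    have : ρ (b : G) * ρ g = ρ g * ρ ((MulAut.conjNormal g⁻¹ b : A) : G) := by
      rw [← map_mul, ← map_mul]
      congr 1
      show (b : G) * g = g * (g⁻¹ * b * g⁻¹⁻¹)
      group
    rw [← mul_assoc, this, mul_assoc, rho_mul_proj, mul_smul_comm, map_smul, smul_eq_mul]
  have h2 : LinearMap.trace ℂ _ (ρ (b : G) * (ρ g * proj ρ θ)) = (θ : A → ℂ) b * t := by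
    rw [LinearMap.trace_mul_comm, mul_assoc, ← rho_comm_proj ρ hfix, rho_mul_proj, mul_smul_comm,
      map_smul, smul_eq_mul]
  rw [h1] at h2
  exact (mul_eq_mul_right_iff.1 h2).resolve_left hb

theorem coeff_eq_zero_of_mult_zero (g : G) {θ : Cfsg.IrrCharacter A}
    (h : Cfsg.classInner (fun a : A => ρ.character a) (θ : A → ℂ) = 0) :
    Cfsg.classInner (fun a : A => ρ.character (g * a)) (θ : A → ℂ) = 0 := by
  rw [← trace_mul_proj, eq_zero_of_trace_zero (proj_mul_proj ρ θ) (by rw [trace_proj, h]),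
    mul_zero, map_zero]

theorem norm_coeff_eq_one {g : G} {θ : Cfsg.IrrCharacter A} (hf : IsFix g θ)
    (h : Cfsg.classInner (fun a : A => ρ.character a) (θ : A → ℂ) = 1) :
    ‖Cfsg.classInner (fun a : A => ρ.character (g * a)) (θ : A → ℂ)‖ = 1 := by
  rw [← trace_mul_proj]
  exact norm_trace_eq_one (proj_mul_proj ρ θ) (by rw [trace_proj, h]) (rho_comm_proj ρ hf)
    (orderOf_pos g) (by rw [← map_pow, pow_orderOf_eq_one, map_one])

theorem isFix_of_centralizes {g : G} (hg : ∀ a ∈ A, g * a = a * g) (θ : Cfsg.IrrCharacter A) :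
    IsFix g θ := fun b => by
  refine congrArg _ (Subtype.ext ?_)
  show g⁻¹ * (b : G) * g⁻¹⁻¹ = b
  rw [inv_inv, mul_assoc, ← hg b b.2, inv_mul_cancel_left]

/-- If every linear character of `A` occurs at most once, the centraliser of `A` acts
commutatively. -/
theorem rho_comm_of_mult_le_one
    (hm : ∀ θ : Cfsg.IrrCharacter A, Cfsg.classInner (fun a : A => ρ.character a) (θ : A → ℂ) = 0
      ∨ Cfsg.classInner (fun a : A => ρ.character a) (θ : A → ℂ) = 1)
    {x y : G} (hx : ∀ a ∈ A, x * a = a * x) (hy : ∀ a ∈ A, y * a = a * y) :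
    ρ x * ρ y = ρ y * ρ x := by
  rw [← mul_one (ρ x * ρ y), ← mul_one (ρ y * ρ x), ← sum_proj ρ (A := A), Finset.mul_sum,
    Finset.mul_sum]
  refine Finset.sum_congr rfl fun θ _ => ?_
  rcases hm θ with h | h
  · rw [eq_zero_of_trace_zero (proj_mul_proj ρ θ) (by rw [trace_proj, h]), mul_zero, mul_zero]
  · have ht : LinearMap.trace ℂ _ (proj ρ θ) = 1 := by rw [trace_proj, h]
    obtain ⟨α, hα, -⟩ := exists_scalar_of_trace_one (proj_mul_proj ρ θ) ht
      (rho_comm_proj ρ (isFix_of_centralizes hx θ))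
    obtain ⟨β, hβ, -⟩ := exists_scalar_of_trace_one (proj_mul_proj ρ θ) ht
      (rho_comm_proj ρ (isFix_of_centralizes hy θ))
    rw [mul_assoc, mul_assoc, hα, hβ, mul_smul_comm, mul_smul_comm, hα, hβ, smul_smul, smul_smul,
      mul_comm]

open scoped Classical in
/-- Parseval for the function `a ↦ χ (g a)`. -/
theorem sum_norm_sq (g : G)
    (hm : ∀ θ : Cfsg.IrrCharacter A, Cfsg.classInner (fun a : A => ρ.character a) (θ : A → ℂ)
      = if θ = triv then 0 else 1) :
    ∑ a : A, ‖ρ.character (g * a)‖ ^ 2 = (Nat.card A : ℝ) *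
      ((Finset.univ.filter fun θ : Cfsg.IrrCharacter A => IsFix g θ ∧ θ ≠ triv).card : ℝ) := by
  set f : A → ℂ := fun a => ρ.character (g * a) with hf
  have hcl : Cfsg.IsClassFunction A f := fun a b => by
    congr 1
    rw [(IsMulCommutative.is_comm (M := A)).comm b a, mul_inv_cancel_right]
  have hP := CharBasic.classInner_eq_sum (ψ := f) hcl
  rw [CharBasic.classInner_def] at hP
  have hterm : ∀ θ : Cfsg.IrrCharacter A,
      Cfsg.classInner f (θ : A → ℂ) * conj (Cfsg.classInner f (θ : A → ℂ))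
        = if IsFix g θ ∧ θ ≠ triv then 1 else 0 := by
    intro θ
    split_ifs with h
    · rw [Complex.mul_conj', norm_coeff_eq_one ρ h.1 (by rw [hm, if_neg h.2])]
      simp
    · by_cases hfx : IsFix g θ
      · have : θ = triv := not_not.1 fun hne => h ⟨hfx, hne⟩
        rw [coeff_eq_zero_of_mult_zero ρ g (by rw [hm, if_pos this]), zero_mul]
      · rw [coeff_eq_zero_of_not_fix ρ hfx, zero_mul]
  rw [Finset.sum_congr rfl fun θ _ => hterm θ, Finset.sum_boole] at hP
  simp only [Complex.mul_conj'] at hP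
  rw [inv_mul_eq_iff_eq_mul₀ (Nat.cast_ne_zero.2 Nat.card_pos.ne')] at hP
  exact_mod_cast hP

/-- The map `b ↦ (g⁻¹ b g) b⁻¹` on `A`. -/
def delta (g : G) : A →* A where
  toFun b := MulAut.conjNormal g⁻¹ b * b⁻¹
  map_one' := by simp
  map_mul' a b := by
    have hc := (IsMulCommutative.is_comm (M := A)).comm
    rw [map_mul, mul_inv_rev, hc b⁻¹ a⁻¹, mul_assoc, mul_assoc, ← mul_assoc _ a⁻¹ b⁻¹,
      hc (MulAut.conjNormal g⁻¹ b) a⁻¹, mul_assoc a⁻¹]

theorem isFix_iff_delta (g : G) (θ : Cfsg.IrrCharacter A) :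
    IsFix g θ ↔ ∀ b : A, (θ : A → ℂ) (delta g b) = 1 := by
  refine forall_congr' fun b => ?_
  show _ ↔ (θ : A → ℂ) (MulAut.conjNormal g⁻¹ b * b⁻¹) = 1
  rw [irr_mul,
    CharBasic.IsChar.inv_apply (CharBasic.IsIrr.isCharacter θ.2)]
  constructor
  · intro h; rw [h, mul_comm, irr_conj_mul_self]
  · intro h
    calc (θ : A → ℂ) (MulAut.conjNormal g⁻¹ b)
        = (θ : A → ℂ) (MulAut.conjNormal g⁻¹ b) * (conj ((θ : A → ℂ) b) * (θ : A → ℂ) b) := by
          rw [irr_conj_mul_self, mul_one]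
      _ = (θ : A → ℂ) b := by rw [← mul_assoc, h, one_mul]

open scoped Classical in
/-- The number of fixed characters is the number of fixed elements. -/
theorem card_fix (g : G) :
    (Finset.univ.filter fun θ : Cfsg.IrrCharacter A => IsFix g θ).card
      = Nat.card (delta (A := A) g).ker := by
  have key : ∀ θ : Cfsg.IrrCharacter A, ∑ b : A, (θ : A → ℂ) (delta g b)
      = if IsFix g θ then (Nat.card A : ℂ) else 0 := by
    intro θ
    split_ifs with h
    · rw [Finset.sum_congr rfl fun b _ => (isFix_iff_delta g θ).1 h b]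
      simp [Nat.card_eq_fintype_card]
    · rw [isFix_iff_delta] at h
      obtain ⟨b0, hb0⟩ := not_forall.1 h
      have hs : ∑ b : A, (θ : A → ℂ) (delta g b)
          = (θ : A → ℂ) (delta g b0) * ∑ b : A, (θ : A → ℂ) (delta g b) := by
        rw [Finset.mul_sum]
        exact (Fintype.sum_equiv (Equiv.mulLeft b0) _ _ fun b => by
          rw [Equiv.coe_mulLeft, map_mul, irr_mul]).symm
      by_contra hne
      exact hb0 (mul_eq_right₀ hne |>.1 hs.symm)
  have h1 : ∑ θ : Cfsg.IrrCharacter A, ∑ b : A, (θ : A → ℂ) (delta g b)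
      = (Nat.card (delta (A := A) g).ker : ℂ) * Nat.card A := by
    rw [Finset.sum_comm]
    simp only [sum_irr_apply]
    refine Eq.trans (b := ∑ _x ∈ Finset.univ.filter (fun x : A => delta g x = 1),
      (Nat.card A : ℂ)) ?_ ?_
    · rw [Finset.sum_filter]
      exact Finset.sum_congr rfl fun x _ => by split_ifs <;> rfl
    rw [Finset.sum_const, nsmul_eq_mul]
    congr 2
    rw [Nat.card_eq_fintype_card]
    exact (Fintype.card_of_subtype _ (by simp)).symm
  simp only [key] at h1
  rw [← Finset.sum_filter, Finset.sum_const, nsmul_eq_mul] at h1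
  exact_mod_cast mul_right_cancel₀ (Nat.cast_ne_zero.2 (Nat.card_pos (α := A)).ne') h1

end Proj

end Cfsg.Agent.H73.RootUnity
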