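import Cfsg.Agent.H73.RootUnityMain
import Cfsg.Agent.CharBasic.Kernel
import Mathlib.Data.Fintype.Perm
import Cfsg.Prelude.Def_CaseTheorems

/-!
# The structure theorem for S4751
-/

open scoped ComplexConjugate
open Module
open scoped Pointwise

namespace Cfsg.Agent.H73.RootUnity

open Cfsg.Agent

universe u

set_option synthInstance.maxHeartbeats 200000 in
private theorem perm3_all : ∀ s t : Equiv.Perm (Fin 3), ∀ q : Equiv.Perm (Fin 3), s ^ 3 = 1 →
    s ≠ 1 → t ^ 2 = 1 → t ≠ 1 →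
    q = 1 ∨ q = s ∨ q = s ^ 2 ∨ q = t ∨ q = s * t ∨ q = s ^ 2 * t := by
  decide

private theorem perm3_inv : ∀ s t : Equiv.Perm (Fin 3), s ^ 3 = 1 →
    s ≠ 1 → t ^ 2 = 1 → t ≠ 1 → t * s * t⁻¹ = s⁻¹ := by
  decide

private theorem perm3_free : ∀ s : Equiv.Perm (Fin 3), ∀ i : Fin 3, s ^ 3 = 1 →
    s ≠ 1 → s i ≠ i := by
  decide

variable {G : Type u} [Group G] [Fintype G]

omit [Fintype G] in
/-- The construction of a complement isomorphic to the symmetric group of degree four. -/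
theorem exists_symmFour [Finite G] (A : Subgroup G) [A.Normal] [IsMulCommutative A]
    (hA4 : Nat.card A = 4) (Z : Subgroup G) (hZ : Z ≤ Subgroup.center G) (hAZ : A ⊓ Z = ⊥)
    (hC : ∀ c : G, (∀ a ∈ A, c * a = a * c) → ∃ a ∈ A, ∃ z ∈ Z, c = a * z)
    (g : G) (hg2 : g ^ 2 ∈ A) (hgC : ¬ ∀ a ∈ A, g * a = a * g)
    (h3 : 3 ∣ (Subgroup.centralizer (A : Set G)).index) :
    ∃ H : Subgroup G, Nonempty (H ≃* Equiv.Perm (Fin 4)) ∧ H ⊓ Z = ⊥ ∧ H ⊔ Z = ⊤ := by
  classical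
  haveI : Fact (Nat.Prime 3) := ⟨Nat.prime_three⟩
  have hcomm : ∀ a ∈ A, ∀ b ∈ A, a * b = b * a := fun a ha b hb =>
    congrArg Subtype.val ((IsMulCommutative.is_comm (M := A)).comm ⟨a, ha⟩ ⟨b, hb⟩)
  -- the permutation representation on the three involutions
  have hX : Nat.card {a : A // a ≠ 1} = 3 := by
    haveI := Fintype.ofFinite A
    rw [Nat.card_eq_fintype_card, Fintype.card_subtype_compl, Fintype.card_subtype_eq,
      ← Nat.card_eq_fintype_card, hA4]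
  obtain ⟨e⟩ : Nonempty ({a : A // a ≠ 1} ≃ Fin 3) := ⟨Finite.equivFinOfCardEq hX⟩
  let τ : G → Equiv.Perm {a : A // a ≠ 1} := fun x =>
    { toFun := fun a => ⟨MulAut.conjNormal x a.1, fun h => a.2
        ((MulAut.conjNormal (H := A) x).injective (by rw [h, map_one]))⟩
      invFun := fun a => ⟨MulAut.conjNormal x⁻¹ a.1, fun h => a.2
        ((MulAut.conjNormal (H := A) x⁻¹).injective (by rw [h, map_one]))⟩
      left_inv := fun a => Subtype.ext (Subtype.ext (by simp [mul_assoc]))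
      right_inv := fun a => Subtype.ext (Subtype.ext (by simp [mul_assoc])) }
  let τ' : G →* Equiv.Perm {a : A // a ≠ 1} :=
    MonoidHom.mk' τ fun x y => Equiv.ext fun a => Subtype.ext (Subtype.ext (by
      simp [τ, mul_assoc]))
  let φ : G →* Equiv.Perm (Fin 3) := e.permCongrHom.toMonoidHom.comp τ'
  have hφ : ∀ (x : G) (a : {a : A // a ≠ 1}), φ x (e a) = e (τ x a) := by
    intro x a
    simp [φ, τ', Equiv.permCongrHom]
  have hker : ∀ x : G, φ x = 1 ↔ ∀ a ∈ A, x * a = a * x := by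
    intro x
    constructor
    · intro h a ha
      rcases eq_or_ne a 1 with rfl | hne
      · simp
      · have h2 := hφ x ⟨⟨a, ha⟩, fun h => hne (congrArg Subtype.val h)⟩
        rw [h, Equiv.Perm.one_apply, e.apply_eq_iff_eq] at h2
        have h3 : a = x * a * x⁻¹ := congrArg (fun w => ((w.1 : A) : G)) h2
        rw [← mul_inv_eq_iff_eq_mul]
        exact h3.symm
    · intro h
      refine Equiv.ext fun i => ?_
      obtain ⟨a, rfl⟩ := e.surjective i
      rw [hφ, Equiv.Perm.one_apply, e.apply_eq_iff_eq]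
      refine Subtype.ext (Subtype.ext ?_)
      show x * (a.1 : G) * x⁻¹ = a.1
      rw [h _ a.1.2, mul_inv_cancel_right]
  have hkerC : φ.ker = Subgroup.centralizer (A : Set G) := by
    ext x
    rw [MonoidHom.mem_ker, hker, Subgroup.mem_centralizer_iff]
    exact ⟨fun h a ha => (h a ha).symm, fun h a ha => (h a ha).symm⟩
  -- an element inducing a three-cycle
  obtain ⟨y₀, hy₀⟩ : ∃ y₀ : G, orderOf (φ y₀) = 3 := by
    rw [← hkerC, Subgroup.index_ker] at h3
    obtain ⟨⟨σ, y, rfl⟩, hσ⟩ := exists_prime_orderOf_dvd_card' (G := φ.range) 3 h3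
    exact ⟨y, by rw [← Subgroup.orderOf_coe] at hσ; exact hσ⟩
  have hs3 : φ y₀ ^ 3 = 1 := by
    have h := pow_orderOf_eq_one (φ y₀)
    rwa [hy₀] at h
  have hs1 : φ y₀ ≠ 1 := fun h => by rw [h, orderOf_one] at hy₀; omega
  have hg1 : φ g ≠ 1 := fun h => hgC ((hker g).1 h)
  have hgsq : φ g ^ 2 = 1 := by
    rw [← map_pow, hker]
    exact fun a ha => hcomm _ hg2 a ha
  have hinv := perm3_inv _ _ hs3 hs1 hgsq hg1
  have hfree := fun i => perm3_free _ i hs3 hs1
  have hall := fun q => perm3_all _ _ q hs3 hs1 hgsq hg1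
  -- fixed-point-freeness
  have hfix : ∀ a ∈ A, y₀ * a = a * y₀ → a = 1 := by
    intro a ha h
    by_contra hne
    refine hfree (e ⟨⟨a, ha⟩, fun h => hne (congrArg Subtype.val h)⟩) ?_
    rw [hφ, e.apply_eq_iff_eq]
    refine Subtype.ext (Subtype.ext ?_)
    show y₀ * a * y₀⁻¹ = a
    rw [h, mul_inv_cancel_right]
  have hzc : ∀ z ∈ Z, ∀ x : G, x * z = z * x := fun z hz x => Subgroup.mem_center_iff.1 (hZ hz) x
  -- its cube is central
  obtain ⟨a₁, ha₁, w, hw, hy3⟩ := hC (y₀ ^ 3) ((hker _).1 (by rw [map_pow, hs3]))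
  have ha₁1 : a₁ = 1 := hfix a₁ ha₁ (by
    have h4 : a₁ = y₀ ^ 3 * w⁻¹ := by rw [hy3, mul_inv_cancel_right]
    rw [h4, ← mul_assoc, ← pow_succ', mul_assoc, ← hzc _ (inv_mem hw) y₀, ← mul_assoc, ← pow_succ])
  rw [ha₁1, one_mul] at hy3
  -- an inverting element
  obtain ⟨a, ha, z, hz, hyz⟩ := hC (y₀ * (g * y₀ * g⁻¹)) ((hker _).1 (by
    rw [map_mul, map_mul, map_mul, map_inv, hinv, mul_inv_cancel]))
  let κ : A → A := fun b => MulAut.conjNormal y₀ b * b⁻¹
  have hκ : Function.Injective κ := by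
    intro b c h
    have h' : y₀ * (b : G) * y₀⁻¹ * (b : G)⁻¹ = y₀ * (c : G) * y₀⁻¹ * (c : G)⁻¹ :=
      congrArg Subtype.val h
    refine Subtype.ext (inv_mul_eq_one.1 (hfix ((c : G)⁻¹ * b) ?_ ?_)).symm
    · exact mul_mem (inv_mem c.2) b.2
    · have hcb := hcomm _ (inv_mem c.2) _ b.2
      calc y₀ * ((c : G)⁻¹ * b) = (y₀ * (c : G) * y₀⁻¹)⁻¹ * ((y₀ * b * y₀⁻¹ * (b : G)⁻¹) * b) * y₀ := by
            group
        _ = (y₀ * (c : G) * y₀⁻¹)⁻¹ * ((y₀ * c * y₀⁻¹ * (c : G)⁻¹) * b) * y₀ := by rw [h']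
        _ = ((c : G)⁻¹ * b) * y₀ := by group
  obtain ⟨⟨b, hb⟩, hbκ⟩ := (Finite.injective_iff_surjective.1 hκ) ⟨a⁻¹, inv_mem ha⟩
  have hba : y₀ * b * y₀⁻¹ * b⁻¹ = a⁻¹ := congrArg Subtype.val hbκ
  obtain ⟨x, hxdef⟩ : ∃ x : G, x = b * g := ⟨_, rfl⟩
  have hxy : x * y₀ * x⁻¹ = y₀⁻¹ * z := by
    have h1 : g * y₀ * g⁻¹ = y₀⁻¹ * (a * z) := by rw [← hyz, inv_mul_cancel_left]
    have ha' : a = b * (y₀ * b * y₀⁻¹)⁻¹ := by
      rw [eq_comm, ← inv_eq_iff_eq_inv.2 (hba.symm.trans rfl).symm]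
      group
    calc x * y₀ * x⁻¹ = b * (g * y₀ * g⁻¹) * b⁻¹ := by rw [hxdef]; group
      _ = b * (y₀⁻¹ * (a * z)) * b⁻¹ := by rw [h1]
      _ = b * y₀⁻¹ * a * (z * b⁻¹) := by group
      _ = b * y₀⁻¹ * a * (b⁻¹ * z) := by rw [hzc z hz b⁻¹]
      _ = y₀⁻¹ * ((y₀ * b * y₀⁻¹) * (a * b⁻¹)) * z := by group
      _ = y₀⁻¹ * ((y₀ * b * y₀⁻¹) * (b⁻¹ * a)) * z := by rw [hcomm _ ha _ (inv_mem hb)]
      _ = y₀⁻¹ * z := by rw [← mul_assoc (y₀ * b * y₀⁻¹), hba, inv_mul_cancel, mul_one]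
  have hA2 : x ^ 2 ∈ A := by
    have : x ^ 2 = b * (g * b * g⁻¹) * g ^ 2 := by rw [hxdef, sq, sq]; group
    rw [this]
    exact mul_mem (mul_mem hb (Subgroup.Normal.conj_mem inferInstance b hb g)) hg2
  have hx2 : x ^ 2 = 1 := hfix _ hA2 (by
    have h1 : x * (x * y₀ * x⁻¹) * x⁻¹ = y₀ := by
      rw [hxy]
      calc x * (y₀⁻¹ * z) * x⁻¹ = (x * y₀ * x⁻¹)⁻¹ * (x * z * x⁻¹) := by group
        _ = z⁻¹ * y₀ * z := by rw [hxy, hzc z hz x]; group
        _ = y₀ := by rw [mul_assoc, hzc z hz y₀, inv_mul_cancel_left]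
    calc y₀ * x ^ 2 = x * (x * y₀ * x⁻¹) * x⁻¹ * x ^ 2 := by rw [h1]
      _ = x ^ 2 * y₀ := by rw [sq]; group)
  have hxinv : x⁻¹ = x := inv_eq_of_mul_eq_one_right (by rw [← sq]; exact hx2)
  -- the element of order three
  obtain ⟨y, hydef⟩ : ∃ y : G, y = y₀ ^ 2 * z⁻¹ := ⟨_, rfl⟩
  have hw2 : z ^ 3 = w * w := by
    have h1 : x * w * x⁻¹ = w := by rw [hzc w hw x, mul_inv_cancel_right]
    rw [← hy3, ← conj_pow, hxy, (show Commute y₀⁻¹ z from hzc z hz _).mul_pow, inv_pow, hy3] at h1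
    calc z ^ 3 = w * (w⁻¹ * z ^ 3) := by group
      _ = w * w := by rw [h1]
  have hyc : Commute (y₀ ^ 2) z⁻¹ := hzc _ (inv_mem hz) _
  have hy31 : y ^ 3 = 1 := by
    rw [hydef, hyc.mul_pow, ← pow_mul, show 2 * 3 = 3 * 2 from rfl, pow_mul, hy3, sq, inv_pow, hw2,
      mul_inv_cancel]
  have hxyx : x * y = y⁻¹ * x := by
    rw [← mul_inv_eq_iff_eq_mul, hydef]
    calc x * (y₀ ^ 2 * z⁻¹) * x⁻¹ = (x * y₀ * x⁻¹) ^ 2 * (x * z⁻¹ * x⁻¹) := by
          rw [conj_pow]; group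
      _ = y₀⁻¹ * z * (y₀⁻¹ * z) * z⁻¹ := by
          rw [hxy, hzc _ (inv_mem hz) x, mul_inv_cancel_right, sq]
      _ = y₀⁻¹ * (z * y₀⁻¹) := by group
      _ = y₀⁻¹ * (y₀⁻¹ * z) := by rw [hzc z hz y₀⁻¹]
      _ = (y₀ ^ 2)⁻¹ * z⁻¹⁻¹ := by group
      _ = (y₀ ^ 2 * z⁻¹)⁻¹ := by rw [hyc.eq, mul_inv_rev]
  have hxyk : ∀ i : ℤ, x * y ^ i = y ^ (-i) * x := by
    intro i
    rw [← mul_inv_eq_iff_eq_mul, ← conj_zpow, mul_inv_eq_iff_eq_mul.2 hxyx, zpow_neg, inv_zpow]
  let S : Subgroup G :=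
    { carrier := {s | ∃ i : ℤ, s = y ^ i ∨ s = y ^ i * x}
      one_mem' := ⟨0, Or.inl (zpow_zero y).symm⟩
      mul_mem' := by
        rintro s t ⟨i, rfl | rfl⟩ ⟨j, rfl | rfl⟩
        · exact ⟨i + j, Or.inl (zpow_add y i j).symm⟩
        · exact ⟨i + j, Or.inr (by rw [zpow_add, mul_assoc])⟩
        · exact ⟨i + -j, Or.inr (by rw [mul_assoc, hxyk, ← mul_assoc, zpow_add])⟩
        · refine ⟨i + -j, Or.inl ?_⟩
          rw [mul_assoc, ← mul_assoc x, hxyk, mul_assoc (y ^ (-j)), ← sq, hx2, mul_one, zpow_add]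
      inv_mem' := by
        rintro s ⟨i, rfl | rfl⟩
        · exact ⟨-i, Or.inl (zpow_neg y i).symm⟩
        · exact ⟨i, Or.inr (by rw [mul_inv_rev, hxinv, ← zpow_neg, hxyk, neg_neg])⟩ }
  have hxS : x ∈ S := ⟨0, Or.inr (by simp)⟩
  have hyS : y ∈ S := ⟨1, Or.inl (by simp)⟩
  have hφy : φ y = φ y₀ ^ 2 := by
    rw [hydef, map_mul, (hker z⁻¹).2 fun a _ => (hzc _ (inv_mem hz) a).symm, mul_one, map_pow]
  have hφx : φ x = φ g := by
    rw [hxdef, map_mul, (hker b).2 fun a ha => hcomm b hb a ha, one_mul]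
  -- the complement meets the centraliser trivially
  have hSC : ∀ s ∈ S, φ s = 1 → s = 1 := by
    have hφy1 : φ y ≠ 1 := by
      rw [hφy]; intro h
      exact hs1 (by rw [← hs3, pow_succ, h, one_mul])
    have hordφ : orderOf (φ y) = 3 :=
      orderOf_eq_prime (by rw [← map_pow, hy31, map_one]) hφy1
    have hord : orderOf y = 3 := by
      refine orderOf_eq_prime hy31 fun h => hφy1 ?_
      rw [h, map_one]
    rintro s ⟨i, rfl | rfl⟩ h
    · rw [map_zpow, ← orderOf_dvd_iff_zpow_eq_one, hordφ] at h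
      rw [← orderOf_dvd_iff_zpow_eq_one, hord]
      exact h
    · exfalso
      rw [map_mul, map_zpow, hφx, mul_eq_one_iff_inv_eq] at h
      have h3' : φ g ^ 3 = 1 := by
        rw [← h, inv_pow, ← zpow_natCast, ← zpow_mul, mul_comm, zpow_mul, zpow_natCast,
          ← map_pow, hy31, map_one, one_zpow, inv_one]
      exact hg1 (by rw [← h3', pow_succ, hgsq, one_mul])
  have hSsurj : ∀ q : Equiv.Perm (Fin 3), ∃ s ∈ S, φ s = q := by
    intro q
    have hy2 : φ (y ^ 2) = φ y₀ := by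
      rw [map_pow, hφy, ← pow_mul, pow_succ, hs3, one_mul]
    rcases hall q with rfl | rfl | rfl | rfl | rfl | rfl
    · exact ⟨1, S.one_mem, map_one φ⟩
    · exact ⟨y ^ 2, S.pow_mem hyS 2, hy2⟩
    · exact ⟨y, hyS, hφy⟩
    · exact ⟨x, hxS, hφx⟩
    · exact ⟨y ^ 2 * x, S.mul_mem (S.pow_mem hyS 2) hxS, by rw [map_mul, hy2, hφx]⟩
    · exact ⟨y * x, S.mul_mem hyS hxS, by rw [map_mul, hφy, hφx]⟩
  have hScard : Nat.card S = 6 := by
    have hbij : Function.Bijective (fun s : S => φ s) := by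
      refine ⟨fun s t h => ?_, fun q => ?_⟩
      · have := hSC ((s : G)⁻¹ * t) (S.mul_mem (S.inv_mem s.2) t.2) (by
          rw [map_mul, map_inv, show φ t = φ s from h.symm, inv_mul_cancel])
        exact Subtype.ext (inv_mul_eq_one.1 this)
      · obtain ⟨s, hs, hs'⟩ := hSsurj q
        exact ⟨⟨s, hs⟩, hs'⟩
    rw [Nat.card_congr (Equiv.ofBijective _ hbij), Nat.card_eq_fintype_card, Fintype.card_perm,
      Fintype.card_fin]
    rfl
  have hAker : ∀ a ∈ A, φ a = 1 := fun a ha => (hker a).2 fun c hc => hcomm a ha c hc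
  have hAS : ∀ s ∈ S, s ∈ A → s = 1 := fun s hs hsA => hSC s hs (hAker s hsA)
  let H : Subgroup G := A ⊔ S
  have hHmem : ∀ h ∈ H, ∃ a ∈ A, ∃ s ∈ S, h = a * s := by
    intro h hh
    obtain ⟨a, ha, s, hs, rfl⟩ := Set.mem_mul.1 (show h ∈ (A : Set G) * (S : Set G) by
      rw [← Subgroup.normal_mul A S]; exact hh)
    exact ⟨a, ha, s, hs, rfl⟩
  have hHZ : H ⊓ Z = ⊥ := by
    rw [Subgroup.eq_bot_iff_forall]
    rintro h ⟨hh, hhZ⟩
    obtain ⟨a, ha, s, hs, rfl⟩ := hHmem h hh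
    have h1 : φ (a * s) = 1 := (hker _).2 fun c _ => (hzc _ hhZ c).symm
    rw [map_mul, hAker a ha, one_mul] at h1
    obtain rfl := hSC s hs h1
    rw [mul_one] at hhZ ⊢
    exact (Subgroup.eq_bot_iff_forall _).1 hAZ a ⟨ha, hhZ⟩
  have hHtop : H ⊔ Z = ⊤ := by
    rw [eq_top_iff]
    intro x' _
    obtain ⟨s, hs, hs'⟩ := hSsurj (φ x')
    obtain ⟨a, ha, z', hz', he⟩ := hC (x' * s⁻¹) ((hker _).1 (by
      rw [map_mul, map_inv, hs', mul_inv_cancel]))
    rw [← inv_mul_cancel_right x' s, he]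
    refine mul_mem (mul_mem ?_ (Subgroup.mem_sup_right hz')) ?_
    · exact Subgroup.mem_sup_left (Subgroup.mem_sup_left ha)
    · exact Subgroup.mem_sup_left (Subgroup.mem_sup_right hs)
  -- the action on the four cosets
  let S' : Subgroup H := S.subgroupOf H
  have hS'card : Nat.card S' = 6 := by
    rw [Nat.card_congr (Subgroup.subgroupOfEquivOfLe (le_sup_right : S ≤ H)).toEquiv, hScard]
  have hcoset : Nat.card (H ⧸ S') = 4 := by
    rw [← hA4]
    refine (Nat.card_congr (Equiv.ofBijective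
      (fun a : A => (QuotientGroup.mk (⟨a, Subgroup.mem_sup_left a.2⟩ : H) : H ⧸ S')) ⟨?_, ?_⟩)).symm
    · intro a b hab
      rw [QuotientGroup.eq] at hab
      have h1 : (a : G)⁻¹ * b ∈ S := hab
      exact Subtype.ext (inv_mul_eq_one.1 (hAS _ h1 (mul_mem (inv_mem a.2) b.2)))
    · intro q
      obtain ⟨⟨h, hh⟩, rfl⟩ := QuotientGroup.mk_surjective q
      obtain ⟨a, ha, s, hs, rfl⟩ := hHmem h hh
      refine ⟨⟨a, ha⟩, QuotientGroup.eq.2 ?_⟩
      show a⁻¹ * (a * s) ∈ S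
      rw [inv_mul_cancel_left]; exact hs
  have hinj : Function.Injective (MulAction.toPermHom H (H ⧸ S')) := by
    rw [← MonoidHom.ker_eq_bot_iff, Subgroup.eq_bot_iff_forall]
    intro h hh
    have hhcore : ∀ q : H ⧸ S', h • q = q := fun q => by
      have := Equiv.congr_fun (MonoidHom.mem_ker.1 hh) q
      simpa using this
    have hconj : ∀ k : H, k⁻¹ * h * k ∈ S' := by
      intro k
      have := hhcore (QuotientGroup.mk k)
      rw [MulAction.Quotient.smul_mk, QuotientGroup.eq] at this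
      have h2 := S'.inv_mem this
      simpa [mul_assoc] using h2
    have hhS : (h : G) ∈ S := by
      have := Subgroup.mem_subgroupOf.1 (hconj 1)
      simpa using this
    have hcent : ∀ a ∈ A, (h : G) * a = a * h := by
      intro a ha
      have h1 : a⁻¹ * (h : G) * a ∈ S := hconj ⟨a, Subgroup.mem_sup_left ha⟩
      have h2 : (h : G)⁻¹ * (a⁻¹ * (h : G) * a) ∈ A := by
        rw [← mul_assoc, ← mul_assoc]
        refine mul_mem ?_ ha
        simpa using Subgroup.Normal.conj_mem inferInstance (a⁻¹) (inv_mem ha) (h : G)⁻¹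
      have := hAS _ (S.mul_mem (S.inv_mem hhS) h1) h2
      calc (h : G) * a = a * (h : G) * ((h : G)⁻¹ * (a⁻¹ * (h : G) * a)) := by group
        _ = a * h := by rw [this, mul_one]
    exact Subtype.ext (hSC _ hhS ((hker _).2 hcent))
  have hHcard : Nat.card H = 24 := by
    rw [S'.card_eq_card_quotient_mul_card_subgroup, hcoset, hS'card]
  obtain ⟨e4⟩ : Nonempty ((H ⧸ S') ≃ Fin 4) := ⟨Finite.equivFinOfCardEq hcoset⟩
  let f : H →* Equiv.Perm (Fin 4) := e4.permCongrHom.toMonoidHom.comp (MulAction.toPermHom H _)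
  have hf : Function.Bijective f := by
    rw [Nat.bijective_iff_injective_and_card]
    refine ⟨e4.permCongrHom.injective.comp hinj, ?_⟩
    rw [hHcard, Nat.card_eq_fintype_card, Fintype.card_perm, Fintype.card_fin]
    rfl
  exact ⟨H, ⟨MulEquiv.ofBijective f hf⟩, hHZ, hHtop⟩

omit [Fintype G] in
theorem exists_mem_pow_mem {p : ℕ} (C : Subgroup G) :
    ∀ (k : ℕ) (g : G), g ∉ C → g ^ p ^ k = 1 → ∃ g' : G, g' ∉ C ∧ g' ^ p ∈ C ∧ ∃ j, g' ^ p ^ j = 1 := by
  intro k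
  induction k with
  | zero => intro g hg h; rw [pow_zero, pow_one] at h; exact absurd (h ▸ C.one_mem) hg
  | succ k ih =>
    intro g hg h
    by_cases hp : g ^ p ∈ C
    · exact ⟨g, hg, hp, k + 1, h⟩
    · exact ih (g ^ p) hp (by rw [← pow_mul, ← pow_succ']; exact h)

open scoped Classical in
omit [Fintype G] in
theorem structure_pCore [Finite G] {n : ℕ} (ρ : Representation ℂ G (Fin n → ℂ)) [ρ.IsIrreducible]
    (p : ℕ) [hp : Fact p.Prime] (hn : n ≠ 1)
    (hfaith : ∀ g : G, ρ.character g = ρ.character 1 → g = 1)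
    (hroot : ∀ g : G, p ∣ orderOf g → ∃ k : ℕ, 0 < k ∧ ρ.character g ^ k = 1)
    (hP : Cfsg.pCore p G ≠ ⊥) :
    ((Nat.card (Cfsg.pCore p G)).factorization p = (Nat.card G).factorization p ∧
      Cfsg.IsElementaryAbelian p (Cfsg.pCore p G) ∧
      Subgroup.centralizer ((Cfsg.pCore p G : Subgroup G) : Set G)
        = Cfsg.pCore p G ⊔ Subgroup.center G ∧
      Cfsg.pCore p G ⊓ Subgroup.center G = ⊥ ∧
      n + 1 = Nat.card (Cfsg.pCore p G)) ∨
    (p = 2 ∧ Odd (Nat.card (Subgroup.center G)) ∧ ∃ H : Subgroup G,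
      Nonempty (H ≃* Equiv.Perm (Fin 4)) ∧ H ⊓ Subgroup.center G = ⊥ ∧
        H ⊔ Subgroup.center G = ⊤) := by
  cases nonempty_fintype G
  have hn0 : 0 < n := by simpa using CharBasic.finrank_pos_of_isIrreducible ρ
  have hinjρ := rho_injective ρ hfaith
  have hzp : ∀ z ∈ Subgroup.center G, ¬ p ∣ orderOf z := fun z hz =>
    not_dvd_orderOf_central ρ hn hroot hz
  -- an abelian normal `p`-subgroup
  haveI hPn : (Cfsg.pCore p G).Normal := Cfsg.pCore_normal p G
  have hPp : IsPGroup p (Cfsg.pCore p G) := Cores.pCore_isPGroup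
  haveI : Nontrivial (Cfsg.pCore p G) := (Subgroup.nontrivial_iff_ne_bot _).2 hP
  obtain ⟨A, hAn, hAc, hAp, hAne⟩ : ∃ A : Subgroup G, A.Normal ∧ IsMulCommutative A ∧
      IsPGroup p A ∧ A ≠ ⊥ := by
    refine ⟨(Subgroup.center (Cfsg.pCore p G)).map (Cfsg.pCore p G).subtype, inferInstance,
      ⟨⟨fun a b => ?_⟩⟩, (hPp.to_subgroup _).map _, ?_⟩
    · obtain ⟨a, a', ha', rfl⟩ := a
      obtain ⟨b, b', -, rfl⟩ := b
      refine Subtype.ext ?_
      show (a' : G) * b' = b' * a'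
      exact congrArg Subtype.val (Subgroup.mem_center_iff.1 ha' b').symm
    · rw [Ne, Subgroup.map_eq_bot_iff_of_injective _ (Subgroup.subtype_injective _)]
      exact (Subgroup.nontrivial_iff_ne_bot _).1 hPp.center_nontrivial
  haveI := hAn
  haveI := hAc
  haveI := Fintype.ofFinite A
  obtain ⟨hAcard, hm⟩ := structure_of_abelian_normal ρ hn hfaith hroot A hAp hAne
  have hAle : A ≤ Cfsg.pCore p G := Cores.le_pCore hAp
  have hcomm : ∀ a ∈ A, ∀ b ∈ A, a * b = b * a := fun a ha b hb =>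
    congrArg Subtype.val ((IsMulCommutative.is_comm (M := A)).comm ⟨a, ha⟩ ⟨b, hb⟩)
  have hm01 : ∀ θ : Cfsg.IrrCharacter A,
      Cfsg.classInner (fun a : A => ρ.character a) (θ : A → ℂ) = 0 ∨
      Cfsg.classInner (fun a : A => ρ.character a) (θ : A → ℂ) = 1 := fun θ => by
    rw [hm θ]; split_ifs <;> simp
  -- the centraliser is abelian
  obtain ⟨C, hCdef⟩ : ∃ C : Subgroup G, C = Subgroup.centralizer (A : Set G) := ⟨_, rfl⟩
  have hCmem : ∀ {c : G}, c ∈ C ↔ ∀ a ∈ A, c * a = a * c := by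
    intro c
    rw [hCdef, Subgroup.mem_centralizer_iff]
    exact ⟨fun h a ha => (h a ha).symm, fun h a ha => (h a ha).symm⟩
  have hCcomm : ∀ x ∈ C, ∀ y ∈ C, x * y = y * x := fun x hx y hy => hinjρ (by
    rw [map_mul, map_mul]
    exact rho_comm_of_mult_le_one ρ hm01 (hCmem.1 hx) (hCmem.1 hy))
  haveI hCn : C.Normal := by
    refine ⟨fun c hc g => hCmem.2 fun a ha => ?_⟩
    have h1 := hCmem.1 hc (g⁻¹ * a * g) (by
      simpa using Subgroup.Normal.conj_mem hAn a ha g⁻¹)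
    calc g * c * g⁻¹ * a = g * (c * (g⁻¹ * a * g)) * g⁻¹ := by group
      _ = g * (g⁻¹ * a * g * c) * g⁻¹ := by rw [h1]
      _ = a * (g * c * g⁻¹) := by group
  -- its `p`-elements lie in `A`
  let Q : Subgroup G :=
    { carrier := {x | x ∈ C ∧ ∃ k : ℕ, x ^ p ^ k = 1}
      one_mem' := ⟨C.one_mem, 0, one_pow _⟩
      mul_mem' := by
        rintro x y ⟨hx, k, hk⟩ ⟨hy, l, hl⟩
        refine ⟨C.mul_mem hx hy, k + l, ?_⟩
        rw [(show Commute x y from hCcomm x hx y hy).mul_pow]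
        conv_lhs => arg 1; rw [pow_add, pow_mul, hk, one_pow]
        rw [one_mul, add_comm, pow_add, pow_mul, hl, one_pow]
      inv_mem' := by
        rintro x ⟨hx, k, hk⟩
        exact ⟨C.inv_mem hx, k, by rw [inv_pow, hk, inv_one]⟩ }
  haveI hQn : Q.Normal :=
    ⟨fun x hx g => ⟨hCn.conj_mem x hx.1 g, hx.2.choose, by
      rw [conj_pow, hx.2.choose_spec, mul_one, mul_inv_cancel]⟩⟩
  have hAQ : A ≤ Q := fun a ha => ⟨hCmem.2 fun b hb => hcomm a ha b hb, by
    obtain ⟨k, hk⟩ := hAp ⟨a, ha⟩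
    exact ⟨k, congrArg Subtype.val hk⟩⟩
  have hQeq : Q = A := by
    haveI : IsMulCommutative Q :=
      ⟨⟨fun a b => Subtype.ext (hCcomm a a.2.1 b b.2.1)⟩⟩
    haveI := Fintype.ofFinite Q
    obtain ⟨hQcard, -⟩ := structure_of_abelian_normal ρ hn hfaith hroot Q
      (fun x => ⟨x.2.2.choose, Subtype.ext (by simpa using x.2.2.choose_spec)⟩)
      (fun h => hAne (le_bot_iff.1 (h ▸ hAQ)))
    exact (Subgroup.eq_of_le_of_card_ge hAQ (by rw [hQcard, hAcard])).symm
  have hCp : ∀ x ∈ C, ∀ k : ℕ, x ^ p ^ k = 1 → x ∈ A := fun x hx k hk =>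
    hQeq ▸ (⟨hx, k, hk⟩ : x ∈ Q)
  -- `A` has exponent `p`
  have hexpA : ∀ a ∈ A, a ^ p = 1 := by
    let Ω : Subgroup G :=
      { carrier := {x | x ∈ A ∧ x ^ p = 1}
        one_mem' := ⟨A.one_mem, one_pow _⟩
        mul_mem' := by
          rintro x y ⟨hx, hx'⟩ ⟨hy, hy'⟩
          exact ⟨A.mul_mem hx hy, by
            rw [(show Commute x y from hcomm x hx y hy).mul_pow, hx', hy', one_mul]⟩
        inv_mem' := by
          rintro x ⟨hx, hx'⟩
          exact ⟨A.inv_mem hx, by rw [inv_pow, hx', inv_one]⟩ }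
    haveI : Ω.Normal := ⟨fun x hx g => ⟨hAn.conj_mem x hx.1 g, by
      rw [conj_pow, hx.2, mul_one, mul_inv_cancel]⟩⟩
    have hΩA : Ω ≤ A := fun x hx => hx.1
    haveI : IsMulCommutative Ω := ⟨⟨fun a b => Subtype.ext (hcomm a a.2.1 b b.2.1)⟩⟩
    haveI := Fintype.ofFinite Ω
    haveI : Nontrivial A := (Subgroup.nontrivial_iff_ne_bot _).2 hAne
    obtain ⟨a₀, ha₀⟩ := exists_prime_orderOf_dvd_card' (G := A) p
      ((hAp.nontrivial_iff_card).1 inferInstance |>.elim fun k hk => hk.2 ▸ dvd_pow_self p hk.1.ne')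
    have hΩne : Ω ≠ ⊥ := by
      intro h
      have h1 : (a₀ : G) ∈ Ω := ⟨a₀.2, by
        rw [← SubmonoidClass.coe_pow, ← ha₀, pow_orderOf_eq_one, OneMemClass.coe_one]⟩
      rw [h, Subgroup.mem_bot] at h1
      have : a₀ = 1 := Subtype.ext h1
      rw [this, orderOf_one] at ha₀
      exact hp.out.ne_one ha₀.symm
    obtain ⟨hΩcard, -⟩ := structure_of_abelian_normal ρ hn hfaith hroot Ω
      (hAp.to_le hΩA) hΩne
    intro a ha
    rw [← Subgroup.eq_of_le_of_card_ge hΩA (by rw [hΩcard, hAcard])] at ha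
    exact ha.2
  -- the `p'`-elements of the centraliser are central
  have hCd : ∀ d ∈ C, ¬ p ∣ orderOf d → d ∈ Subgroup.center G := by
    intro d hd hdp
    have hsum := sum_norm_sq ρ d hm
    have hfilter : (Finset.univ.filter fun θ : Cfsg.IrrCharacter A => IsFix d θ ∧ θ ≠ triv).card
        = n := by
      rw [Finset.filter_congr (q := fun θ => θ ≠ triv)
        (fun θ _ => and_iff_right (isFix_of_centralizes (hCmem.1 hd) θ)),
        Finset.filter_ne', Finset.card_erase_of_mem (Finset.mem_univ _), Finset.card_univ,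
        ← Nat.card_eq_fintype_card, card_irr, hAcard, Nat.add_sub_cancel]
    rw [hfilter, ← Finset.add_sum_erase _ _ (Finset.mem_univ (1 : A)),
      Finset.sum_congr rfl (g := fun _ => (1 : ℝ)) (fun a ha => by
        rw [norm_eq_one ρ hroot, one_pow]
        have ha1 : (a : G) ≠ 1 := fun h => (Finset.mem_erase.1 ha).1 (Subtype.ext h)
        have hoa : orderOf (a : G) = p :=
          orderOf_eq_prime (hexpA a a.2) ha1
        rw [(show Commute d (a : G) from hCmem.1 hd a a.2).orderOf_mul_eq_mul_orderOf_of_coprime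
          (by rw [hoa]; exact (hp.out.coprime_iff_not_dvd.2 hdp).symm), hoa]
        exact dvd_mul_left p _),
      OneMemClass.coe_one, mul_one, Finset.sum_const, Finset.card_erase_of_mem (Finset.mem_univ _),
      Finset.card_univ, ← Nat.card_eq_fintype_card, hAcard, Nat.add_sub_cancel,
      nsmul_eq_mul, mul_one] at hsum
    have hnorm : ‖ρ.character d‖ = (n : ℝ) := by
      refine (pow_left_inj₀ (norm_nonneg _) (Nat.cast_nonneg _) two_ne_zero).1 ?_
      push_cast at hsum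
      linarith
    obtain ⟨ω, hω⟩ := (CharBasic.IsChar.norm_eq_iff_scalar ρ d).1 (by
      rw [hnorm, Representation.char_one]; simp)
    refine Subgroup.mem_center_iff.2 fun g => hinjρ ?_
    rw [map_mul, map_mul, hω]
    ext v; simp
  -- the centraliser is `A` times the centre
  have hCsplit : ∀ c ∈ C, ∃ a ∈ A, ∃ z ∈ Subgroup.center G, c = a * z := by
    intro c hc
    obtain ⟨k, m, hpm, hord⟩ := Nat.exists_eq_pow_mul_and_not_dvd (orderOf_pos c).ne' p hp.out.ne_one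
    have h1 : c ^ m ∈ A := hCp _ (C.pow_mem hc m) k (by
      rw [← pow_mul, mul_comm, ← hord, pow_orderOf_eq_one])
    have h2 : c ^ p ^ k ∈ Subgroup.center G := hCd _ (C.pow_mem hc _) fun h => hpm (by
      refine h.trans (orderOf_dvd_of_pow_eq_one ?_)
      rw [← pow_mul, ← hord, pow_orderOf_eq_one])
    have hcop : Nat.Coprime m (p ^ k) :=
      ((hp.out.coprime_iff_not_dvd.2 hpm).symm).pow_right k
    have hb := Nat.gcd_eq_gcd_ab m (p ^ k)
    rw [hcop.gcd_eq_one] at hb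
    refine ⟨(c ^ m) ^ Nat.gcdA m (p ^ k), A.zpow_mem h1 _, (c ^ p ^ k) ^ Nat.gcdB m (p ^ k),
      Subgroup.zpow_mem _ h2 _, ?_⟩
    rw [← zpow_natCast c m, ← zpow_natCast c (p ^ k), ← zpow_mul, ← zpow_mul, ← zpow_add, ← hb,
      Nat.cast_one, zpow_one]
  have hAZ : A ⊓ Subgroup.center G = ⊥ := by
    rw [Subgroup.eq_bot_iff_forall]
    rintro a ⟨ha, haz⟩
    by_contra hne
    exact hzp a haz (by rw [orderOf_eq_prime (hexpA a ha) hne])
  by_cases hout : ∀ g : G, ∀ k : ℕ, g ^ p ^ k = 1 → g ∈ C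
  · -- `A` is a Sylow subgroup
    left
    have hall : ∀ g : G, ∀ k : ℕ, g ^ p ^ k = 1 → g ∈ A := fun g k h => hCp g (hout g k h) k h
    have hPA : Cfsg.pCore p G = A := le_antisymm (fun x hx => by
      obtain ⟨k, hk⟩ := hPp ⟨x, hx⟩
      exact hall x k (congrArg Subtype.val hk)) hAle
    obtain ⟨T⟩ : Nonempty (Sylow p G) := inferInstance
    have hTA : (T : Subgroup G) = A := le_antisymm (fun x hx => by
      obtain ⟨k, hk⟩ := T.isPGroup' ⟨x, hx⟩
      exact hall x k (congrArg Subtype.val hk)) ((hPA ▸ Cores.pCore_le_sylow T :))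
    rw [hPA]
    refine ⟨?_, ⟨hAc, hexpA⟩, ?_, hAZ, hAcard.symm⟩
    · rw [← hTA, T.card_eq_multiplicity, hp.out.factorization_pow, Finsupp.single_eq_same]
    · rw [← hCdef]
      refine le_antisymm (fun c hc => ?_) (sup_le (fun a ha => hCmem.2 fun b hb => hcomm a ha b hb)
        (fun z hz => hCmem.2 fun b _ => (Subgroup.mem_center_iff.1 hz b).symm))
      obtain ⟨a, ha, z, hz, rfl⟩ := hCsplit c hc
      exact mul_mem (Subgroup.mem_sup_left ha) (Subgroup.mem_sup_right hz)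
  · right
    push Not at hout
    obtain ⟨g₀, k₀, hk₀, hg₀⟩ := hout
    obtain ⟨g, hgC, hgp, j, hgj⟩ := exists_mem_pow_mem C k₀ g₀ hg₀ hk₀
    have hgA : g ∉ A := fun h => hgC (hCmem.2 fun b hb => hcomm g h b hb)
    have hga : ∀ a : A, p ∣ orderOf (g * (a : G)) := by
      intro a
      have hne : g * (a : G) ≠ 1 := fun h => hgA (by
        rw [eq_inv_of_mul_eq_one_left h]; exact A.inv_mem a.2)
      have h1 : (g * (a : G)) ^ p ^ j ∈ A := by
        rw [← QuotientGroup.eq_one_iff, QuotientGroup.mk_pow, QuotientGroup.mk_mul,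
          (QuotientGroup.eq_one_iff (a : G)).2 a.2, mul_one, ← QuotientGroup.mk_pow, hgj]
        rfl
      obtain ⟨i, hi⟩ := hAp ⟨_, h1⟩
      refine dvd_orderOf_of_pow_pow_eq_one (k := j + i) ?_ hne
      rw [pow_add, pow_mul]
      exact congrArg Subtype.val hi
    have hsum := sum_norm_sq ρ g hm
    rw [Finset.sum_congr rfl (g := fun _ => (1 : ℝ)) (fun a _ => by
      rw [norm_eq_one ρ hroot (hga a), one_pow]), Finset.sum_const, Finset.card_univ,
      ← Nat.card_eq_fintype_card, nsmul_eq_mul, mul_one] at hsum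
    have hone : (Finset.univ.filter fun θ : Cfsg.IrrCharacter A => IsFix g θ ∧ θ ≠ triv).card = 1 := by
      have hpos : (0 : ℝ) < Nat.card A := Nat.cast_pos.2 Nat.card_pos
      have := (mul_eq_left₀ hpos.ne').1 hsum.symm
      exact_mod_cast this
    have hker2 : Nat.card (delta (A := A) g).ker = 2 := by
      rw [← card_fix g]
      have htrivfix : IsFix g (triv : Cfsg.IrrCharacter A) := fun b => rfl
      rw [← Finset.card_erase_add_one (s := Finset.univ.filter fun θ : Cfsg.IrrCharacter A => IsFix g θ)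
        (a := triv) (by simp [htrivfix])]
      rw [show (Finset.univ.filter fun θ : Cfsg.IrrCharacter A => IsFix g θ).erase triv
        = Finset.univ.filter fun θ : Cfsg.IrrCharacter A => IsFix g θ ∧ θ ≠ triv by
          ext θ; simp [and_comm], hone]
    have hp2 : p = 2 := by
      obtain ⟨i, hi⟩ := IsPGroup.iff_card.1 (hAp.to_subgroup (delta (A := A) g).ker)
      rw [hker2] at hi
      rcases Nat.eq_zero_or_pos i with rfl | hipos
      · simp at hi
      · exact (Nat.prime_dvd_prime_iff_eq hp.out Nat.prime_two).1 (hi ▸ dvd_pow_self p hipos.ne')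
    subst hp2
    have hg2A : g ^ 2 ∈ A := hCp _ hgp j (by rw [← pow_mul, mul_comm, pow_mul, hgj, one_pow])
    have hrange : (delta (A := A) g).range ≤ (delta (A := A) g).ker := by
      rintro _ ⟨b, rfl⟩
      rw [MonoidHom.mem_ker]
      refine Subtype.ext ?_
      show g⁻¹ * (g⁻¹ * (b : G) * g⁻¹⁻¹ * (b : G)⁻¹) * g⁻¹⁻¹ * (g⁻¹ * (b : G) * g⁻¹⁻¹ * (b : G)⁻¹)⁻¹ = 1
      rw [inv_inv]
      have h2b : (g ^ 2) * (b : G) = b * g ^ 2 := hcomm _ hg2A _ b.2
      have hconj : g⁻¹ * b * g ∈ A := by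
        simpa using Subgroup.Normal.conj_mem hAn _ b.2 g⁻¹
      have hb2 : (b : G) * b = 1 := by rw [← sq]; exact hexpA _ b.2
      have hc2 : (g⁻¹ * b * g) * (g⁻¹ * b * g) = 1 := by rw [← sq]; exact hexpA _ hconj
      have hg2b : g⁻¹ * (g⁻¹ * b * g) * g = b := by
        calc g⁻¹ * (g⁻¹ * b * g) * g = (g ^ 2)⁻¹ * (b * g ^ 2) := by rw [sq]; group
          _ = b := by rw [← h2b, inv_mul_cancel_left]
      have hbc := hcomm _ b.2 _ hconj
      calc g⁻¹ * (g⁻¹ * b * g * (b : G)⁻¹) * g * (g⁻¹ * b * g * (b : G)⁻¹)⁻¹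
          = g⁻¹ * (g⁻¹ * b * g) * g * (g⁻¹ * b * g)⁻¹ * ((b : G) * (g⁻¹ * b * g)⁻¹) := by group
        _ = (b : G) * (g⁻¹ * b * g)⁻¹ * ((b : G) * (g⁻¹ * b * g)⁻¹) := by rw [hg2b]
        _ = (b : G) * (g⁻¹ * b * g) * ((b : G) * (g⁻¹ * b * g)) := by
            rw [inv_eq_of_mul_eq_one_right hc2]
        _ = ((b : G) * b) * ((g⁻¹ * b * g) * (g⁻¹ * b * g)) := by
            rw [mul_assoc, ← mul_assoc (g⁻¹ * b * g), ← hbc]; group
        _ = 1 := by rw [hb2, hc2, one_mul]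
    have hA4 : Nat.card A = 4 := by
      have h1 : Nat.card (delta (A := A) g).range ∣ 2 := hker2 ▸ Subgroup.card_dvd_of_le hrange
      have h2 : Nat.card A = 2 * Nat.card (delta (A := A) g).range := by
        rw [← hker2, ← Subgroup.index_ker, (delta (A := A) g).ker.card_mul_index]
      rcases (Nat.dvd_prime Nat.prime_two).1 h1 with h | h
      · rw [h, hAcard] at h2; omega
      · rw [h2, h]
    refine ⟨rfl, ?_, ?_⟩
    · rw [Nat.odd_iff, ← Nat.not_even_iff, even_iff_two_dvd]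
      intro h2
      obtain ⟨z, hz⟩ := exists_prime_orderOf_dvd_card' (G := Subgroup.center G) 2 h2
      exact hzp z z.2 (by rw [Subgroup.orderOf_coe, hz])
    · have hn3 : n = 3 := by omega
      obtain ⟨θ, hθ⟩ : ∃ θ : Cfsg.IrrCharacter A, θ ≠ triv := by
        obtain ⟨θ, hθ⟩ := Finset.card_pos.1 (hone ▸ Nat.one_pos)
        exact ⟨θ, (Finset.mem_filter.1 hθ).2.2⟩
      have hne : Cfsg.classInner (fun a : A => ρ.character a) (θ : A → ℂ) ≠ 0 := by
        rw [hm θ, if_neg hθ]; exact one_ne_zero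
      have hdeg := CharInduce.clifford_degree A (CharBasic.isIrrCharacter_character ρ) θ.2 hne
      rw [hm θ, if_neg hθ, irr_one, one_mul, mul_one, Representation.char_one] at hdeg
      have hidx : (CharInduce.inertia A (θ : A → ℂ)).index = 3 := by
        have h5 : finrank ℂ (Fin n → ℂ) = (CharInduce.inertia A (θ : A → ℂ)).index := by
          exact_mod_cast hdeg
        simpa [hn3] using h5.symm
      have hle : C ≤ CharInduce.inertia A (θ : A → ℂ) := by
        intro c hc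
        rw [CharInduce.mem_inertia]
        funext a
        refine congrArg (θ : A → ℂ) (Subtype.ext ?_)
        show c * (a : G) * c⁻¹ = a
        rw [hCmem.1 hc a a.2, mul_inv_cancel_right]
      exact exists_symmFour A hA4 _ le_rfl hAZ (fun c hc => hCsplit c (hCmem.2 hc)) g hg2A
        (fun h => hgC (hCmem.2 h)) (hCdef ▸ hidx ▸ Subgroup.index_dvd_of_le hle)

end Cfsg.Agent.H73.RootUnity
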