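import Cfsg.Agent.H73.RootUnityCore
import Cfsg.Agent.Cores.PCore
import Cfsg.Prelude.Def_Transfer
import Mathlib.GroupTheory.SpecificGroups.Cyclic
import Mathlib.GroupTheory.Sylow

/-!
# Faithful characters with roots of unity on `p`-singular elements
-/

open scoped ComplexConjugate
open Module

namespace Cfsg.Agent.H73.RootUnity

open Cfsg.Agent

universe u

variable {G : Type u} [Group G] [Fintype G] {n : ℕ} (ρ : Representation ℂ G (Fin n → ℂ))
variable {p : ℕ} [hp : Fact p.Prime]

omit [Fintype G] in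
theorem dvd_orderOf_of_pow_pow_eq_one {g : G} {k : ℕ} (h : g ^ p ^ k = 1) (h1 : g ≠ 1) :
    p ∣ orderOf g := by
  obtain ⟨i, -, hi⟩ := (Nat.dvd_prime_pow hp.out).1 (orderOf_dvd_of_pow_eq_one h)
  rcases Nat.eq_zero_or_pos i with rfl | hpos
  · rw [pow_zero, orderOf_eq_one_iff] at hi; exact absurd hi h1
  · rw [hi]; exact dvd_pow_self p hpos.ne'

theorem norm_eq_one (hroot : ∀ g : G, p ∣ orderOf g → ∃ k : ℕ, 0 < k ∧ ρ.character g ^ k = 1)
    {g : G} (hg : p ∣ orderOf g) : ‖ρ.character g‖ = 1 := by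
  obtain ⟨k, hk, h⟩ := hroot g hg
  exact Complex.norm_eq_one_of_pow_eq_one h hk.ne'

omit [Fintype G] in
theorem rho_injective (hfaith : ∀ g : G, ρ.character g = ρ.character 1 → g = 1) :
    Function.Injective ρ := by
  intro x y h
  have h1 : ρ (y⁻¹ * x) = 1 := by rw [map_mul, h, ← map_mul, inv_mul_cancel, map_one]
  have h2 : y⁻¹ * x = 1 := hfaith _ (by simp only [Representation.character, h1, map_one])
  exact (inv_mul_eq_one.1 h2).symm

omit [Fintype G] in
/-- No central element is `p`-singular. -/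
theorem not_dvd_orderOf_central [Finite G] [ρ.IsIrreducible] (hn : n ≠ 1)
    (hroot : ∀ g : G, p ∣ orderOf g → ∃ k : ℕ, 0 < k ∧ ρ.character g ^ k = 1)
    {z : G} (hz : z ∈ Subgroup.center G) : ¬ p ∣ orderOf z := by
  cases nonempty_fintype G
  intro h
  obtain ⟨ω, -, hω, hchar⟩ := CharBasic.exists_central_scalar ρ hz
  have h1 := norm_eq_one ρ hroot h
  have := hchar 1
  rw [one_mul, Representation.char_one] at this
  rw [this, norm_mul, hω, one_mul, Complex.norm_natCast] at h1
  exact hn (by simpa using h1)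

open scoped Classical in
/-- Every non-trivial abelian normal `p`-subgroup has order `χ(1) + 1`, and the restriction of
the character to it is the sum of all non-principal linear characters. -/
theorem structure_of_abelian_normal [ρ.IsIrreducible] (hn : n ≠ 1)
    (hfaith : ∀ g : G, ρ.character g = ρ.character 1 → g = 1)
    (hroot : ∀ g : G, p ∣ orderOf g → ∃ k : ℕ, 0 < k ∧ ρ.character g ^ k = 1)
    (B : Subgroup G) [B.Normal] [IsMulCommutative B] [Fintype B] (hB : IsPGroup p B)
    (hne : B ≠ ⊥) :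
    Nat.card B = n + 1 ∧ ∀ θ : Cfsg.IrrCharacter B,
      Cfsg.classInner (fun a : B => ρ.character a) (θ : B → ℂ) = if θ = triv then 0 else 1 := by
  set χ : G → ℂ := ρ.character with hχdef
  have hχ : Cfsg.IsIrrCharacter G χ := CharBasic.isIrrCharacter_character ρ
  have hχc : Cfsg.IsCharacter G χ := CharBasic.IsIrr.isCharacter hχ
  set R : B → ℂ := fun a => χ a with hR
  have hRc : Cfsg.IsCharacter B R := CharInduce.IsChar.res hχc B
  choose m hm using fun θ : Cfsg.IrrCharacter B =>
    CharBasic.classInner_isChar_nat hRc (CharBasic.IsIrr.isCharacter θ.2)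
  have hexp := CharBasic.classFunction_expansion (CharBasic.IsChar.isClassFunction hRc)
  simp only [hm] at hexp
  -- degree
  have hn0 : 0 < n := by
    simpa using CharBasic.finrank_pos_of_isIrreducible ρ
  have hχ1 : χ 1 = n := by simp [hχdef]
  have hsum : ∑ θ, m θ = n := by
    have := congrFun hexp 1
    simp only [hR, OneMemClass.coe_one, hχ1, Finset.sum_apply, Pi.smul_apply, smul_eq_mul,
      irr_one, mul_one] at this
    exact_mod_cast this.symm
  -- the trivial character does not occur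
  have htriv : m triv = 0 := by
    by_contra hne0
    have h1 : Cfsg.classInner (fun a : B => χ a) (triv : Cfsg.IrrCharacter B).1 ≠ 0 := by
      rw [show Cfsg.classInner (fun a : B => χ a) (triv : Cfsg.IrrCharacter B).1 = m triv from
        hm triv]
      exact_mod_cast hne0
    refine hne ((Subgroup.eq_bot_iff_forall _).2 fun b hb => hfaith b ?_)
    have hzero : ∀ θ : Cfsg.IrrCharacter B, θ ≠ triv → m θ = 0 := by
      intro θ hθ
      by_contra h2
      obtain ⟨x, hx⟩ := CharInduce.exists_conjFun_eq_of_constituent B hχ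
        (triv : Cfsg.IrrCharacter B).2 θ.2 h1 (by
          rw [show Cfsg.classInner (fun a : B => χ a) (θ : B → ℂ) = m θ from hm θ]
          exact_mod_cast h2)
      exact hθ (Subtype.ext hx)
    have hb1 := congrFun hexp ⟨b, hb⟩
    have hb2 := congrFun hexp 1
    simp only [hR, OneMemClass.coe_one, Finset.sum_apply, Pi.smul_apply, smul_eq_mul] at hb1 hb2
    rw [Finset.sum_eq_single triv (fun θ _ hθ => by simp [hzero θ hθ]) (by simp)] at hb1 hb2
    rw [hb1, hb2]
    rfl
  -- the norm
  obtain ⟨b, hb⟩ : ∃ b, b = Nat.card B := ⟨_, rfl⟩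
  have hnorm : b * ∑ θ, m θ ^ 2 + 1 = n ^ 2 + b := by
    have hP := CharBasic.classInner_eq_sum (ψ := R) (CharBasic.IsChar.isClassFunction hRc)
    rw [CharBasic.classInner_def, inv_mul_eq_iff_eq_mul₀ (Nat.cast_ne_zero.2 Nat.card_pos.ne'),
      ← Finset.add_sum_erase _ _ (Finset.mem_univ (1 : B))] at hP
    have h1 : ∀ a ∈ (Finset.univ.erase (1 : B)), R a * conj (R a) = 1 := by
      intro a ha
      obtain ⟨k, hk⟩ := hB a
      rw [Complex.mul_conj', norm_eq_one ρ hroot (dvd_orderOf_of_pow_pow_eq_one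
        (k := k) (by rw [← SubmonoidClass.coe_pow, hk, OneMemClass.coe_one])
        (fun he => (Finset.mem_erase.1 ha).1 (Subtype.ext he)))]
      simp
    rw [Finset.sum_congr rfl h1] at hP
    simp only [hm] at hP
    simp only [Complex.conj_natCast, hR, OneMemClass.coe_one, hχ1, Finset.sum_const,
      Finset.card_erase_of_mem (Finset.mem_univ _), Finset.card_univ, nsmul_eq_mul, mul_one,
      ← Nat.card_eq_fintype_card, ← hb] at hP
    have hP' : n * n + (b - 1) = b * ∑ θ, m θ * m θ := by exact_mod_cast hP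
    have hb1 : 1 ≤ b := hb ▸ Nat.card_pos
    simp only [sq]
    omega
  have hcard : (Finset.univ.erase (triv : Cfsg.IrrCharacter B)).card + 1 = b := by
    rw [Finset.card_erase_add_one (Finset.mem_univ _), Finset.card_univ, ← Nat.card_eq_fintype_card,
      card_irr, hb]
  have hsum' : ∑ θ ∈ Finset.univ.erase (triv : Cfsg.IrrCharacter B), m θ = n := by
    rw [Finset.sum_erase _ htriv, hsum]
  have hsq' : ∑ θ ∈ Finset.univ.erase (triv : Cfsg.IrrCharacter B), m θ ^ 2 = ∑ θ, m θ ^ 2 :=
    Finset.sum_erase _ (by simp [htriv])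
  have hCS := sq_sum_le_card_mul_sum_sq (s := Finset.univ.erase (triv : Cfsg.IrrCharacter B))
    (f := m)
  rw [hsum', hsq'] at hCS
  have hge : n ≤ ∑ θ, m θ ^ 2 := by
    rw [← hsum]; exact Finset.sum_le_sum fun θ _ => Nat.le_self_pow two_ne_zero _
  set d := (Finset.univ.erase (triv : Cfsg.IrrCharacter B)).card with hd
  set S := ∑ θ, m θ ^ 2 with hS
  subst hcard
  have hd_le : d ≤ n := by
    by_contra hlt
    have h1 : (d + 1) * n + 1 ≤ n ^ 2 + (d + 1) := by
      rw [← hnorm]; exact Nat.add_le_add_right (Nat.mul_le_mul_left _ hge) _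
    have h2 : n + 1 ≤ d := by omega
    have h3 : 2 ≤ n := by omega
    nlinarith [Nat.mul_le_mul_left (d - n) h3]
  have hle_d : n ≤ d := by
    by_contra hlt
    have h2 : d + 1 ≤ n := by omega
    nlinarith
  have hnd : d = n := le_antisymm hd_le hle_d
  refine ⟨by rw [← hb, hnd], fun θ => ?_⟩
  have hSn : S = n := by
    rw [hnd] at hnorm
    have : (n + 1) * S = (n + 1) * n := by nlinarith
    exact Nat.eq_of_mul_eq_mul_left n.succ_pos this
  have hle1 : ∀ θ, m θ ≤ 1 := by
    intro θ
    have := (Finset.sum_eq_sum_iff_of_le (s := Finset.univ) (f := m)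
      (g := fun θ => m θ ^ 2) fun θ _ => Nat.le_self_pow two_ne_zero _).1
        (by rw [hsum]; exact hSn.symm) θ (Finset.mem_univ _)
    by_contra hlt
    have : 2 * m θ ≤ m θ ^ 2 := by rw [sq]; exact Nat.mul_le_mul_right _ (by omega)
    omega
  rw [hm θ]
  split_ifs with hθ
  · rw [hθ, htriv, Nat.cast_zero]
  · have := (Finset.sum_eq_sum_iff_of_le (s := Finset.univ.erase (triv : Cfsg.IrrCharacter B))
      (f := m) (g := fun _ => 1) fun θ _ => hle1 θ).1 (by simp [hsum', ← hd, hnd]) θ
        (Finset.mem_erase.2 ⟨hθ, Finset.mem_univ _⟩)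
    rw [this, Nat.cast_one]

omit [Fintype G] in
/-- Transitivity on the non-principal linear characters. -/
theorem transitive_linear [Finite G] [ρ.IsIrreducible] (hn : n ≠ 1)
    (hfaith : ∀ g : G, ρ.character g = ρ.character 1 → g = 1)
    (hroot : ∀ g : G, p ∣ orderOf g → ∃ k : ℕ, 0 < k ∧ ρ.character g ^ k = 1)
    (B : Subgroup G) [B.Normal] [IsMulCommutative B] (hB : IsPGroup p B)
    (hne : B ≠ ⊥) (lam mu : B → ℂ) (hl : Cfsg.IsCharacter B lam) (hl1 : lam 1 = 1)
    (hlne : lam ≠ fun _ => (1 : ℂ)) (hmu : Cfsg.IsCharacter B mu) (hmu1 : mu 1 = 1)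
    (hmne : mu ≠ fun _ => (1 : ℂ)) :
    ∃ g : G, ∀ (x : G) (hx : x ∈ B) (hgx : g * x * g⁻¹ ∈ B),
      mu ⟨x, hx⟩ = lam ⟨g * x * g⁻¹, hgx⟩ := by
  cases nonempty_fintype G
  haveI := Fintype.ofFinite B
  classical
  have hirr : ∀ f : B → ℂ, Cfsg.IsCharacter B f → f 1 = 1 → Cfsg.IsIrrCharacter B f := by
    intro f hf hf1
    obtain ⟨l, hlf⟩ := CharInduce.IsChar.exists_hom_of_degree_one hf hf1
    rw [show f = fun b => (l b : ℂ) from funext hlf]
    exact CharInduce.isIrrCharacter_hom l
  obtain ⟨-, hm⟩ := structure_of_abelian_normal ρ hn hfaith hroot B hB hne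
  obtain ⟨g, hg⟩ := CharInduce.exists_conjFun_eq_of_constituent B
    (CharBasic.isIrrCharacter_character ρ) (hirr lam hl hl1) (hirr mu hmu hmu1)
    (by rw [hm ⟨lam, hirr lam hl hl1⟩, if_neg fun h => hlne (congrArg Subtype.val h)]
        exact one_ne_zero)
    (by rw [hm ⟨mu, hirr mu hmu hmu1⟩, if_neg fun h => hmne (congrArg Subtype.val h)]
        exact one_ne_zero)
  exact ⟨g, fun x hx hgx => congrFun hg ⟨x, hx⟩⟩

end Cfsg.Agent.H73.RootUnity
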